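import Mathlib

/-!
# Arithmetic for the constant difference theorem
-/

set_option autoImplicit false

namespace CfsgLib.Block.ConstDiff

theorem succ_cube_lt : ∀ n : ℕ, 4 ≤ n → (n + 1) ^ 3 < 4 ^ n := by
  intro n hn
  induction n, hn using Nat.le_induction with
  | base => norm_num
  | succ n hn ih =>
    have h2 : (n + 2) ^ 3 ≤ 4 * (n + 1) ^ 3 := by nlinarith [Nat.mul_le_mul hn hn]
    calc (n + 1 + 1) ^ 3 = (n + 2) ^ 3 := by ring
      _ ≤ 4 * (n + 1) ^ 3 := h2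
      _ < 4 * 4 ^ n := by omega
      _ = 4 ^ (n + 1) := by ring

theorem quotient_bounds {n r c : ℕ} (hn : 4 ≤ n) (hrc : r * c = 2 ^ n) (hc : c ^ 3 ≤ 2 ^ n) :
    4 < r ∧ n + 1 < r := by
  have h1 : 4 ^ n ≤ r ^ 3 := by
    have e : r ^ 3 * c ^ 3 = 4 ^ n * 2 ^ n := by
      rw [← mul_pow, hrc, ← mul_pow, ← pow_mul, show (4 * 2 : ℕ) = 2 ^ 3 by norm_num, ← pow_mul,
        mul_comm]
    have hpos : 0 < 2 ^ n := Nat.two_pow_pos n
    exact Nat.le_of_mul_le_mul_right (by rw [← e]; exact Nat.mul_le_mul_left _ hc) hpos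
  constructor
  · by_contra h
    have h4 : r ^ 3 ≤ 4 ^ 3 := Nat.pow_le_pow_left (by omega) 3
    have : 4 ^ 4 ≤ 4 ^ n := Nat.pow_le_pow_right (by norm_num) hn
    omega
  · by_contra h
    have h4 : r ^ 3 ≤ (n + 1) ^ 3 := Nat.pow_le_pow_left (by omega) 3
    have := succ_cube_lt n hn
    omega

theorem small_sq_le : ∀ n : ℕ, 4 ≤ n → n * (n - 3) ^ 2 + 2 ≤ 2 ^ n := by
  intro n hn
  by_cases h : n < 11
  · interval_cases n <;> norm_num
  · obtain ⟨m, rfl⟩ : ∃ m, n = m + 11 := ⟨n - 11, by omega⟩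
    clear hn h
    induction m with
    | zero => norm_num
    | succ m ih =>
      rw [show m + 1 + 11 = (m + 11) + 1 by ring, pow_succ 2 (m + 11)]
      have h2 : (m + 11 + 1) * (m + 11 + 1 - 3) ^ 2 + 2 ≤ 2 * ((m + 11) * (m + 11 - 3) ^ 2 + 2) := by
        rw [show m + 11 + 1 - 3 = m + 9 by omega, show m + 11 - 3 = m + 8 by omega]
        nlinarith
      omega

theorem cube_bound {n f : ℕ} (hn : 3 ≤ n) (hf : 1 ≤ f) (h : (f + 1) ^ 3 ≤ 2 ^ n) :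
    n * f ^ 2 + 2 ≤ 2 ^ n + f := by
  by_cases hnf : n ≤ f + 2
  · have h1 : n * f ^ 2 ≤ (f + 2) * f ^ 2 := Nat.mul_le_mul_right _ hnf
    nlinarith
  · have h2 := small_sq_le n (by omega)
    have h3 : f ^ 2 ≤ (n - 3) ^ 2 := Nat.pow_le_pow_left (by omega) 2
    have h4 : n * f ^ 2 ≤ n * (n - 3) ^ 2 := Nat.mul_le_mul_left _ h3
    omega

/-- The final inequality. -/
theorem count_false {n : ℕ} {d f : ℕ} {J X : ℤ} (hd : 3 ≤ d) (hdn : d ≤ n) (hf : 2 ≤ f)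
    (hfq : f ^ 3 ≤ 2 ^ n) (hJ0 : 0 ≤ J) (hJ : J ≤ (d : ℤ) * f - 1 - d)
    (hX : X = (d : ℤ) * ((2 : ℤ) ^ n - 1) - 1) (hXJ : X ≤ J * (J + 1)) : False := by
  obtain ⟨g, rfl⟩ : ∃ g, f = g + 1 := ⟨f - 1, by omega⟩
  have h1 := cube_bound (n := n) (f := g) (by omega) (by omega) hfq
  have h2 : (n : ℤ) * (g : ℤ) ^ 2 + 2 ≤ (2 : ℤ) ^ n + g := by exact_mod_cast h1
  have h3 : (d : ℤ) * (g : ℤ) ^ 2 ≤ (n : ℤ) * (g : ℤ) ^ 2 :=
    mul_le_mul_of_nonneg_right (by exact_mod_cast hdn) (by positivity)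
  have hg : (1 : ℤ) ≤ g := by exact_mod_cast (show 1 ≤ g by omega)
  have hd' : (3 : ℤ) ≤ d := by exact_mod_cast hd
  push_cast at hJ
  have h4 : J + 1 ≤ (d : ℤ) * g := by linarith
  have h5 : J * (J + 1) ≤ ((d : ℤ) * g - 1) * ((d : ℤ) * g) :=
    mul_le_mul (by linarith) h4 (by linarith) (by nlinarith)
  have h6 : ((d : ℤ) * g - 1) * ((d : ℤ) * g) = (d : ℤ) * ((d : ℤ) * (g : ℤ) ^ 2 - g) := by ring
  have h7 : (d : ℤ) * ((d : ℤ) * (g : ℤ) ^ 2 - g) ≤ (d : ℤ) * ((2 : ℤ) ^ n - 2) :=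
    mul_le_mul_of_nonneg_left (by linarith) (by linarith)
  linarith

theorem sum_le_sq {ι : Type*} (s : Finset ι) (j : ι → ℤ) (h : ∀ i ∈ s, 0 ≤ j i) :
    ∑ i ∈ s, j i * (j i + 1) ≤ (∑ i ∈ s, j i) * ((∑ i ∈ s, j i) + 1) := by
  classical
  induction s using Finset.induction_on with
  | empty => simp
  | insert a s ha ih =>
    rw [Finset.sum_insert ha, Finset.sum_insert ha]
    have h1 := ih fun i hi => h i (Finset.mem_insert_of_mem hi)
    have h2 := h a (Finset.mem_insert_self a s)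
    have h3 : 0 ≤ ∑ i ∈ s, j i := Finset.sum_nonneg fun i hi => h i (Finset.mem_insert_of_mem hi)
    nlinarith [mul_nonneg h2 h3]

end CfsgLib.Block.ConstDiff
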