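import Cfsg.Agent.Lib.OddConseq.OddTransitive
import Cfsg.Agent.Lib.Coprime.Component
import Mathlib.FieldTheory.Fixed

/-!
# Stabilisers in transitive linear groups of odd order

A point stabiliser has at most `dim V` elements, and a nontrivial one of its elements fixes a
subspace of order at most the cube root of `|V|`.
-/

set_option autoImplicit false
set_option linter.unusedSectionVars false
set_option linter.style.haveILetI false

open Module
open CfsgLib.Char

namespace CfsgLib.Block.ConstDiff

universe u

variable {V : Type*} [AddCommGroup V] [Module (ZMod 2) V] [Finite V] [Nontrivial V]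
  {D : Type u} [Group D] [Finite D] (ρ : D →* (V ≃ₗ[ZMod 2] V))

/-- Conjugation on the span of a normal subgroup. -/
def spanConj {A : Subgroup D} [A.Normal] (g : D) : spanAlg ρ A →ₐ[ZMod 2] spanAlg ρ A :=
  ((conjEnd ρ g).comp (spanAlg ρ A).val).codRestrict _ fun r => conjEnd_mem_spanAlg ρ g r.2

theorem coe_spanConj {A : Subgroup D} [A.Normal] (g : D) (r : spanAlg ρ A) :
    (spanConj ρ g r : Module.End (ZMod 2) V) = conjEnd ρ g r := rfl

theorem stabilizer_data [Group.IsSolvable D] (hodd : Odd (Nat.card D)) (hρ : Function.Injective ρ)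
    (htr : ∀ v w : V, v ≠ 0 → w ≠ 0 → ∃ g : D, ρ g v = w) {a : V} (ha : a ≠ 0) :
    Nat.card {g : D // ρ g a = a} ≤ finrank (ZMod 2) V ∧
      ∀ g : D, g ≠ 1 → ρ g a = a → Nat.card {v : V // ρ g v = v} ^ 3 ≤ Nat.card V := by
  classical
  haveI : Fact (Nat.Prime 2) := ⟨Nat.prime_two⟩
  obtain ⟨hcyc, hfpf, -⟩ := OddConseq.odd_transitive_structure ρ hodd hρ htr
  haveI : (Cfsg.fittingSubgroup D).Normal := CfsgLib.Coprime.fitting_normal
  set F := Cfsg.fittingSubgroup D with hF
  have hFc : ∀ x ∈ F, ∀ z ∈ F, x * z = z * x := fun x hx z hz => by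
    haveI := hcyc
    letI := IsCyclic.commGroup (α := F)
    exact congrArg Subtype.val (mul_comm (⟨x, hx⟩ : F) ⟨z, hz⟩)
  haveI := finite_moduleEnd (q := 2) (V := V)
  set K := spanAlg ρ F with hK
  have hfld : IsField K := spanAlg_isField ρ htr F hFc
  letI : Field K := hfld.toField
  haveI : Finite K := Subtype.finite
  haveI : FiniteDimensional (ZMod 2) K := Module.Finite.of_finite
  -- the automorphism determines the element
  have hsep : ∀ g : D, (spanConj ρ (A := F) g = AlgHom.id _ _) → ρ g a = a → g = 1 := by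
    intro g hg hga
    have hgF : g ∈ F := CfsgLib.Coprime.centralizer_fitting_le (Subgroup.mem_centralizer_iff.mpr
      fun x hx => by
        have e := congrArg Subtype.val (DFunLike.congr_fun hg ⟨toEndHom ρ x, toEndHom_mem_spanAlg ρ hx⟩)
        rw [coe_spanConj, conjEnd_toEndHom] at e
        have := toEndHom_injective hρ e
        exact (mul_inv_eq_iff_eq_mul.mp this).symm)
    by_contra hg1
    exact ha (hfpf g hgF hg1 a hga)
  have hmul : ∀ g g' : D, ∀ r, spanConj ρ (A := F) (g * g') r =
      spanConj ρ g (spanConj ρ g' r) := fun g g' r => Subtype.ext (conjEnd_mul ρ g g' r)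
  have hone : spanConj ρ (A := F) (1 : D) = AlgHom.id _ _ :=
    AlgHom.ext fun r => Subtype.ext (conjEnd_one ρ r)
  refine ⟨?_, fun g hg1 hga => ?_⟩
  · have h1 : Nat.card {g : D // ρ g a = a} ≤ Nat.card (K →ₐ[ZMod 2] K) := by
      refine Nat.card_le_card_of_injective (fun g => spanConj ρ (A := F) g.1) fun g g' e => ?_
      refine Subtype.ext (inv_mul_eq_one.mp (hsep _ (AlgHom.ext fun r => ?_) ?_))
      · rw [hmul, show spanConj ρ g'.1 r = spanConj ρ g.1 r from (DFunLike.congr_fun e r).symm,
          ← hmul, inv_mul_cancel, hone]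
      · rw [map_mul, map_inv]
        show (ρ g.1).symm (ρ g'.1 a) = a
        rw [g'.2, LinearEquiv.symm_apply_eq, g.2]
    have h2 : Nat.card (K →ₐ[ZMod 2] K) ≤ finrank (ZMod 2) K := by
      rw [Nat.card_eq_fintype_card]
      exact AlgHom.card_le (F := ZMod 2) (K := K)
    have h3 : finrank (ZMod 2) K ≤ finrank (ZMod 2) V := by
      refine LinearMap.finrank_le_finrank_of_injective
        (f := (LinearMap.applyₗ a : Module.End (ZMod 2) V →ₗ[ZMod 2] V).comp K.val.toLinearMap)
        ((injective_iff_map_eq_zero _).mpr fun r hr => ?_)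
      by_contra hr0
      obtain ⟨s, hs⟩ := hfld.mul_inv_cancel hr0
      rw [hfld.mul_comm] at hs
      have h4 := DFunLike.congr_fun (congrArg Subtype.val hs) a
      have hr' : (r : Module.End (ZMod 2) V) a = 0 := hr
      simp only [MulMemClass.coe_mul, Module.End.mul_apply, hr', map_zero, OneMemClass.coe_one,
        Module.End.one_apply] at h4
      exact ha h4.symm
    exact h1.trans (h2.trans h3)
  · set σ := spanConj ρ (A := F) g with hσ
    obtain ⟨lam, hlam⟩ : ∃ r : K, σ r ≠ r := by
      by_contra! hall
      exact hg1 (hsep g (AlgHom.ext hall) hga)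
    have h01 : lam ≠ σ lam := Ne.symm hlam
    have hinj : Function.Injective σ := σ.toRingHom.injective
    have h12 : σ lam ≠ σ (σ lam) := fun e => h01 (hinj e)
    have h02 : lam ≠ σ (σ lam) := by
      intro e
      obtain ⟨m, hm⟩ := hodd
      have hg2 : spanConj ρ (A := F) (g * g) lam = lam := (hmul g g lam).trans e.symm
      have hpow : ∀ i : ℕ, spanConj ρ (A := F) ((g * g) ^ i) lam = lam := fun i => by
        induction i with
        | zero => rw [pow_zero, hone]; rfl
        | succ i ih => rw [pow_succ, hmul, hg2, ih]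
      have hgm : (g * g) ^ (m + 1) = g := by
        rw [← pow_two, ← pow_mul, show 2 * (m + 1) = (2 * m + 1) + 1 by ring, pow_succ,
          ← hm, pow_card_eq_one', one_mul]
      have := hpow (m + 1)
      rw [hgm] at this
      exact hlam this
    -- `(a, b, c) ↦ a + λ b + λ² c` is injective on fixed points
    set W := {v : V // ρ g v = v}
    have hstep : ∀ (r : K) (v : W), ρ g ((r : Module.End (ZMod 2) V) v.1) =
        (σ r : Module.End (ZMod 2) V) v.1 := fun r v => by
      rw [coe_spanConj, ← conjEnd_apply_smul ρ g r v.1, v.2]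
    have hker : ∀ x z w : V, ρ g x = x → ρ g z = z → ρ g w = w →
        x + (lam : Module.End (ZMod 2) V) z + ((lam * lam : K) : Module.End (ZMod 2) V) w = 0 →
        x = 0 ∧ z = 0 ∧ w = 0 := by
      intro x z w hx hz hw he
      have e1 : ∀ r : K, x + (r : Module.End (ZMod 2) V) z + ((r * r : K) : Module.End (ZMod 2) V) w = 0 →
          x + (σ r : Module.End (ZMod 2) V) z + ((σ r * σ r : K) : Module.End (ZMod 2) V) w = 0 := by
        intro r hr
        have h1 := congrArg (ρ g) hr
        rw [map_add, map_add, map_zero, hx, hstep r ⟨z, hz⟩, hstep (r * r) ⟨w, hw⟩, map_mul] at h1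
        exact h1
      have hcancel : ∀ (r : K) (v : V), r ≠ 0 → (r : Module.End (ZMod 2) V) v = 0 → v = 0 := by
        intro r v hr hv
        have h4 := DFunLike.congr_fun (congrArg Subtype.val (inv_mul_cancel₀ hr)) v
        simp only [MulMemClass.coe_mul, Module.End.mul_apply, hv, map_zero, OneMemClass.coe_one,
          Module.End.one_apply] at h4
        exact h4.symm
      have e2 : ∀ r s : K, r ≠ s →
          x + (r : Module.End (ZMod 2) V) z + ((r * r : K) : Module.End (ZMod 2) V) w = 0 →
          x + (s : Module.End (ZMod 2) V) z + ((s * s : K) : Module.End (ZMod 2) V) w = 0 →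
          z + ((r + s : K) : Module.End (ZMod 2) V) w = 0 := by
        intro r s hrs hr hs
        refine hcancel (r - s) _ (sub_ne_zero.mpr hrs) ?_
        have h2 := sub_eq_zero.mpr (hr.trans hs.symm)
        rw [map_add, ← Module.End.mul_apply, ← MulMemClass.coe_mul,
          show (r - s) * (r + s) = r * r - s * s by ring]
        simp only [AddSubgroupClass.coe_sub, LinearMap.sub_apply]
        rw [← h2]
        abel
      have e3 := e1 _ he
      have e4 := e1 _ e3
      have f1 := e2 _ _ h01 he e3
      have f2 := e2 _ _ h12 e3 e4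
      have hw0 : w = 0 := by
        refine hcancel (lam - σ (σ lam)) w (sub_ne_zero.mpr h02) ?_
        have h2 := sub_eq_zero.mpr (f1.trans f2.symm)
        simp only [AddSubgroupClass.coe_sub, LinearMap.sub_apply, AddMemClass.coe_add,
          LinearMap.add_apply] at h2 ⊢
        rw [← h2]
        abel
      subst hw0
      rw [map_zero, add_zero] at f1
      subst f1
      rw [map_zero, map_zero, add_zero, add_zero] at he
      exact ⟨he, rfl, rfl⟩
    calc Nat.card W ^ 3 = Nat.card (W × W × W) := by rw [Nat.card_prod, Nat.card_prod]; ring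
      _ ≤ Nat.card V := Nat.card_le_card_of_injective
          (fun p => p.1.1 + (lam : Module.End (ZMod 2) V) p.2.1.1 +
            ((lam * lam : K) : Module.End (ZMod 2) V) p.2.2.1) (by
        rintro ⟨⟨x, hx⟩, ⟨z, hz⟩, ⟨w, hw⟩⟩ ⟨⟨x', hx'⟩, ⟨z', hz'⟩, ⟨w', hw'⟩⟩ he
        obtain ⟨a1, a2, a3⟩ := hker (x - x') (z - z') (w - w') (by rw [map_sub, hx, hx'])
          (by rw [map_sub, hz, hz']) (by rw [map_sub, hw, hw']) (by
            rw [map_sub, map_sub]
            simp only at he
            linear_combination (norm := abel) he)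
        rw [sub_eq_zero] at a1 a2 a3
        subst a1 a2 a3
        rfl)

end CfsgLib.Block.ConstDiff
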