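import Cfsg.Agent.Lib.Block.ConstDiff.Setup
import Cfsg.Agent.Lib.Block.ConstDiff.Semilinear
import Cfsg.Agent.Lib.FT.NoMinSimple

/-!
# The automizer of `S`
-/

set_option autoImplicit false
set_option linter.unusedSectionVars false
set_option linter.style.haveILetI false
set_option linter.unusedSimpArgs false

open Cfsg
open Module

namespace CfsgLib.Block.ConstDiff

universe u

variable {M : Ideal AlgInt} [M.IsMaximal] {G : Type u} [Group G] [Fintype G] [DecidableEq G]
  {u t y : G} {S : Sylow 2 G}

local notation "SS" => ((S : Subgroup G))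

namespace Setup

variable (h : Setup M u t y S)
include h

/-- The bounds coming from the field of the automizer. -/
theorem automizer_data {n : ℕ} (hn : Nat.card SS = 2 ^ n) {a : G} (ha : a ∈ SS) (ha1 : a ≠ 1) :
    (Subgroup.centralizer (SS : Set G)).relIndex
        (Subgroup.normalizer (SS : Set G) ⊓ Subgroup.centralizer {a}) ≤ n ∧
      ∀ g ∈ Subgroup.normalizer (SS : Set G), g ∈ Subgroup.centralizer ({a} : Set G) →
        g ∉ Subgroup.centralizer (SS : Set G) →
        Nat.card ↥(SS ⊓ Subgroup.centralizer ({g} : Set G)) ^ 3 ≤ Nat.card SS := by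
  classical
  haveI : Fact (Nat.Prime 2) := ⟨Nat.prime_two⟩
  set N := Subgroup.normalizer (SS : Set G) with hN
  letI : CommGroup SS := { (inferInstance : Group SS) with
    mul_comm := fun x z => Subtype.ext (h.mul_comm_mem x.2 z.2) }
  letI : Module (ZMod 2) (Additive SS) := AddCommGroup.zmodModule fun x => by
    rw [← toMul_eq_one, toMul_nsmul, pow_two]
    exact Subtype.ext (h.sq_eq_one (Additive.toMul x : SS).2)
  haveI : Nontrivial SS := by
    refine ⟨⟨t, h.mem⟩, 1, fun e => h.t_ne_one (congrArg Subtype.val e)⟩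
  let act : N → SS → SS := fun g s =>
    ⟨(g : G) * (s : G) * (g : G)⁻¹, (Subgroup.mem_normalizer_iff.mp g.2 (s : G)).mp s.2⟩
  let φ : N →* (Additive SS ≃ₗ[ZMod 2] Additive SS) :=
    { toFun := fun g =>
        { toFun := fun x => Additive.ofMul (act g (Additive.toMul x))
          invFun := fun x => Additive.ofMul (act g⁻¹ (Additive.toMul x))
          left_inv := fun x => by
            simp [act, mul_assoc]
          right_inv := fun x => by
            simp [act, mul_assoc]
          map_add' := fun x z => by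
            rw [← ofMul_mul]
            congr 1
            apply Subtype.ext
            simp [act, mul_assoc]
          map_smul' := fun c x => ZMod.map_smul
            (AddMonoidHom.mk' (fun x => Additive.ofMul (act g (Additive.toMul x))) fun x z => by
              rw [← ofMul_mul]
              congr 1
              apply Subtype.ext
              simp [act, mul_assoc]) c x }
      map_one' := LinearEquiv.ext fun x => by
        refine congrArg Additive.ofMul (Subtype.ext ?_)
        simp [act]
      map_mul' := fun g g' => LinearEquiv.ext fun x => by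
        refine congrArg Additive.ofMul (Subtype.ext ?_)
        simp [act, mul_assoc] }
  have hφ : ∀ (g : N) (s : SS), φ g (Additive.ofMul s) = Additive.ofMul (act g s) := fun g s => rfl
  have hfix : ∀ (g : N) (s : SS), φ g (Additive.ofMul s) = Additive.ofMul s ↔ Commute (g : G) (s : G) := by
    intro g s
    rw [hφ, Additive.ofMul.injective.eq_iff, Subtype.ext_iff]
    exact mul_inv_eq_iff_eq_mul
  have hker : ∀ g : N, g ∈ φ.ker ↔ (g : G) ∈ Subgroup.centralizer (SS : Set G) := by
    intro g
    rw [MonoidHom.mem_ker, Subgroup.mem_centralizer_iff]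
    constructor
    · intro e s hs
      exact ((hfix g ⟨s, hs⟩).mp (by rw [e]; rfl)).symm
    · intro e
      refine LinearEquiv.ext fun x => ?_
      exact (hfix g (Additive.toMul x)).mpr (e _ (Additive.toMul x).2).symm
  -- the quotient
  let ρ : N ⧸ φ.ker →* (Additive SS ≃ₗ[ZMod 2] Additive SS) := QuotientGroup.kerLift φ
  have hρ : Function.Injective ρ := QuotientGroup.kerLift_injective φ
  have hρmk : ∀ g : N, ρ (g : N ⧸ φ.ker) = φ g := fun g => rfl
  have hodd : Odd (Nat.card (N ⧸ φ.ker)) := by
    rw [Nat.odd_iff, ← Nat.two_dvd_ne_zero, ← Subgroup.index_eq_card]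
    intro h2
    have hle : (SS).subgroupOf N ≤ φ.ker := fun g hg => (hker g).mpr
      (Subgroup.mem_centralizer_iff.mpr fun b hb => h.mul_comm_mem hb hg)
    exact S.not_dvd_index ((h2.trans (Subgroup.index_dvd_of_le hle)).trans
      (Subgroup.relIndex_dvd_index_of_le Subgroup.le_normalizer))
  haveI := CfsgLib.FT.isSolvable_of_odd (N ⧸ φ.ker) hodd
  have htr : ∀ v w : Additive SS, v ≠ 0 → w ≠ 0 → ∃ g, ρ g v = w := by
    intro v w hv hw
    have h1 : ((Additive.toMul v : SS) : G) ≠ 1 := fun e => hv (toMul_eq_one.mp (Subtype.ext e))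
    have h2 : ((Additive.toMul w : SS) : G) ≠ 1 := fun e => hw (toMul_eq_one.mp (Subtype.ext e))
    obtain ⟨g, hg, e⟩ := h.exists_normalizer_conj (Additive.toMul v).2 h1 (Additive.toMul w).2 h2
    exact ⟨((⟨g, hg⟩ : N) : N ⧸ φ.ker), congrArg Additive.ofMul (Subtype.ext e)⟩
  have ha0 : Additive.ofMul (⟨a, ha⟩ : SS) ≠ 0 := fun e => ha1 (congrArg Subtype.val e)
  obtain ⟨hcard, hcube⟩ := stabilizer_data ρ hodd hρ htr ha0
  have hdim : finrank (ZMod 2) (Additive SS) = n := by
    refine Nat.pow_right_injective (le_refl 2) ?_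
    show 2 ^ _ = 2 ^ n
    rw [← hn, ← Nat.card_congr (Additive.ofMul (α := SS)).symm,
      Module.natCard_eq_pow_finrank (K := ZMod 2), Nat.card_zmod]
  refine ⟨?_, fun g hg hga hgS => ?_⟩
  · set T := N ⊓ Subgroup.centralizer ({a} : Set G) with hT
    refine le_trans ?_ (hdim ▸ hcard)
    rw [Subgroup.relIndex, Subgroup.index_eq_card]
    refine Nat.card_le_card_of_injective
      (Quotient.lift (fun x : T => (⟨((⟨(x : G), x.2.1⟩ : N) : N ⧸ φ.ker), ?_⟩ :
        {g // ρ g (Additive.ofMul (⟨a, ha⟩ : SS)) = Additive.ofMul (⟨a, ha⟩ : SS)})) ?_) ?_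
    · rw [hρmk]
      exact (hfix ⟨x, x.2.1⟩ ⟨a, ha⟩).mpr (Subgroup.mem_centralizer_singleton_iff.mp x.2.2)
    · intro x z hxz
      refine Subtype.ext (QuotientGroup.eq.mpr ((hker _).mpr ?_))
      have h1 := QuotientGroup.leftRel_apply.mp
        (show QuotientGroup.leftRel ((Subgroup.centralizer (SS : Set G)).subgroupOf T) x z from hxz)
      exact Subgroup.mem_subgroupOf.mp h1
    · intro x z
      refine Quotient.inductionOn₂ x z fun x z e => Quotient.sound ?_
      refine QuotientGroup.leftRel_apply.mpr (Subgroup.mem_subgroupOf.mpr ?_)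
      exact (hker _).mp (QuotientGroup.eq.mp (congrArg Subtype.val e))
  · have hg1 : ((⟨g, hg⟩ : N) : N ⧸ φ.ker) ≠ 1 := fun e =>
      hgS ((hker _).mp ((QuotientGroup.eq_one_iff _).mp e))
    have h1 := hcube _ hg1 (by
      rw [hρmk]
      exact (hfix ⟨g, hg⟩ ⟨a, ha⟩).mpr (Subgroup.mem_centralizer_singleton_iff.mp hga))
    rw [Nat.card_congr (Additive.toMul (α := SS))] at h1
    refine le_trans (Nat.pow_le_pow_left ?_ 3) h1
    refine Nat.card_le_card_of_injective (fun s => ⟨Additive.ofMul (⟨s.1, s.2.1⟩ : SS), ?_⟩) ?_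
    · rw [hρmk]
      exact (hfix ⟨g, hg⟩ ⟨s.1, s.2.1⟩).mpr (Subgroup.mem_centralizer_singleton_iff.mp s.2.2).symm
    · intro s s' e
      have e1 : Additive.ofMul (⟨s.1, s.2.1⟩ : SS) = Additive.ofMul (⟨s'.1, s'.2.1⟩ : SS) :=
        congrArg Subtype.val e
      exact Subtype.ext (congrArg Subtype.val (Additive.ofMul.injective e1) :)

end Setup

end CfsgLib.Block.ConstDiff
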