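import Cfsg.Agent.Lib.Char.DefectZero
import Cfsg.Agent.Lib.Block.Cartan

/-!
# The Sylow order times the indicator of the regular elements
-/

set_option autoImplicit false
set_option linter.unusedSectionVars false

open Cfsg
open scoped ComplexConjugate

namespace CfsgLib.Block.ConstDiff

universe u

variable {G : Type u} [Group G] [Fintype G] {p : ℕ} [Fact p.Prime]

/-- `p ^ n` times the indicator of the `p`-regular elements is a generalized character. -/
theorem isGeneralized_regular_multiple {n : ℕ} (hn : (Nat.card G).factorization p ≤ n) :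
    IsGeneralizedCharacter G (fun g => if p ∣ orderOf g then 0 else ((p ^ n : ℕ) : ℂ)) := by
  classical
  refine Char.isGeneralizedCharacter_of_elementary (fun a b => ?_) fun E q hq hE => ?_
  · have e : orderOf (b * a * b⁻¹) = orderOf a :=
      orderOf_injective (MulAut.conj b).toMonoidHom (MulAut.conj b).injective a
    simp only [e]
  obtain ⟨R, P, hR, hcard, ⟨j, hj⟩, -, -⟩ := Char.exists_pparts_elementary (p := p) hq hE
  have := Fintype.ofFinite E
  have := Fintype.ofFinite R
  obtain ⟨c, hc⟩ : p ^ j ∣ p ^ n := by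
    refine pow_dvd_pow p (le_trans ?_ hn)
    have hd : p ^ j ∣ Nat.card G := hj ▸ (Subgroup.card_subgroup_dvd_card P).trans
      (Subgroup.card_subgroup_dvd_card E)
    exact (Nat.Prime.pow_dvd_iff_le_factorization Fact.out Nat.card_pos.ne').mp hd
  refine Char.isGeneralizedCharacter_of_int_inner (fun a b => ?_) fun ψ => ?_
  · have e : orderOf ((b * a * b⁻¹ : E) : G) = orderOf (a : G) :=
      orderOf_injective (MulAut.conj (b : G)).toMonoidHom (MulAut.conj (b : G)).injective (a : G)
    simp only [e]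
  obtain ⟨k, hk⟩ := Char.classInner_isCharacter (G := R)
    (Char.isCharacter_irr (oneChar R)) (Char.isCharacter_comp (Char.isCharacter_irr ψ) R.subtype)
  refine ⟨(c : ℤ) * k, ?_⟩
  have hsum : ∑ e : E, (if p ∣ orderOf (e : G) then 0 else ((p ^ n : ℕ) : ℂ)) *
      conj ((ψ : E → ℂ) e) = ((p ^ n : ℕ) : ℂ) * ((Nat.card R : ℂ) * k) := by
    have hk' := hk
    rw [classInner, inv_mul_eq_iff_eq_mul₀ (by exact_mod_cast Nat.card_pos.ne')] at hk'
    rw [← hk', Finset.mul_sum,
      Finset.sum_congr rfl (g := fun e : E =>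
        if e ∈ R then ((p ^ n : ℕ) : ℂ) * conj ((ψ : E → ℂ) e) else 0) fun e _ => ?_,
      ← Finset.sum_filter, Finset.sum_subtype (p := fun e => e ∈ R) _ (fun x => by simp)]
    · refine Finset.sum_congr rfl fun r _ => ?_
      simp [oneChar]
    · have hiff : e ∈ R ↔ ¬ p ∣ orderOf (e : G) := by rw [hR, Subgroup.orderOf_coe]
      by_cases h : p ∣ orderOf (e : G)
      · rw [if_pos h, if_neg (fun h' => hiff.mp h' h), zero_mul]
      · rw [if_neg h, if_pos (hiff.mpr h)]
  rw [classInner, hsum, ← hcard, hj, hc]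
  have hp0 : ((p : ℂ)) ^ j ≠ 0 := pow_ne_zero _ (Nat.cast_ne_zero.mpr (Fact.out : p.Prime).ne_zero)
  have hR0 : (Nat.card R : ℂ) ≠ 0 := Nat.cast_ne_zero.mpr Nat.card_pos.ne'
  push_cast
  field_simp

variable [DecidableEq G]

/-- `p ^ n [χ°, ψ]` is a rational integer. -/
theorem exists_int_regInner_one {n : ℕ} (hn : (Nat.card G).factorization p ≤ n) (χ : IrrCharacter G) :
    ∃ m : ℤ, ((p ^ n : ℕ) : ℂ) * regInner p χ (oneChar G) = m := by
  classical
  obtain ⟨m, hm⟩ := Char.classInner_generalized_int (isGeneralized_regular_multiple (G := G) hn)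
    (Char.isGeneralizedCharacter_of_isCharacter (Char.isCharacter_irr χ))
  refine ⟨m, ?_⟩
  have hcm : conj (m : ℂ) = (m : ℂ) := map_intCast (starRingEnd ℂ) m
  rw [← hcm, ← hm, classInner, map_mul, map_inv₀, map_natCast, map_sum]
  rw [← mul_right_inj' (Nat.cast_ne_zero.mpr Nat.card_pos.ne' : (Nat.card G : ℂ) ≠ 0), mul_left_comm,
    card_mul_regInner, ← mul_assoc, mul_inv_cancel₀ (Nat.cast_ne_zero.mpr Nat.card_pos.ne'), one_mul,
    Finset.mul_sum, Finset.sum_filter]
  refine Finset.sum_congr rfl fun x _ => ?_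
  simp only [oneChar, mul_one, map_mul, Complex.conj_conj]
  by_cases hx : p ∣ orderOf x <;> simp [hx]

end CfsgLib.Block.ConstDiff
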