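import Cfsg.Agent.Lib.Block.Orthogonality
import Cfsg.Agent.Lib.Block.Principal
import Cfsg.Agent.Lib.Block.PrincipalCoreInflation
import Cfsg.Agent.Lib.Block.ConstDiff.RegularMultiple
import Cfsg.Prelude.Def_CaseTheorems

/-!
# Constant difference `χ(1) - χ(u)` on a principal 2-block: first consequences

`u` has nontrivial 2-part, an involution `t`, every nontrivial 2-element is conjugate to `t`, and
the constant is the order of a Sylow 2-subgroup.
-/

set_option autoImplicit false
set_option linter.unusedSectionVars false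
set_option linter.style.haveILetI false
set_option linter.unusedSimpArgs false

open Cfsg
open scoped ComplexConjugate

namespace CfsgLib.Block.ConstDiff

universe u

variable (M : Ideal AlgInt) (G : Type u) [Group G] [Fintype G]

/-- The principal block as a finite set. -/
noncomputable def pb : Finset (IrrCharacter G) := (Set.toFinite (principalBlock M G)).toFinset

/-- The principal block without the principal character. -/
noncomputable def pb' : Finset (IrrCharacter G) :=
  (pb M G).erase (oneChar G)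

variable {M G}

theorem mem_pb {χ : IrrCharacter G} : χ ∈ pb M G ↔ χ ∈ principalBlock M G := Set.Finite.mem_toFinset _

theorem mem_pb' {χ : IrrCharacter G} :
    χ ∈ pb' M G ↔ χ ≠ oneChar G ∧ χ ∈ principalBlock M G := by
  classical
  rw [pb', Finset.mem_erase, mem_pb]

theorem sum_pb [M.IsMaximal] (f : IrrCharacter G → ℂ) :
    ∑ χ ∈ pb M G, f χ = f (oneChar G) + ∑ χ ∈ pb' M G, f χ := by
  classical
  rw [pb', Finset.add_sum_erase _ _ (mem_pb.mpr one_mem_principalBlock)]

theorem oneChar_apply (g : G) : (oneChar G : G → ℂ) g = 1 := rfl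

/-- The degree. -/
noncomputable def deg (χ : IrrCharacter G) : ℕ := charDegree (χ : G → ℂ)

theorem apply_one (χ : IrrCharacter G) : (χ : G → ℂ) 1 = (deg χ : ℂ) :=
  (Block.charDegree_eq χ).1

theorem deg_pos (χ : IrrCharacter G) : 0 < deg χ := Nat.pos_of_ne_zero (Block.charDegree_eq χ).2

theorem deg_oneChar : deg (oneChar G) = 1 := by
  have h := apply_one (oneChar G)
  rw [oneChar_apply] at h
  exact_mod_cast h.symm

variable [M.IsMaximal] [DecidableEq G]

theorem finsum_pb (f : IrrCharacter G → ℂ) :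
    ∑ᶠ χ ∈ principalBlock M G, f χ = ∑ χ ∈ pb M G, f χ :=
  finsum_mem_eq_finite_toFinset_sum _ _

theorem sum_reg_sing (hM : IsPModular 2 M) {g h : G} (hg : ¬ 2 ∣ orderOf g) (hh : 2 ∣ orderOf h) :
    ∑ χ ∈ pb M G, (χ : G → ℂ) g * conj ((χ : G → ℂ) h) = 0 := by
  classical
  have := Fintype.ofFinite (IrrCharacter G)
  rw [← finsum_pb]
  exact blockUnion_orthogonal_regular_singular hM
    (IsBlockUnion.of_isPBlock isPBlock_principalBlock) hg hh

theorem sum_parts (hM : IsPModular 2 M) {g h x x' : G} (hx : IsPPart 2 g x) (hx' : IsPPart 2 h x')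
    (hne : ¬ IsConj x x') : ∑ χ ∈ pb M G, (χ : G → ℂ) g * conj ((χ : G → ℂ) h) = 0 := by
  classical
  have := Fintype.ofFinite (IrrCharacter G)
  rw [← finsum_pb]
  exact blockUnion_orthogonal_conj hM (IsBlockUnion.of_isPBlock isPBlock_principalBlock) hx hx' hne

theorem sum_one_sing (hM : IsPModular 2 M) {h : G} (hh : 2 ∣ orderOf h) :
    ∑ χ ∈ pb M G, (deg χ : ℂ) * (χ : G → ℂ) h = 0 := by
  have h1 := sum_reg_sing (G := G) hM (g := 1) (by simp) hh
  rw [← map_eq_zero (starRingEnd ℂ), map_sum] at h1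
  rw [← h1]
  exact Finset.sum_congr rfl fun χ _ => by simp [apply_one]

/-- The hypothesis. -/
structure Hyp (M : Ideal AlgInt) (u : G) (k : ℂ) : Prop where
  modular : IsPModular 2 M
  core : oddCore G = ⊥
  ne_one : u ≠ 1
  eq : ∀ χ ∈ pb' M G, (χ : G → ℂ) 1 - (χ : G → ℂ) u = k

variable {u : G} {k : ℂ}

theorem two_dvd_card (h : Hyp M u k) : 2 ∣ Nat.card G := by
  by_contra hc
  have h1 : (⊤ : Subgroup G) ≤ oddCore G := le_sSup ⟨inferInstance, by
    rw [Subgroup.card_top]
    exact (Nat.prime_two.coprime_iff_not_dvd.mpr hc).symm⟩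
  exact h.ne_one (by simpa [h.core] using h1 (Subgroup.mem_top u))

/-- Elements where every principal character takes its degree lie in the odd core. -/
theorem eq_one_of_forall (h : Hyp M u k) {g : G}
    (hg : ∀ χ ∈ pb M G, (χ : G → ℂ) g = (χ : G → ℂ) 1) : g = 1 := by
  classical
  have := Fintype.ofFinite (IrrCharacter G)
  obtain ⟨K, hK, hKset, hKodd, -, -⟩ := exists_blockKer h.modular
    (isPBlock_principalBlock (M := M) (G := G)) one_mem_principalBlock
  have h1 : K ≤ oddCore G := le_sSup ⟨hK, (Nat.prime_two.coprime_iff_not_dvd.mpr hKodd).symm⟩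
  have h2 : g ∈ (K : Set G) := by
    rw [hKset]
    exact fun χ hχ => hg χ (mem_pb.mpr hχ)
  simpa [h.core] using h1 h2

theorem k_ne_zero (h : Hyp M u k) : k ≠ 0 := fun hk => h.ne_one (eq_one_of_forall h fun χ hχ => by
  by_cases h1 : χ = oneChar G
  · rw [h1]; rfl
  · have := h.eq χ (mem_pb'.mpr ⟨h1, mem_pb.mp hχ⟩)
    rw [hk, sub_eq_zero] at this
    exact this.symm)

/-- The defining identity, summed against the values at `g`. -/
theorem key (h : Hyp M u k) (g : G) :
    conj k * ∑ χ ∈ pb' M G, (χ : G → ℂ) g =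
      (∑ χ ∈ pb M G, (χ : G → ℂ) g * conj ((χ : G → ℂ) 1)) -
        ∑ χ ∈ pb M G, (χ : G → ℂ) g * conj ((χ : G → ℂ) u) := by
  rw [← Finset.sum_sub_distrib, sum_pb, oneChar_apply, oneChar_apply, oneChar_apply, sub_self,
    zero_add, Finset.mul_sum]
  exact Finset.sum_congr rfl fun χ hχ => by rw [← h.eq χ hχ, map_sub]; ring

theorem charP_res (hM : IsPModular 2 M) : CharP (ResField M) 2 := charP_resField hM

/-- A 2-element has the value of the degree in the residue field. -/
theorem res_apply_two (hM : IsPModular 2 M) (χ : IrrCharacter G) {v : G} {i : ℕ}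
    (hv : v ^ 2 ^ i = 1) : res M (irrLoc M χ v) = (deg χ : ResField M) := by
  classical
  have h1 := res_irr_regularPart (p := 2) hM χ (Commute.one_right v) hv
  rw [mul_one] at h1
  rw [h1, show irrLoc M χ 1 = ((deg χ : ℕ) : locRing M) from
    Subtype.ext (by rw [coe_irrLoc, apply_one, SubringClass.coe_natCast]), res_natCast]

theorem natCast_sq_res (hM : IsPModular 2 M) (n : ℕ) : (n : ResField M) * n = n := by
  haveI := charP_res hM
  rw [← Nat.cast_mul]
  refine (CharP.natCast_eq_natCast (ResField M) 2).mpr ?_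
  rcases Nat.mod_two_eq_zero_or_one n with e | e <;>
    simp [Nat.ModEq, Nat.mul_mod, e]

/-- The sum of the degrees in the principal block is even. -/
theorem sum_deg_res (hM : IsPModular 2 M) {v : G} {i : ℕ} (hv : v ^ 2 ^ i = 1) (hv1 : v ≠ 1) :
    ∑ χ ∈ pb M G, (deg χ : ResField M) = 0 := by
  have h2 : 2 ∣ orderOf v := by
    obtain ⟨j, -, hj⟩ := (Nat.dvd_prime_pow Nat.prime_two).mp (orderOf_dvd_of_pow_eq_one hv)
    rcases j with _ | j
    · exact absurd (orderOf_eq_one_iff.mp (by rw [hj, pow_zero])) hv1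
    · exact hj ▸ dvd_pow_self 2 (Nat.succ_ne_zero j)
  have h0 := sum_one_sing hM h2
  have h1 : res M (∑ χ ∈ pb M G, (deg χ : locRing M) * irrLoc M χ v) = 0 := by
    rw [show ∑ χ ∈ pb M G, (deg χ : locRing M) * irrLoc M χ v = 0 from Subtype.ext (by
      simp [h0]), map_zero]
  rw [map_sum] at h1
  rw [← h1]
  exact Finset.sum_congr rfl fun χ _ => by
    rw [map_mul, res_natCast, res_apply_two hM χ hv, natCast_sq_res hM]

/-- Every nontrivial 2-element is conjugate to the 2-part of `u`. -/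
theorem isConj_part (h : Hyp M u k) {x v : G} (hx : IsPPart 2 u x) {i : ℕ} (hv : v ^ 2 ^ i = 1)
    (hv1 : v ≠ 1) : IsConj v x := by
  by_contra hne
  have hvp : IsPPart 2 v v := by
    obtain ⟨j, -, hj⟩ := (Nat.dvd_prime_pow Nat.prime_two).mp (orderOf_dvd_of_pow_eq_one hv)
    exact ⟨1, mul_one v, Commute.one_right v, ⟨j, hj⟩, by simp⟩
  have h1 := key h v
  rw [sum_parts h.modular hvp hx hne] at h1
  have h2 : ∑ χ ∈ pb M G, (χ : G → ℂ) v * conj ((χ : G → ℂ) 1) = 0 := by
    obtain ⟨j, -, hj⟩ := (Nat.dvd_prime_pow Nat.prime_two).mp (orderOf_dvd_of_pow_eq_one hv)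
    have : 2 ∣ orderOf v := by
      rcases j with _ | j
      · exact absurd (orderOf_eq_one_iff.mp (by rw [hj, pow_zero])) hv1
      · exact hj ▸ dvd_pow_self 2 (Nat.succ_ne_zero j)
    rw [← sum_one_sing h.modular this]
    exact Finset.sum_congr rfl fun χ _ => by rw [apply_one, map_natCast, mul_comm]
  rw [h2, sub_zero, mul_eq_zero, or_iff_right (by simpa using k_ne_zero h)] at h1
  have h3 : ∑ χ ∈ pb M G, (χ : G → ℂ) v = 1 := by rw [sum_pb, oneChar_apply, h1, add_zero]
  have h4 : res M (∑ χ ∈ pb M G, irrLoc M χ v) = 1 := by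
    rw [show ∑ χ ∈ pb M G, irrLoc M χ v = 1 from Subtype.ext (by simp [h3]), map_one]
  rw [map_sum, Finset.sum_congr rfl fun χ _ => res_apply_two h.modular χ hv,
    sum_deg_res h.modular hv hv1] at h4
  exact zero_ne_one h4

theorem exists_invol (h : Hyp M u k) : ∃ v : G, orderOf v = 2 :=
  haveI : Fact (Nat.Prime 2) := ⟨Nat.prime_two⟩
  exists_prime_orderOf_dvd_card' 2 (two_dvd_card h)

/-- The decomposition of `u`, with the conjugacy of all nontrivial 2-elements. -/
theorem exists_split (h : Hyp M u k) : ∃ t y : G, u = t * y ∧ Commute t y ∧ orderOf t = 2 ∧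
    ¬ 2 ∣ orderOf y ∧ IsPPart 2 u t ∧ ∀ (v : G) (i : ℕ), v ^ 2 ^ i = 1 → v ≠ 1 → IsConj v t := by
  obtain ⟨t, ht⟩ := exists_isPPart Nat.prime_two u
  obtain ⟨v, hv⟩ := exists_invol h
  have hv1 : v ^ 2 ^ 1 = 1 := by rw [pow_one, ← hv, pow_orderOf_eq_one]
  have hvne : v ≠ 1 := fun e => by rw [e, orderOf_one] at hv; norm_num at hv
  have hc := isConj_part h ht hv1 hvne
  have ht2 : orderOf t = 2 := by
    obtain ⟨c, hc⟩ := isConj_iff.mp hc
    rw [← hc, ← hv]
    exact orderOf_injective (MulAut.conj c).toMonoidHom (MulAut.conj c).injective v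
  obtain ⟨y, hy, hcomm, -, hy2⟩ := id ht
  exact ⟨t, y, hy.symm, hcomm, ht2, hy2, ht, fun w i hw hw1 => isConj_part h ht hw hw1⟩

theorem two_dvd_orderOf_u (h : Hyp M u k) : 2 ∣ orderOf u := by
  obtain ⟨t, y, rfl, hc, ht, hy, -, -⟩ := exists_split h
  rw [hc.orderOf_mul_eq_mul_orderOf_of_coprime (by
    rw [ht]; exact Nat.prime_two.coprime_iff_not_dvd.mpr hy), ht]
  exact dvd_mul_right 2 _

/-- `k (Φ(g) - 1) = Θ(g)` at regular elements. -/
theorem key_regular (h : Hyp M u k) {g : G} (hg : ¬ 2 ∣ orderOf g) :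
    conj k * ∑ χ ∈ pb' M G, (χ : G → ℂ) g = ∑ χ ∈ pb M G, (deg χ : ℂ) * (χ : G → ℂ) g := by
  rw [key h g, sum_reg_sing h.modular hg (two_dvd_orderOf_u h), sub_zero]
  exact Finset.sum_congr rfl fun χ _ => by rw [apply_one, map_natCast, mul_comm]

/-- The sum of the nonprincipal degrees is odd. -/
theorem odd_sum_deg (h : Hyp M u k) : Odd (∑ χ ∈ pb' M G, deg χ) := by
  classical
  obtain ⟨v, hv⟩ := exists_invol h
  haveI := charP_res h.modular
  have h1 := sum_deg_res (G := G) h.modular (v := v) (i := 1)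
    (by rw [pow_one, ← hv, pow_orderOf_eq_one])
    (fun e => by rw [e, orderOf_one] at hv; norm_num at hv)
  rw [← Finset.add_sum_erase _ _ (mem_pb.mpr (one_mem_principalBlock (M := M) (G := G))),
    deg_oneChar, ← Nat.cast_sum, ← Nat.cast_add,
    CharP.cast_eq_zero_iff (ResField M) 2] at h1
  rw [Nat.odd_iff]
  change (∑ χ ∈ (pb M G).erase (oneChar G), deg χ) % 2 = 1
  omega

/-- Divisibility of the block dimension. -/
theorem sylow_dvd_sum_sq (h : Hyp M u k) :
    2 ^ (Nat.card G).factorization 2 ∣ ∑ χ ∈ pb M G, deg χ ^ 2 := by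
  classical
  haveI : Fact (Nat.Prime 2) := ⟨Nat.prime_two⟩
  obtain ⟨P⟩ : Nonempty (Sylow 2 G) := inferInstance
  have := Fintype.ofFinite (P : Subgroup G)
  have hθ : IsGeneralizedCharacter G (fun g => ∑ χ ∈ pb M G, (deg χ : ℂ) * (χ : G → ℂ) g) := by
    have e : (fun g => ∑ χ ∈ pb M G, (deg χ : ℂ) * (χ : G → ℂ) g) =
        ∑ χ ∈ pb M G, ((deg χ : ℤ) : ℂ) • (χ : G → ℂ) := by
      funext g
      simp [Finset.sum_apply]
    rw [e]
    refine Char.isGeneralizedCharacter_sum _ _ fun χ _ => ?_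
    have hz := Char.isGeneralizedCharacter_zsmul
      (Char.isGeneralizedCharacter_of_isCharacter (Char.isCharacter_irr χ)) (deg χ : ℤ)
    exact hz
  obtain ⟨m, hm⟩ := Char.classInner_generalized_int
    (Char.isGeneralizedCharacter_comp hθ (P : Subgroup G).subtype)
    (Char.isGeneralizedCharacter_of_isCharacter (Char.isCharacter_irr (oneChar (P : Subgroup G))))
  rw [classInner, Finset.sum_eq_single (1 : (P : Subgroup G)) (fun x _ hx => ?_)
    (fun hh => absurd (Finset.mem_univ _) hh)] at hm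
  · rw [← P.card_eq_multiplicity]
    have h1 : ((∑ χ ∈ pb M G, deg χ ^ 2 : ℕ) : ℂ) =
        (Nat.card (P : Subgroup G) : ℂ) * (m : ℂ) := by
      rw [← hm, ← mul_assoc, mul_inv_cancel₀ (Nat.cast_ne_zero.mpr Nat.card_pos.ne'), one_mul]
      simp [oneChar_apply, apply_one, sq]
    refine Int.natCast_dvd_natCast.mp ⟨m, ?_⟩
    exact_mod_cast h1
  · have hx2 : 2 ∣ orderOf (x : G) := by
      obtain ⟨j, hj⟩ := IsPGroup.iff_orderOf.mp P.isPGroup' x
      rw [Subgroup.orderOf_coe, hj]
      rcases j with _ | j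
      · exact absurd (orderOf_eq_one_iff.mp (by rw [hj, pow_zero])) hx
      · exact dvd_pow_self 2 (Nat.succ_ne_zero j)
    simp only [Subgroup.coe_subtype, sum_one_sing h.modular hx2, zero_mul]

theorem sum_deg_eq (h : Hyp M u k) :
    conj k * ((∑ χ ∈ pb' M G, deg χ : ℕ) : ℂ) = ((∑ χ ∈ pb M G, deg χ ^ 2 : ℕ) : ℂ) := by
  have h0 := key_regular h (g := 1) (by simp)
  push_cast
  simp only [apply_one, ← sq] at h0
  exact h0

/-- The constant is the order of a Sylow 2-subgroup. -/
theorem k_eq (h : Hyp M u k) : k = ((2 ^ (Nat.card G).factorization 2 : ℕ) : ℂ) := by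
  classical
  haveI : Fact (Nat.Prime 2) := ⟨Nat.prime_two⟩
  have := Fintype.ofFinite (IrrCharacter G)
  set n := (Nat.card G).factorization 2
  set A := ∑ χ ∈ pb' M G, deg χ
  set D := ∑ χ ∈ pb M G, deg χ ^ 2
  have hA : (A : ℂ) ≠ 0 := Nat.cast_ne_zero.mpr (fun e => by
    have := odd_sum_deg h
    change Odd A at this
    rw [e] at this; simp at this)
  have hk : k = (D : ℂ) / A := by
    have h1 := congrArg conj (sum_deg_eq h)
    rw [map_mul, Complex.conj_conj, map_natCast, map_natCast] at h1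
    rw [eq_div_iff hA, h1]
  have hkreal : conj k = k := by rw [hk, map_div₀, map_natCast, map_natCast]
  obtain ⟨χ₀, hχ₀⟩ : (pb' M G).Nonempty := by
    by_contra he
    rw [Finset.not_nonempty_iff_eq_empty] at he
    have := odd_sum_deg h
    rw [he, Finset.sum_empty] at this
    simp at this
  have hkint : IsIntegral ℤ k := by
    rw [← h.eq χ₀ hχ₀]
    exact (irr_isIntegral χ₀ 1).sub (irr_isIntegral χ₀ u)
  obtain ⟨K, hK⟩ : ∃ K : ℕ, k = (K : ℂ) := by
    have hq : k = algebraMap ℚ ℂ ((D : ℚ) / A) := by rw [hk, map_div₀, map_natCast, map_natCast]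
    rw [hq] at hkint
    obtain ⟨z, hz⟩ := IsIntegrallyClosed.isIntegral_iff.mp
      ((isIntegral_algebraMap_iff (algebraMap ℚ ℂ).injective).mp hkint)
    refine ⟨z.toNat, ?_⟩
    have hz0 : 0 ≤ z := by
      have h1 : (0 : ℚ) ≤ (z : ℚ) := by
        rw [show (z : ℚ) = (D : ℚ) / A from hz]; positivity
      exact_mod_cast h1
    rw [hq, ← hz, ← map_natCast (algebraMap ℚ ℂ), show ((z.toNat : ℕ) : ℚ) = (z : ℚ) by
      exact_mod_cast Int.toNat_of_nonneg hz0]
    rfl
  have hKA : K * A = D := by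
    have := sum_deg_eq h
    rw [hkreal, hK] at this
    exact_mod_cast this
  have hdvd : 2 ^ n ∣ K := by
    have hc : Nat.Coprime (2 ^ n) A :=
      (Nat.prime_two.coprime_iff_not_dvd.mpr fun hd => by
        have := odd_sum_deg h; rw [Nat.odd_iff] at this; omega).pow_left n
    exact hc.dvd_of_dvd_mul_right (hKA ▸ sylow_dvd_sum_sq h)
  -- test against the principal character
  have htest : ((K : ℕ) : ℂ) * ∑ χ ∈ pb' M G, regInner 2 χ (oneChar G) = 1 := by
    have hG : (Nat.card G : ℂ) ≠ 0 := Nat.cast_ne_zero.mpr Nat.card_pos.ne'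
    apply mul_left_cancel₀ hG
    rw [mul_left_comm, Finset.mul_sum, Finset.sum_congr rfl fun χ _ => card_mul_regInner 2 χ _]
    rw [Finset.sum_comm, Finset.mul_sum, Finset.sum_congr rfl fun x hx => by
      rw [show ∑ χ ∈ pb' M G, (χ : G → ℂ) x * (oneChar G : G → ℂ) x⁻¹ =
        ∑ χ ∈ pb' M G, (χ : G → ℂ) x from Finset.sum_congr rfl fun χ _ => by simp [oneChar_apply],
        ← hK, ← hkreal, key_regular h (Finset.mem_filter.mp hx).2]]
    rw [mul_one, Finset.sum_filter, Finset.sum_congr rfl (g := fun x : G =>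
      ∑ χ ∈ pb M G, (deg χ : ℂ) * (χ : G → ℂ) x) fun x _ => ?_, Finset.sum_comm, sum_pb]
    swap
    · by_cases hx : 2 ∣ orderOf x
      · simp [hx, sum_one_sing h.modular hx]
      · simp [hx]
    have horth : ∀ χ ∈ pb' M G, ∑ x : G, (deg χ : ℂ) * (χ : G → ℂ) x = 0 := fun χ hχ => by
      have h1 := Char.classInner_irr χ (oneChar G)
      rw [if_neg (mem_pb'.mp hχ).1, classInner, mul_eq_zero,
        or_iff_right (inv_ne_zero (Nat.cast_ne_zero.mpr Nat.card_pos.ne'))] at h1
      rw [← Finset.mul_sum, show ∑ x : G, (χ : G → ℂ) x = 0 by simpa [oneChar_apply] using h1,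
        mul_zero]
    rw [Finset.sum_eq_zero horth, add_zero]
    simp [oneChar_apply, deg_oneChar, Nat.card_eq_fintype_card]
  choose m hm using fun χ : IrrCharacter G => exists_int_regInner_one (G := G) (p := 2) le_rfl χ
  have hdvd' : (K : ℤ) ∣ ((2 ^ n : ℕ) : ℤ) := by
    refine ⟨∑ χ ∈ pb' M G, m χ, ?_⟩
    have : ((2 ^ n : ℕ) : ℂ) = (K : ℂ) * ((∑ χ ∈ pb' M G, m χ : ℤ) : ℂ) := by
      rw [Int.cast_sum, ← Finset.sum_congr rfl fun χ _ => hm χ, ← Finset.mul_sum, mul_left_comm,
        htest, mul_one]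
    exact_mod_cast this
  rw [hK, Nat.dvd_antisymm (Int.natCast_dvd_natCast.mp hdvd') hdvd]

end CfsgLib.Block.ConstDiff
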