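import Cfsg.Agent.Lib.Block.ConstDiff.Small

/-!
# The centralizer of an involution has trivial core

A character of degree `q - 1` in the block is faithful and restricts to `S` as the regular
character minus the trivial one; the averages over `S` and over its hyperplanes act as zero and
as a projection of rank one.
-/

set_option autoImplicit false
set_option linter.unusedSectionVars false
set_option linter.style.haveILetI false
set_option linter.unusedSimpArgs false

open Cfsg
open Subgroup (mem_centralizer_singleton_iff mem_centralizer_iff mem_normalizer_iff)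
open scoped ComplexConjugate

namespace CfsgLib.Block.ConstDiff

universe u

section Average

variable {G : Type u} [Group G] [Finite G]

theorem centralizer_zpowers (a : G) :
    Subgroup.centralizer ((Subgroup.zpowers a : Subgroup G) : Set G) =
      Subgroup.centralizer ({a} : Set G) := by
  rw [Subgroup.zpowers_eq_closure, Subgroup.centralizer_closure]

theorem sum_off_one {H : Subgroup G} [Fintype H] (f : H → ℂ) {c : ℂ}
    (hf : ∀ x : H, x ≠ 1 → f x = c) : ∑ x : H, f x = f 1 + ((Nat.card H : ℂ) - 1) * c := by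
  classical
  rw [← Finset.add_sum_erase _ _ (Finset.mem_univ (1 : H)),
    Finset.sum_congr rfl (g := fun _ => c) (fun x hx => hf x (Finset.mem_erase.mp hx).1),
    Finset.sum_const, Finset.card_erase_of_mem (Finset.mem_univ _), Finset.card_univ, nsmul_eq_mul,
    Nat.card_eq_fintype_card, Nat.cast_sub Fintype.card_pos, Nat.cast_one]

/-- A map commuting with a projection of rank one acts on it by a scalar. -/
theorem exists_scalar_of_trace_one {V : Type*} [AddCommGroup V] [Module ℂ V]
    [FiniteDimensional ℂ V] {P f : Module.End ℂ V} (hP : IsIdempotentElem P)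
    (htr : LinearMap.trace ℂ V P = 1) (hf : f * P = P * f) : ∃ c : ℂ, f * P = c • P := by
  have h1 : ((Module.finrank ℂ (LinearMap.range P) : ℕ) : ℂ) = ((1 : ℕ) : ℂ) := by
    rw [← (LinearMap.IsIdempotentElem.isProj_range P hP).trace, htr, Nat.cast_one]
  obtain ⟨v, -, hv⟩ := finrank_eq_one_iff'.mp (Nat.cast_injective h1)
  obtain ⟨c, hc⟩ := hv ⟨f (v : V), by
    obtain ⟨w, hw⟩ := v.2
    exact ⟨f w, by rw [← hw]; exact (LinearMap.congr_fun hf w).symm⟩⟩
  refine ⟨c, LinearMap.ext fun w => ?_⟩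
  obtain ⟨a, ha⟩ := hv ⟨P w, ⟨w, rfl⟩⟩
  have ha' : a • (v : V) = P w := congrArg Subtype.val ha
  have hc' : c • (v : V) = f (v : V) := congrArg Subtype.val hc
  show f (P w) = c • P w
  rw [← ha', map_smul, ← hc', smul_comm]

variable (χ : IrrCharacter G) (H : Subgroup G) [Fintype H]

/-- The average over `H` in a representation of the character. -/
theorem exists_average : ∃ (n : ℕ) (ρ : Representation ℂ G (Fin n → ℂ))
    (P : Module.End ℂ (Fin n → ℂ)), IsIdempotentElem P ∧
      (∀ g, (Nat.card H : ℂ) * LinearMap.trace ℂ _ (P * ρ g) = ∑ x : H, (χ : G → ℂ) ((x : G) * g)) ∧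
      (∀ g ∈ Subgroup.centralizer (H : Set G), ρ g * P = P * ρ g) := by
  obtain ⟨n, ρ, -, hχρ⟩ := χ.2
  set P : Module.End ℂ (Fin n → ℂ) := (Nat.card H : ℂ)⁻¹ • ∑ x : H, ρ x with hP
  have hne : (Nat.card H : ℂ) ≠ 0 := Nat.cast_ne_zero.mpr Nat.card_pos.ne'
  have hmul : ∀ d : H, ρ d * P = P := fun d => by
    rw [hP, mul_smul_comm, Finset.mul_sum]
    congr 1
    exact Fintype.sum_equiv (Equiv.mulLeft d) _ _ fun x => by rw [← map_mul]; rfl
  refine ⟨n, ρ, P, ?_, fun g => ?_, fun g hg => ?_⟩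
  · show P * P = P
    conv_lhs => arg 1; rw [hP]
    rw [smul_mul_assoc, Finset.sum_mul, Finset.sum_congr rfl fun x _ => hmul x, Finset.sum_const,
      Finset.card_univ, ← Nat.card_eq_fintype_card, ← Nat.cast_smul_eq_nsmul ℂ, smul_smul,
      inv_mul_cancel₀ hne, one_smul]
  · rw [hP, smul_mul_assoc, map_smul, smul_eq_mul, ← mul_assoc, mul_inv_cancel₀ hne, one_mul,
      Finset.sum_mul, map_sum]
    exact Finset.sum_congr rfl fun x _ => by rw [← map_mul]; exact congrFun hχρ _
  · rw [hP, mul_smul_comm, smul_mul_assoc, Finset.mul_sum, Finset.sum_mul]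
    congr 1
    exact Finset.sum_congr rfl fun x _ => by
      rw [← map_mul, ← map_mul, mem_centralizer_iff.mp hg x x.2]

theorem sum_coset_eq_zero (h0 : ∑ x : H, (χ : G → ℂ) (x : G) = 0) (g : G) :
    ∑ x : H, (χ : G → ℂ) ((x : G) * g) = 0 := by
  obtain ⟨n, ρ, P, hP, htr, -⟩ := exists_average χ H
  have h1 := htr 1
  rw [map_one, mul_one] at h1
  simp only [mul_one, h0, mul_eq_zero] at h1
  rw [← htr g, LinearMap.IsIdempotentElem.eq_zero_of_trace_eq_zero hP
    (h1.resolve_left (Nat.cast_ne_zero.mpr Nat.card_pos.ne')), zero_mul, map_zero, mul_zero]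

theorem sum_coset_commutator (h1' : ∑ x : H, (χ : G → ℂ) (x : G) = (Nat.card H : ℂ)) {a b : G}
    (ha : a ∈ Subgroup.centralizer (H : Set G)) (hb : b ∈ Subgroup.centralizer (H : Set G)) :
    ∑ x : H, (χ : G → ℂ) ((x : G) * (a * b * a⁻¹ * b⁻¹)) = (Nat.card H : ℂ) := by
  obtain ⟨n, ρ, P, hP, htr, hcomm⟩ := exists_average χ H
  have hne : (Nat.card H : ℂ) ≠ 0 := Nat.cast_ne_zero.mpr Nat.card_pos.ne'
  have h1 := htr 1
  rw [map_one, mul_one] at h1
  simp only [mul_one, h1'] at h1
  have htr1 : LinearMap.trace ℂ _ P = 1 := by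
    rwa [← mul_right_inj' hne, mul_one]
  have hsc : ∀ g ∈ Subgroup.centralizer (H : Set G), ∃ c : ℂ, ρ g * P = c • P := fun g hg =>
    exists_scalar_of_trace_one hP htr1 (hcomm g hg)
  obtain ⟨ca, hca⟩ := hsc a ha
  obtain ⟨cb, hcb⟩ := hsc b hb
  obtain ⟨ca', hca'⟩ := hsc a⁻¹ (inv_mem ha)
  obtain ⟨cb', hcb'⟩ := hsc b⁻¹ (inv_mem hb)
  have e1 : ∀ {x x' : G} {c c' : ℂ}, ρ x * P = c • P → ρ x' * P = c' • P →
      ρ (x * x') * P = (c * c') • P := by
    intro x x' c c' e e'
    rw [map_mul, mul_assoc, e', mul_smul_comm, e, smul_smul, mul_comm c']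
  have e2 := e1 (e1 (e1 hca hcb) hca') hcb'
  have e3 := e1 (e1 hca hca') (e1 hcb hcb')
  have e4 : ca * ca' * (cb * cb') = 1 := by
    rw [mul_inv_cancel, mul_inv_cancel, one_mul, map_one, one_mul] at e3
    have := congrArg (LinearMap.trace ℂ _) e3
    rw [map_smul, htr1, smul_eq_mul, mul_one] at this
    exact this.symm
  rw [← htr]
  have e5 : P * ρ (a * b * a⁻¹ * b⁻¹) = P := by
    rw [← hcomm _ (mul_mem (mul_mem (mul_mem ha hb) (inv_mem ha)) (inv_mem hb)), e2,
      show ca * cb * ca' * cb' = ca * ca' * (cb * cb') by ring, e4, one_smul]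
  rw [e5, htr1, mul_one]

end Average

variable {G : Type u} [Group G] [Fintype G] [DecidableEq G] {M : Ideal AlgInt} [M.IsMaximal]
  {u t y : G} {S : Sylow 2 G}

local notation "SS" => ((S : Subgroup G))
local notation "NS" => Subgroup.normalizer (((S : Subgroup G)) : Set G)

/-- Every centralizer of a nontrivial subgroup of `S` is good. -/
def AllGood (S : Sylow 2 G) : Prop :=
  ∀ A : Subgroup G, A ≤ (S : Subgroup G) → A ≠ ⊥ → Good S A

namespace Setup

variable (h : Setup M u t y S)
include h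

theorem exists_jv_neg (hq : 4 ≤ Nat.card SS) : ∃ χ ∈ pb' M G, jv S χ = -1 := by
  by_contra! hc
  have hj : ∀ χ ∈ pb' M G, 0 ≤ jv S χ := fun χ hχ => by
    have := h.jv_ge hq hχ
    have := hc χ hχ
    omega
  have h1 := Finset.sum_nonneg fun χ (hχ : χ ∈ pb' M G) =>
    mul_nonneg (hj χ hχ) (add_nonneg (Int.natCast_nonneg (Nat.card SS)) (hj χ hχ))
  rw [h.sum_jv_mul] at h1
  omega

/-- The character of degree `q - 1`. -/
theorem exists_small_char (hq : 4 ≤ Nat.card SS) : ∃ χ ∈ pb' M G,
    (χ : G → ℂ) 1 = (Nat.card SS : ℂ) - 1 ∧ (χ : G → ℂ) t = -1 ∧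
      ∀ g, (χ : G → ℂ) g = (χ : G → ℂ) 1 → g = 1 := by
  obtain ⟨χ, hχ, hj⟩ := h.exists_jv_neg hq
  have h1 : (χ : G → ℂ) 1 = (Nat.card SS : ℂ) - 1 := by
    rw [apply_one, ← Int.cast_natCast (deg χ),
      show ((deg χ : ℕ) : ℤ) = (Nat.card SS : ℤ) - 1 by rw [jv] at hj; omega]
    simp
  have h2 : (χ : G → ℂ) t = -1 := by rw [h.apply_t hq hχ, hj]; simp
  refine ⟨χ, hχ, h1, h2, fun g hg => ?_⟩
  obtain ⟨n, ρ, -, hχρ⟩ := χ.2
  set N : Subgroup G := MonoidHom.ker ρ with hN
  haveI : N.Normal := MonoidHom.normal_ker _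
  have hker : ∀ g, g ∈ N ↔ (χ : G → ℂ) g = (χ : G → ℂ) 1 := fun g => by
    rw [hN, MonoidHom.mem_ker, ← congrFun hχρ g, ← congrFun hχρ 1, Representation.char_one,
      Char.char_eq_degree_iff ρ g]
    exact Iff.rfl
  have hodd : ¬ 2 ∣ Nat.card N := by
    intro h2'
    haveI : Fact (Nat.Prime 2) := ⟨Nat.prime_two⟩
    obtain ⟨v, hv⟩ := exists_prime_orderOf_dvd_card' (G := N) 2 h2'
    rw [← Subgroup.orderOf_coe] at hv
    obtain ⟨c, hc⟩ := isConj_iff.mp (h.fuse (v : G) 1
      (by rw [pow_one, ← hv]; exact pow_orderOf_eq_one _)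
      (fun e => by rw [e, orderOf_one] at hv; norm_num at hv))
    have hvk := (hker _).mp v.2
    rw [← Char.isClassFunction_irr χ (v : G) c, hc, h2, h1] at hvk
    have hq0 : (Nat.card SS : ℂ) = 0 := by linear_combination -hvk
    exact Nat.cast_ne_zero.mpr Nat.card_pos.ne' hq0
  have hle : N ≤ Cfsg.oddCore G := Coprime.le_pPrimeCore_of_not_dvd Nat.prime_two hodd
  rw [h.core] at hle
  exact Subgroup.mem_bot.mp (hle ((hker g).mpr hg))

/-- A value on a section of an involution of `S`. -/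
theorem apply_core_mem {s x : G} (hs : s ∈ SS) (hs1 : s ≠ 1)
    (hx : x ∈ coreIn (Subgroup.centralizer ({s} : Set G))) {χ : IrrCharacter G} (hχ : χ ∈ pb M G) :
    (χ : G → ℂ) (s * x) = (χ : G → ℂ) t := by
  obtain ⟨c, hc⟩ := isConj_iff.mp (h.isConj_of_mem hs hs1)
  have hmem : c * x * c⁻¹ ∈ coreIn (Subgroup.centralizer ({t} : Set G)) := by
    refine conj_mem_coreIn (fun z => ?_) hx
    rw [mem_centralizer_singleton_iff, mem_centralizer_singleton_iff, ← hc]
    constructor
    · intro e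
      calc c * z * c⁻¹ * (c * s * c⁻¹) = c * (z * s) * c⁻¹ := by group
        _ = c * (s * z) * c⁻¹ := by rw [e]
        _ = c * s * c⁻¹ * (c * z * c⁻¹) := by group
    · intro e
      calc z * s = c⁻¹ * (c * z * c⁻¹ * (c * s * c⁻¹)) * c := by group
        _ = c⁻¹ * (c * s * c⁻¹ * (c * z * c⁻¹)) * c := by rw [e]
        _ = s * z := by group
  rw [← Char.isClassFunction_irr χ (s * x) c,
    show c * (s * x) * c⁻¹ = (c * s * c⁻¹) * (c * x * c⁻¹) by group, hc, h.apply_core hmem hχ]

variable (hgood : AllGood S)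
include hgood

theorem odd_invariant_le_coreIn {s : G} (hs : s ∈ SS) (hs1 : s ≠ 1) {X : Subgroup G}
    (hX : X ≤ Subgroup.centralizer ({s} : Set G)) (hodd : ¬ 2 ∣ Nat.card X)
    (hS : SS ≤ Subgroup.normalizer (X : Set G)) :
    X ≤ coreIn (Subgroup.centralizer ({s} : Set G)) := by
  have hA : Subgroup.zpowers s ≤ SS := Subgroup.zpowers_le.mpr hs
  have hA1 : Subgroup.zpowers s ≠ ⊥ := by rwa [Ne, Subgroup.zpowers_eq_bot]
  have := h.odd_invariant_le hA (hgood _ hA hA1) (X := X) (by rwa [centralizer_zpowers]) hodd hS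
  rwa [centralizer_zpowers] at this

theorem fixedRegular_trivial (hq : 4 ≤ Nat.card SS) {x : G} (hx : x ∈ fixedRegular S) : x = 1 := by
  classical
  haveI : Fact (Nat.Prime 2) := ⟨Nat.prime_two⟩
  obtain ⟨χ, hχ, h1, ht, hfaith⟩ := h.exists_small_char hq
  obtain ⟨D, hD, hDn⟩ := h.exists_complement
  have hDodd : ¬ 2 ∣ Nat.card D := fun h2 => by
    obtain ⟨d, hd⟩ := exists_prime_orderOf_dvd_card' (G := D) 2 h2
    rw [← Subgroup.orderOf_coe] at hd
    exact (mem_fixedRegular.mp ((hD _).mp d.2)).1 (dvd_of_eq hd.symm)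
  have hDS : SS ≤ Subgroup.normalizer (D : Set G) := Invol.le_normalizer_of_forall_conj
    fun c hc z hz => hDn c (Subgroup.le_normalizer hc) z hz
  haveI := Fintype.ofFinite (SS)
  have h0 : ∑ s : SS, (χ : G → ℂ) (s : G) = 0 := by
    rw [sum_off_one (fun s : SS => (χ : G → ℂ) (s : G)) (c := -1) fun s hs => by
      rw [h.apply_mem s.2 (fun e => hs (Subtype.ext e)) χ, ht], Subgroup.coe_one, h1]
    ring
  have h2 := sum_coset_eq_zero χ SS h0 x
  rw [sum_off_one (fun s : SS => (χ : G → ℂ) ((s : G) * x)) (c := -1) fun s hs => by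
    have hs1 : (s : G) ≠ 1 := fun e => hs (Subtype.ext e)
    rw [h.apply_core_mem s.2 hs1 (h.odd_invariant_le_coreIn hgood s.2 hs1 (X := D)
      (fun d hd => mem_centralizer_singleton_iff.mpr ((mem_fixedRegular.mp ((hD d).mp hd)).2 _ s.2).symm.eq)
      hDodd hDS ((hD x).mpr hx)) (mem_pb_iff.mpr (Or.inr hχ)), ht], Subgroup.coe_one, one_mul] at h2
  refine hfaith x ?_
  rw [h1]
  linear_combination h2

/-- The Sylow 2-subgroup is self-centralising. -/
theorem centralizer_S (hq : 4 ≤ Nat.card SS) : Subgroup.centralizer (SS : Set G) = SS := by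
  haveI : Fact (Nat.Prime 2) := ⟨Nat.prime_two⟩
  refine le_antisymm (fun x hx => ?_) fun a ha => mem_centralizer_iff.mpr fun b hb =>
    h.mul_comm_mem hb ha
  have hx2 : x * x = 1 := h.fixedRegular_trivial hgood hq (mem_fixedRegular.mpr
    ⟨h.odd_orderOf_sq x, fun s hs =>
      (show Commute s x from mem_centralizer_iff.mp hx s hs).mul_right
        (mem_centralizer_iff.mp hx s hs)⟩)
  have hp : IsPGroup 2 (Subgroup.zpowers x) := fun z => ⟨1, by
    obtain ⟨z, i, rfl⟩ := z
    refine Subtype.ext ?_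
    show (x ^ i) ^ (2 ^ 1) = 1
    rw [pow_one, pow_two, ← zpow_add, show i + i = 2 * i by ring, zpow_mul,
      show (2 : ℤ) = ((2 : ℕ) : ℤ) from rfl, zpow_natCast, pow_two, hx2, one_zpow]⟩
  have hsup := hp.to_sup_of_normal_right' S.isPGroup' (Subgroup.zpowers_le.mpr
    (mem_normalizer_iff.mpr fun z => by
      constructor
      · intro hz
        rw [← mem_centralizer_iff.mp hx z hz, mul_inv_cancel_right]; exact hz
      · intro hz
        have e := mem_centralizer_iff.mp hx _ hz
        have : x * z * x⁻¹ = z := by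
          rw [mul_assoc, mul_assoc, mul_right_inj] at e
          simpa using (congrArg (fun w => x * w) e).symm
        rwa [this] at hz))
  exact (S.is_maximal' hsup le_sup_right).le (Subgroup.mem_sup_left (Subgroup.mem_zpowers x))

theorem hyperplane (hq : 4 ≤ Nat.card SS) {H : Subgroup G} (hH : H ≤ SS)
    (hcard : Nat.card H * 2 = Nat.card SS) :
    coreIn (Subgroup.centralizer ({t} : Set G)) ⊓ Subgroup.centralizer (H : Set G) = ⊥ := by
  classical
  obtain ⟨χ, hχ, h1, ht, hfaith⟩ := h.exists_small_char hq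
  set W := coreIn (Subgroup.centralizer ({t} : Set G)) with hW
  set X := W ⊓ Subgroup.centralizer (H : Set G) with hX
  haveI := Fintype.ofFinite H
  have hXodd : ¬ 2 ∣ Nat.card X := fun h2 =>
    odd_coreIn (Subgroup.centralizer ({t} : Set G))
      (h2.trans (Subgroup.card_dvd_of_le inf_le_left))
  have hSX : SS ≤ Subgroup.normalizer (X : Set G) := Invol.le_normalizer_of_forall_conj
    fun c hc z hz => by
      refine ⟨(mem_normalizer_iff.mp (le_normalizer_coreIn _
        (h.le_centralizer_singleton h.mem hc)) z).mp hz.1, mem_centralizer_iff.mpr fun w hw => ?_⟩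
      have hwc : w * c = c * w := h.mul_comm_mem (hH hw) hc
      have hzw : w * z = z * w := mem_centralizer_iff.mp hz.2 w hw
      calc w * (c * z * c⁻¹) = (w * c) * z * c⁻¹ := by group
        _ = c * (w * z) * c⁻¹ := by rw [hwc]; group
        _ = c * z * (w * c⁻¹) := by rw [hzw]; group
        _ = c * z * (c⁻¹ * w) := by rw [h.mul_comm_mem (hH hw) (inv_mem hc)]
        _ = c * z * c⁻¹ * w := by group
  have hqC : (Nat.card SS : ℂ) = (Nat.card H : ℂ) * 2 := by rw [← hcard]; push_cast; ring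
  have hs0 : ∑ x : H, (χ : G → ℂ) (x : G) = (Nat.card H : ℂ) := by
    rw [sum_off_one (fun x : H => (χ : G → ℂ) (x : G)) (c := -1) fun x hx => by
      rw [h.apply_mem (hH x.2) (fun e => hx (Subtype.ext e)) χ, ht], Subgroup.coe_one, h1, hqC]
    ring
  refine le_bot_iff.mp fun x hx => ?_
  refine Subgroup.mem_bot.mpr (h.fixedRegular_trivial hgood hq (mem_fixedRegular.mpr
    ⟨odd_orderOf_of_mem hXodd hx, fun s hs => ?_⟩))
  have hsC : s ∈ Subgroup.centralizer (H : Set G) := h.S_le_centralizer hH hs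
  have hz : s * x * s⁻¹ * x⁻¹ ∈ X :=
    mul_mem ((mem_normalizer_iff.mp (hSX hs) x).mp hx) (inv_mem hx)
  have h2 := sum_coset_commutator χ H hs0 hsC hx.2
  rw [sum_off_one (fun w : H => (χ : G → ℂ) ((w : G) * (s * x * s⁻¹ * x⁻¹))) (c := -1) fun w hw => by
    have hw1 : (w : G) ≠ 1 := fun e => hw (Subtype.ext e)
    rw [h.apply_core_mem (hH w.2) hw1 (h.odd_invariant_le_coreIn hgood (hH w.2) hw1 (X := X)
      (fun z hz => mem_centralizer_singleton_iff.mpr (mem_centralizer_iff.mp hz.2 _ w.2).symm)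
      hXodd hSX hz) (mem_pb_iff.mpr (Or.inr hχ)), ht], Subgroup.coe_one, one_mul] at h2
  have h3 := hfaith (s * x * s⁻¹ * x⁻¹) (by rw [h1, hqC]; linear_combination h2)
  exact mul_inv_eq_iff_eq_mul.mp (mul_inv_eq_one.mp h3)

/-- The core of the centralizer of `t` is trivial. -/
theorem core_eq_bot (hq : 4 ≤ Nat.card SS) :
    coreIn (Subgroup.centralizer ({t} : Set G)) = ⊥ := by
  set W := coreIn (Subgroup.centralizer ({t} : Set G)) with hW
  haveI : Fact (Nat.Prime 2) := ⟨Nat.prime_two⟩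
  suffices key : ∀ k : ℕ, ∀ B : Subgroup G, Nat.card SS - Nat.card B = k → B ≤ SS →
      W ⊓ Subgroup.centralizer (B : Set G) = ⊥ by
    refine le_bot_iff.mp fun x hx => ?_
    exact (key _ ⊥ rfl bot_le).le ⟨hx, mem_centralizer_iff.mpr fun b hb => by
      rw [Subgroup.mem_bot.mp hb, one_mul, mul_one]⟩
  intro k
  induction k using Nat.strong_induction_on with
  | _ k ih =>
    intro B hk hB
    obtain ⟨C, hCS, hcard, hdis, -⟩ := h.exists_complementA hB
    rcases (show Nat.card C = 1 ∨ Nat.card C = 2 ∨ 2 < Nat.card C by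
        have := Nat.card_pos (α := C); omega) with hC | hC | hC
    · rw [hC, one_mul] at hcard
      have e : B = SS := Subgroup.eq_of_le_of_card_ge hB hcard.ge
      refine le_bot_iff.mp fun x hx => ?_
      rw [e, h.centralizer_S hgood hq] at hx
      by_contra hx1
      exact odd_orderOf_of_mem (odd_coreIn _) hx.1
        (by rw [h.orderOf_mem hx.2 fun e => hx1 (Subgroup.mem_bot.mpr e)])
    · exact h.hyperplane hgood hq hB (by rw [← hcard, hC, mul_comm])
    · haveI : IsMulCommutative C :=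
        ⟨⟨fun a b => Subtype.ext (h.mul_comm_mem (hCS a.2) (hCS b.2))⟩⟩
      have hnc : ¬ IsCyclic C := by
        intro hcy
        obtain ⟨c, hc⟩ := IsCyclic.exists_generator (α := C)
        have h2 : orderOf c ∣ 2 := orderOf_dvd_of_pow_eq_one
          (Subtype.ext (by simp [pow_two, h.sq_eq_one (hCS c.2)]))
        rw [orderOf_eq_card_of_forall_mem_zpowers hc] at h2
        have := Nat.le_of_dvd two_pos h2
        omega
      have hCN : C ≤ Subgroup.normalizer
          ((W ⊓ Subgroup.centralizer (B : Set G) : Subgroup G) : Set G) :=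
        Invol.le_normalizer_of_forall_conj fun c hc z hz => by
          have hcB : c ∈ Subgroup.centralizer (B : Set G) := h.S_le_centralizer hB (hCS hc)
          have hzB : z ∈ Subgroup.centralizer (B : Set G) := hz.2
          have hcz : c * z * c⁻¹ ∈ Subgroup.centralizer (B : Set G) :=
            mul_mem (mul_mem hcB hzB) (inv_mem hcB)
          exact ⟨(mem_normalizer_iff.mp (le_normalizer_coreIn _
            (h.le_centralizer_singleton h.mem (hCS hc))) z).mp hz.1, hcz⟩
      have hcop : (Nat.card C).Coprime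
          (Nat.card (W ⊓ Subgroup.centralizer (B : Set G) : Subgroup G)) := by
        obtain ⟨m, hm⟩ := IsPGroup.iff_card.mp (S.isPGroup'.to_le hCS)
        rw [hm]
        exact Nat.Coprime.pow_left _ (Nat.prime_two.coprime_iff_not_dvd.mpr fun h2 =>
          odd_coreIn (Subgroup.centralizer ({t} : Set G))
            (h2.trans (Subgroup.card_dvd_of_le inf_le_left)))
      refine le_bot_iff.mp (CfsgLib.Coprime.le_of_centralizers_le (A := C) hnc hCN hcop
        fun a ha ha1 => ?_)
      have hBa : B ⊔ Subgroup.zpowers a ≤ SS := sup_le hB (Subgroup.zpowers_le.mpr (hCS ha))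
      have hlt : Nat.card B < Nat.card (B ⊔ Subgroup.zpowers a : Subgroup G) := by
        refine lt_of_le_of_ne (Subgroup.card_le_of_le le_sup_left) fun e => ha1 (hdis a ha ?_)
        rw [Subgroup.eq_of_le_of_card_ge le_sup_left e.ge]
        exact Subgroup.mem_sup_right (Subgroup.mem_zpowers a)
      have hle := Subgroup.card_le_of_le hBa
      refine le_trans (fun x hx => ?_) (ih _ (by omega) _ rfl hBa).le
      exact ⟨hx.1.1, mem_centralizer_sup_zpowers.mpr
        ⟨hx.1.2, mem_centralizer_singleton_iff.mp hx.2⟩⟩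

theorem y_eq_one (hq : 4 ≤ Nat.card SS) : y = 1 := by
  have := h.y_mem_core hq
  rw [h.core_eq_bot hgood hq] at this
  exact Subgroup.mem_bot.mp this

theorem u_eq (hq : 4 ≤ Nat.card SS) : u = t := by
  rw [h.split, h.y_eq_one hgood hq, mul_one]

/-- The centralizer of `t` normalises `S`. -/
theorem centralizer_le_normalizer (hq : 4 ≤ Nat.card SS) :
    Subgroup.centralizer ({t} : Set G) ≤ NS := by
  intro x hx
  have hA : Subgroup.zpowers t ≤ SS := Subgroup.zpowers_le.mpr h.mem
  obtain ⟨o, ho, m, hm, rfl⟩ := hgood _ hA (by rw [Ne, Subgroup.zpowers_eq_bot]; exact h.t_ne_one) x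
    (by rwa [centralizer_zpowers])
  rw [centralizer_zpowers, h.core_eq_bot hgood hq, Subgroup.mem_bot] at ho
  rw [ho, one_mul]
  exact hm.2

end Setup

end CfsgLib.Block.ConstDiff
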