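import Cfsg.Agent.Lib.Block.ConstDiff.Cores
import Cfsg.Agent.Lib.Block.OneBlock
import Cfsg.Agent.S1230

/-!
# The centralizer of an involution is the Sylow 2-subgroup

All characters of `C(t)` lie in its principal block, so its order is `q d` with `d = -Σ' j`;
an element of prime order in `C(t)` then bounds the number of characters with value `-1`.
-/

set_option autoImplicit false
set_option linter.unusedSectionVars false
set_option linter.style.haveILetI false
set_option linter.unusedSimpArgs false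

open Cfsg
open Subgroup (mem_centralizer_singleton_iff mem_centralizer_iff mem_normalizer_iff)
open scoped ComplexConjugate

namespace CfsgLib.Block.ConstDiff

universe u

section Norms

variable {G : Type u} [Group G] [Finite G]

/-- The subgroup generated by a subgroup and a commuting involution. -/
theorem exists_double (Y : Subgroup G) {t : G} (ht : t * t = 1) (hc : ∀ y ∈ Y, Commute t y) :
    ∃ H : Subgroup G, ∀ x, x ∈ H ↔ x ∈ Y ∨ t * x ∈ Y := by
  refine ⟨{ carrier := {x | x ∈ Y ∨ t * x ∈ Y}, one_mem' := Or.inl (one_mem Y), mul_mem' := ?_,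
            inv_mem' := ?_ }, fun x => Iff.rfl⟩
  · intro a b ha hb
    have hta : ∀ {x : G}, t * x ∈ Y → Commute t x := fun {x} hx => by
      have := (hc _ hx).eq
      rw [← mul_assoc t t x, ht, one_mul, mul_assoc t x t] at this
      have e := congrArg (fun w => t * w) this
      simp only [← mul_assoc, ht, one_mul] at e
      exact e
    rcases ha with ha | ha <;> rcases hb with hb | hb
    · exact Or.inl (mul_mem ha hb)
    · refine Or.inr ?_
      rw [← mul_assoc, (hc a ha).eq, mul_assoc]
      exact mul_mem ha hb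
    · exact Or.inr (by rw [← mul_assoc]; exact mul_mem ha hb)
    · refine Or.inl ?_
      have : a * b = (t * a) * (t * b) := by
        rw [mul_assoc t a, ← mul_assoc a t b, ← (hta ha).eq, mul_assoc t a b, ← mul_assoc t t, ht,
          one_mul]
      rw [this]
      exact mul_mem ha hb
  · intro a ha
    rcases ha with ha | ha
    · exact Or.inl (inv_mem ha)
    · refine Or.inr ?_
      have hti : t⁻¹ = t := inv_eq_of_mul_eq_one_right ht
      have h1 := inv_mem ha
      rw [mul_inv_rev, hti] at h1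
      have h2 : t * a⁻¹ = a⁻¹ * t := by
        have h3 : Commute t (a⁻¹ * t) := hc _ h1
        have e := congrArg (fun w => w * t) h3.eq
        simp only [mul_assoc, ht, mul_one] at e
        exact e
      rw [h2]
      exact h1

/-- The values of a character on the coset `t Y` have squared norms adding up to a multiple of
`|Y|`. -/
theorem card_dvd_sum_normSq {t : G} (ht : t * t = 1) (Y : Subgroup G) [Fintype Y]
    (hY : t ∉ Y) (hc : ∀ y ∈ Y, Commute t y) (χ : IrrCharacter G) :
    ∃ m : ℤ, ∑ y : Y, Complex.normSq ((χ : G → ℂ) (t * (y : G))) = (Nat.card Y : ℝ) * m := by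
  classical
  obtain ⟨H, hH⟩ := exists_double Y ht hc
  haveI := Fintype.ofFinite H
  let e : Y ⊕ Y ≃ H := Equiv.ofBijective
    (Sum.elim (fun y => ⟨(y : G), (hH _).mpr (Or.inl y.2)⟩)
      (fun y => ⟨t * (y : G), (hH _).mpr (Or.inr (by rw [← mul_assoc, ht, one_mul]; exact y.2))⟩)) ⟨by
    rintro (a | a) (b | b) hab <;> have he := congrArg Subtype.val hab <;>
      simp only [Sum.elim_inl, Sum.elim_inr] at he
    · exact congrArg Sum.inl (Subtype.ext he)
    · exact absurd (by rw [eq_mul_inv_of_mul_eq he.symm]; exact mul_mem a.2 (inv_mem b.2)) hY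
    · exact absurd (by rw [eq_mul_inv_of_mul_eq he]; exact mul_mem b.2 (inv_mem a.2)) hY
    · exact congrArg Sum.inr (Subtype.ext (mul_left_cancel he)), by
    rintro ⟨x, hx⟩
    rcases (hH x).mp hx with h1 | h1
    · exact ⟨Sum.inl ⟨x, h1⟩, rfl⟩
    · exact ⟨Sum.inr ⟨t * x, h1⟩, Subtype.ext (by
        show t * (t * x) = x
        rw [← mul_assoc, ht, one_mul])⟩⟩
  have hHchar := Char.isCharacter_comp (Char.isCharacter_irr χ) H.subtype
  have hYchar := Char.isCharacter_comp (Char.isCharacter_irr χ) Y.subtype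
  obtain ⟨m1, h1⟩ := Char.classInner_isCharacter hHchar hHchar
  obtain ⟨m2, h2⟩ := Char.classInner_isCharacter hYchar hYchar
  rw [Char.classInner_self, ← Complex.ofReal_natCast m1, Complex.ofReal_inj,
    inv_mul_eq_iff_eq_mul₀ (Nat.cast_ne_zero.mpr Nat.card_pos.ne')] at h1
  rw [Char.classInner_self, ← Complex.ofReal_natCast m2, Complex.ofReal_inj,
    inv_mul_eq_iff_eq_mul₀ (Nat.cast_ne_zero.mpr Nat.card_pos.ne')] at h2
  simp only [Subgroup.coe_subtype, ← Complex.normSq_eq_norm_sq] at h1 h2
  have he1 : ∀ y : Y, ((e (Sum.inl y) : H) : G) = y := fun _ => rfl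
  have he2 : ∀ y : Y, ((e (Sum.inr y) : H) : G) = t * y := fun _ => rfl
  rw [← e.sum_comp, Fintype.sum_sum_type,
    show Nat.card H = 2 * Nat.card Y by rw [← Nat.card_congr e, Nat.card_sum]; ring] at h1
  simp only [he1, he2] at h1
  refine ⟨2 * (m1 : ℤ) - m2, ?_⟩
  push_cast at h1 h2 ⊢
  linarith

end Norms

variable {G : Type u} [Group G] [Fintype G] [DecidableEq G] {M : Ideal AlgInt} [M.IsMaximal]
  {u t y : G} {S : Sylow 2 G}

local notation "SS" => ((S : Subgroup G))
local notation "NS" => Subgroup.normalizer (((S : Subgroup G)) : Set G)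

namespace Setup

variable (h : Setup M u t y S)
include h

variable (hgood : AllGood S)
include hgood

theorem sum_irr_centralizer (hq : 4 ≤ Nat.card SS)
    [Fintype (Subgroup.centralizer ({t} : Set G))] (z : Subgroup.centralizer ({t} : Set G))
    (hz : ¬ 2 ∣ orderOf z) :
    ∑ χ ∈ pb M G, Complex.normSq ((χ : G → ℂ) (t * (z : G))) =
      (Nat.card (Subgroup.centralizer ({z} : Set (Subgroup.centralizer ({t} : Set G)))) : ℝ) := by
  classical
  have := Fintype.ofFinite (IrrCharacter (Subgroup.centralizer ({t} : Set G)))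
  haveI : Fact (Nat.Prime 2) := ⟨Nat.prime_two⟩
  have hM := h.modular
  have hSK : SS ≤ (Subgroup.centralizer ({t} : Set G)) := h.le_centralizer_singleton h.mem
  haveI : ((SS).subgroupOf (Subgroup.centralizer ({t} : Set G))).Normal := (Subgroup.normal_subgroupOf_iff_le_normalizer hSK).mpr
    (h.centralizer_le_normalizer hgood hq)
  have hp : IsPGroup 2 ((SS).subgroupOf (Subgroup.centralizer ({t} : Set G))) :=
    S.isPGroup'.of_equiv (Subgroup.subgroupOfEquivOfLe hSK).symm
  have hcen : Subgroup.centralizer (((SS).subgroupOf (Subgroup.centralizer ({t} : Set G)) : Subgroup (Subgroup.centralizer ({t} : Set G))) : Set (Subgroup.centralizer ({t} : Set G))) ≤ (SS).subgroupOf (Subgroup.centralizer ({t} : Set G)) :=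
    fun x hx => by
      rw [Subgroup.mem_subgroupOf, ← SetLike.mem_coe, ← h.centralizer_S hgood hq]
      exact mem_centralizer_iff.mpr fun s hs => congrArg Subtype.val
        (mem_centralizer_iff.mp hx ⟨s, hSK hs⟩ (Subgroup.mem_subgroupOf.mpr hs))
  have hall : pb M (Subgroup.centralizer ({t} : Set G)) = Finset.univ := Finset.eq_univ_iff_forall.mpr fun η =>
    mem_pb.mpr (OneBlock.mem_principal_of_constrained hM hp hcen η)
  have e := sum_section_eq hM h.invol z z hz hz
  rw [hall, Char.sum_irr_mul_conj z z, if_pos (IsConj.refl z)] at e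
  simp only [Complex.mul_conj] at e
  exact_mod_cast e

theorem card_centralizer_eq (hq : 4 ≤ Nat.card SS) :
    (Nat.card (Subgroup.centralizer ({t} : Set G)) : ℤ) =
      (Nat.card SS : ℤ) * (-(∑ χ ∈ pb' M G, jv S χ)) := by
  classical
  haveI := Fintype.ofFinite (Subgroup.centralizer ({t} : Set G))
  have e := h.sum_irr_centralizer hgood hq 1 (by simp)
  have htop : Subgroup.centralizer ({1} : Set (Subgroup.centralizer ({t} : Set G))) = ⊤ :=
    eq_top_iff.mpr fun x _ => mem_centralizer_singleton_iff.mpr (by rw [one_mul, mul_one])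
  rw [Subgroup.coe_one, mul_one, htop, Subgroup.card_top] at e
  have e2 := h.sum_sq_t hq
  simp only [Complex.mul_conj] at e2
  have e3 : ((∑ χ ∈ pb M G, Complex.normSq ((χ : G → ℂ) t) : ℝ) : ℂ) =
      (((-((Nat.card SS : ℤ) * ∑ χ ∈ pb' M G, jv S χ) : ℤ) : ℝ) : ℂ) := by
    push_cast
    push_cast at e2
    exact e2
  rw [Complex.ofReal_inj, e] at e3
  have e4 : (Nat.card (Subgroup.centralizer ({t} : Set G)) : ℤ) =
      -((Nat.card SS : ℤ) * ∑ χ ∈ pb' M G, jv S χ) := by exact_mod_cast e3
  rw [e4]; ring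

/-- The centralizer of `t` is `S`. -/
theorem centralizer_t (hq : 4 ≤ Nat.card SS) {n : ℕ} (hn : Nat.card SS = 2 ^ n) :
    Subgroup.centralizer ({t} : Set G) = SS := by
  classical
  haveI : Fact (Nat.Prime 2) := ⟨Nat.prime_two⟩
  set K := Subgroup.centralizer ({t} : Set G) with hK
  haveI := Fintype.ofFinite K
  have hSK : SS ≤ K := h.le_centralizer_singleton h.mem
  have hKN : K ≤ NS := h.centralizer_le_normalizer hgood hq
  by_contra hne
  obtain ⟨d, hd⟩ : ∃ d, d = (SS).relIndex K := ⟨_, rfl⟩
  have hcardK : Nat.card SS * d = Nat.card K := by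
    rw [hd, ← Subgroup.relIndex_bot_left, ← Subgroup.relIndex_bot_left]
    exact Subgroup.relIndex_mul_relIndex _ _ _ bot_le hSK
  have hdn : d ≤ n := by
    have h1 := (h.automizer_data hn h.mem h.t_ne_one).1
    rwa [h.centralizer_S hgood hq, ← hK, inf_eq_right.mpr hKN, ← hd] at h1
  have hdodd : ¬ 2 ∣ d := fun h2 => S.not_dvd_index (h2.trans (by
    have e := Subgroup.card_subgroup_dvd_card K
    rw [← hcardK, ← (SS).card_mul_index] at e
    exact Nat.dvd_of_mul_dvd_mul_left Nat.card_pos e))
  have hd1 : d ≠ 1 := fun e => hne (le_antisymm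
    (Subgroup.relIndex_eq_one.mp (hd ▸ e)) hSK)
  have hd0 : d ≠ 0 := fun e => by
    rw [e, mul_zero] at hcardK
    exact Nat.card_pos.ne' hcardK.symm
  have hd3 : 3 ≤ d := by omega
  have hsum : ∑ χ ∈ pb' M G, jv S χ = -(d : ℤ) := by
    have e := h.card_centralizer_eq hgood hq
    rw [← hK, ← hcardK] at e
    push_cast at e
    have := mul_left_cancel₀ (Int.natCast_ne_zero.mpr Nat.card_pos.ne') e
    linarith
  -- an element of prime order
  obtain ⟨p, hp, hpd⟩ := Nat.exists_prime_and_dvd hd1
  haveI := Fact.mk hp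
  have hp2 : p ≠ 2 := fun e => hdodd (e ▸ hpd)
  obtain ⟨g, hg⟩ := exists_prime_orderOf_dvd_card' (G := K) p
    (hpd.trans ⟨_, by rw [← hcardK, mul_comm]⟩)
  have hg' : orderOf (g : G) = p := by rw [Subgroup.orderOf_coe, hg]
  have hgodd : ¬ 2 ∣ orderOf (g : G) := by
    rw [hg']
    exact fun h2 => hp2 ((Nat.prime_dvd_prime_iff_eq Nat.prime_two hp).mp h2).symm
  set f := Nat.card ↥(SS ⊓ Subgroup.centralizer ({(g : G)} : Set G)) with hf
  have hgS : (g : G) ∉ Subgroup.centralizer (SS : Set G) := by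
    rw [h.centralizer_S hgood hq]
    intro hm
    rw [h.orderOf_mem hm (fun e => by rw [e, orderOf_one] at hg'; exact hp.one_lt.ne hg')] at hg'
    exact hp2 hg'.symm
  have hf3 : f ^ 3 ≤ 2 ^ n := hn ▸ (h.automizer_data hn h.mem h.t_ne_one).2 g (hKN g.2) g.2 hgS
  have hcg : t ∈ Subgroup.centralizer ({(g : G)} : Set G) :=
    mem_centralizer_singleton_iff.mpr (mem_centralizer_singleton_iff.mp g.2).symm
  have hf2 : 2 ≤ f := by
    rw [hf, ← Nat.lt_iff_add_one_le, Finite.one_lt_card_iff_nontrivial]
    exact ⟨⟨⟨t, h.mem, hcg⟩, 1, fun e => h.t_ne_one (congrArg Subtype.val e)⟩⟩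
  -- the columns at `t Y`
  set Y := Subgroup.zpowers (g : G) with hY
  haveI := Fintype.ofFinite Y
  have hcardY : Nat.card Y = p := by rw [hY, Nat.card_zpowers, hg']
  have hYK : Y ≤ K := Subgroup.zpowers_le.mpr g.2
  have hYodd : ∀ z ∈ Y, ¬ 2 ∣ orderOf z := fun z hz h2 => hgodd (by
    rw [hg', ← hcardY]
    exact h2.trans (by rw [← Subgroup.orderOf_mk z hz]; exact orderOf_dvd_natCard _))
  have htY : t ∉ Y := fun hm => hYodd t hm (by rw [h.invol])
  have hcomm : ∀ z ∈ Y, Commute t z := fun z hz =>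
    (mem_centralizer_singleton_iff.mp (hYK hz)).symm
  have hY1 : ∀ z : Y, z ≠ 1 → ∑ χ ∈ pb M G, Complex.normSq ((χ : G → ℂ) (t * (z : G))) ≤
      ((f * d : ℕ) : ℝ) := by
    intro z hz
    set zK : K := ⟨z, hYK z.2⟩ with hzK
    have e := h.sum_irr_centralizer hgood hq zK (by rw [← Subgroup.orderOf_coe]; exact hYodd z z.2)
    refine le_of_eq_of_le e (Nat.cast_le.mpr ?_)
    set C := (Subgroup.centralizer ({zK} : Set K)).map K.subtype with hC
    rw [show Nat.card (Subgroup.centralizer ({zK} : Set K)) = Nat.card C from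
      (Subgroup.card_map_of_injective K.subtype_injective).symm]
    have hCK : C ≤ K := Subgroup.map_subtype_le _
    have hCg : C ≤ Subgroup.centralizer ({(g : G)} : Set G) := by
      rintro _ ⟨w, hw, rfl⟩
      have h1 : (z : G) ∈ Subgroup.centralizer ({(w : G)} : Set G) :=
        mem_centralizer_singleton_iff.mpr (congrArg Subtype.val
          (mem_centralizer_singleton_iff.mp hw)).symm
      have h2 : Subgroup.zpowers (z : G) = Y := by
        refine Subgroup.eq_of_le_of_card_ge (Subgroup.zpowers_le.mpr z.2) (le_of_eq ?_)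
        have h3 : Nat.card (Subgroup.zpowers (z : G)) ∣ p :=
          hcardY ▸ Subgroup.card_dvd_of_le (Subgroup.zpowers_le.mpr z.2)
        rcases hp.eq_one_or_self_of_dvd _ h3 with e1 | e1
        · rw [Nat.card_zpowers, orderOf_eq_one_iff] at e1
          exact absurd (Subtype.ext e1) hz
        · rw [hcardY, e1]
      have h4 : Y ≤ Subgroup.centralizer ({(w : G)} : Set G) :=
        h2 ▸ Subgroup.zpowers_le.mpr h1
      exact mem_centralizer_singleton_iff.mpr
        (mem_centralizer_singleton_iff.mp (h4 (Subgroup.mem_zpowers (g : G)))).symm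
    have e1 : Nat.card ↥(C ⊓ SS) * (SS).relIndex C = Nat.card C := by
      rw [← Subgroup.inf_relIndex_left C SS, ← Subgroup.relIndex_bot_left,
        ← Subgroup.relIndex_bot_left]
      exact Subgroup.relIndex_mul_relIndex _ _ _ bot_le inf_le_left
    rw [← e1]
    refine Nat.mul_le_mul (Subgroup.card_le_of_le (le_inf inf_le_right (inf_le_left.trans hCg))) ?_
    rw [hd]
    exact Subgroup.relIndex_le_of_le_right hCK (hd ▸ hd0)
  set P := (pb' M G).filter (fun χ => 0 < jv S χ) with hP
  set A := (pb' M G).filter (fun χ => jv S χ = -1) with hA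
  have hJsum : ∑ χ ∈ pb' M G, jv S χ = (∑ χ ∈ P, jv S χ) - A.card := by
    have e : ∀ χ ∈ pb' M G, jv S χ = (if 0 < jv S χ then jv S χ else 0) -
        (if jv S χ = -1 then (1 : ℤ) else 0) := fun χ hχ => by
      have := h.jv_ge hq hχ
      split_ifs <;> omega
    rw [Finset.sum_congr rfl e, Finset.sum_sub_distrib, ← Finset.sum_filter, ← Finset.sum_filter,
      Finset.sum_const, ← hP, ← hA, nsmul_one]
  have hbound : ((A.card : ℝ) + 1) ≤ ((f * d : ℕ) : ℝ) := by
    have hup : ∑ z : Y, ∑ χ ∈ pb M G, Complex.normSq ((χ : G → ℂ) (t * (z : G))) ≤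
        ∑ χ ∈ pb M G, Complex.normSq ((χ : G → ℂ) t) + ((p : ℝ) - 1) * ((f * d : ℕ) : ℝ) := by
      rw [← Finset.add_sum_erase _ _ (Finset.mem_univ (1 : Y))]
      refine add_le_add (le_of_eq (by rw [Subgroup.coe_one, mul_one])) ?_
      refine le_trans (Finset.sum_le_sum fun z hz => hY1 z (Finset.mem_erase.mp hz).1) ?_
      rw [Finset.sum_const, Finset.card_erase_of_mem (Finset.mem_univ _), Finset.card_univ,
        nsmul_eq_mul, ← Nat.card_eq_fintype_card, hcardY, Nat.cast_sub hp.pos, Nat.cast_one]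
    rw [Finset.sum_comm] at hup
    have hlow : ∀ χ ∈ pb M G, Complex.normSq ((χ : G → ℂ) t) +
        ((p : ℝ) - 1) * (if χ = oneChar G ∨ χ ∈ A then 1 else 0) ≤
        ∑ z : Y, Complex.normSq ((χ : G → ℂ) (t * (z : G))) := by
      intro χ hχ
      have hsing : Complex.normSq ((χ : G → ℂ) t) ≤
          ∑ z : Y, Complex.normSq ((χ : G → ℂ) (t * (z : G))) := by
        refine le_trans (le_of_eq ?_) (Finset.single_le_sum (fun z _ => Complex.normSq_nonneg _)
          (Finset.mem_univ (1 : Y)))
        rw [Subgroup.coe_one, mul_one]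
      split_ifs with hcase
      · have hval : Complex.normSq ((χ : G → ℂ) t) = 1 := by
          rcases hcase with e | e
          · rw [e, oneChar_apply, Complex.normSq_one]
          · rw [hA, Finset.mem_filter] at e
            rw [h.apply_t hq e.1, e.2]
            simp
        obtain ⟨m, hm⟩ := card_dvd_sum_normSq (by rw [← pow_two, ← h.invol]; exact pow_orderOf_eq_one t)
          Y htY hcomm χ
        rw [hcardY] at hm
        rw [hval, hm] at hsing ⊢
        have hm1 : 1 ≤ m := by
          by_contra hlt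
          have : (m : ℝ) ≤ 0 := by exact_mod_cast (show m ≤ 0 by omega)
          have := mul_nonpos_of_nonneg_of_nonpos (Nat.cast_nonneg (α := ℝ) p) this
          linarith
        have : (1 : ℝ) ≤ m := by exact_mod_cast hm1
        have := mul_le_mul_of_nonneg_left this (Nat.cast_nonneg (α := ℝ) p)
        linarith
      · rw [mul_zero, add_zero]
        exact hsing
    have h2 := (Finset.sum_le_sum hlow).trans hup
    rw [Finset.sum_add_distrib, ← Finset.mul_sum] at h2
    have h3 : ∑ χ ∈ pb M G, (if χ = oneChar G ∨ χ ∈ A then (1 : ℝ) else 0) = (A.card : ℝ) + 1 := by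
      have hone : oneChar G ∉ A := fun e => (mem_pb'.mp (Finset.mem_filter.mp e).1).1 rfl
      rw [← Finset.sum_filter, show (pb M G).filter (fun χ => χ = oneChar G ∨ χ ∈ A) =
          insert (oneChar G) A by
        ext χ
        simp only [Finset.mem_filter, Finset.mem_insert]
        refine ⟨fun e => e.2, fun e => ⟨mem_pb_iff.mpr (e.imp id fun e' => ?_), e⟩⟩
        exact (Finset.mem_filter.mp e').1,
        Finset.sum_const, Finset.card_insert_of_notMem hone, nsmul_eq_mul, mul_one]
      push_cast; ring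
    rw [h3] at h2
    have h4 : (0 : ℝ) < (p : ℝ) - 1 := by
      have : (2 : ℝ) ≤ p := by exact_mod_cast hp.two_le
      linarith
    nlinarith
  have hb : A.card + 1 ≤ f * d := by exact_mod_cast hbound
  have hsq : ∑ χ ∈ P, jv S χ * (jv S χ + 1) = (d : ℤ) * ((2 : ℤ) ^ n - 1) - 1 := by
    have e := h.sum_jv_mul
    have e1 : ∑ χ ∈ P, jv S χ * (jv S χ + 1) = ∑ χ ∈ pb' M G, jv S χ * (jv S χ + 1) :=
      Finset.sum_filter_of_ne fun χ hχ hne' => by
        have := h.jv_ge hq hχ
        by_contra hcon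
        rcases (show jv S χ = 0 ∨ jv S χ = -1 by omega) with e2 | e2 <;>
          exact hne' (by rw [e2]; norm_num)
    have e3 : ∑ χ ∈ pb' M G, jv S χ * ((Nat.card SS : ℤ) + jv S χ) =
        ∑ χ ∈ pb' M G, jv S χ * (jv S χ + 1) + ((Nat.card SS : ℤ) - 1) * ∑ χ ∈ pb' M G, jv S χ := by
      rw [Finset.mul_sum, ← Finset.sum_add_distrib]
      exact Finset.sum_congr rfl fun χ _ => by ring
    rw [e3, hsum, hn] at e
    push_cast at e
    rw [e1]
    linarith
  refine count_false hd3 hdn hf2 hf3 (J := ∑ χ ∈ P, jv S χ)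
    (Finset.sum_nonneg fun χ hχ => (Finset.mem_filter.mp hχ).2.le) ?_ hsq
    (sum_le_sq P (jv S) fun χ hχ => (Finset.mem_filter.mp hχ).2.le)
  rw [hsum] at hJsum
  have : (A.card : ℤ) + 1 ≤ (f : ℤ) * d := by exact_mod_cast hb
  linarith

/-- `G` is a two-dimensional projective special linear group. -/
theorem psl_two (hq : 4 ≤ Nat.card SS) {n : ℕ} (hn : Nat.card SS = 2 ^ n) :
    ∃ (F : Type) (_ : Field F) (_ : Fintype F), Fintype.card F = Nat.card SS ∧
      Nonempty (G ≃* Matrix.ProjectiveSpecialLinearGroup (Fin 2) F) := by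
  have hnc : ¬ IsCyclic SS := by
    intro hcy
    obtain ⟨c, hc⟩ := IsCyclic.exists_generator (α := SS)
    have h2 : orderOf c ∣ 2 := orderOf_dvd_of_pow_eq_one
      (Subtype.ext (by simp [pow_two, h.sq_eq_one c.2]))
    rw [orderOf_eq_card_of_forall_mem_zpowers hc] at h2
    have := Nat.le_of_dvd two_pos h2
    omega
  refine Cfsg.Agent.S1230.result S hnc (h.not_normal hq) fun v hv => ?_
  obtain ⟨c, hc⟩ := isConj_iff.mp (h.fuse v 1 (by rw [pow_one, ← hv]; exact pow_orderOf_eq_one v)
    (fun e => by rw [e, orderOf_one] at hv; norm_num at hv))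
  have hmem : ∀ x, x ∈ Subgroup.centralizer ({v} : Set G) → c * x * c⁻¹ ∈ SS := by
    intro x hx
    rw [← h.centralizer_t hgood hq hn, mem_centralizer_singleton_iff, ← hc]
    have e := mem_centralizer_singleton_iff.mp hx
    calc c * x * c⁻¹ * (c * v * c⁻¹) = c * (x * v) * c⁻¹ := by group
      _ = c * (v * x) * c⁻¹ := by rw [e]
      _ = c * v * c⁻¹ * (c * x * c⁻¹) := by group
  refine ⟨⟨⟨fun a b => Subtype.ext ?_⟩⟩, fun x hx => ?_⟩
  · have e := h.mul_comm_mem (hmem a a.2) (hmem b b.2)
    apply (MulAut.conj c).injective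
    simpa [MulAut.conj_apply, mul_assoc] using e
  · apply (MulAut.conj c).injective
    rw [map_pow, map_one, MulAut.conj_apply, pow_two, h.sq_eq_one (hmem x hx)]

end Setup

end CfsgLib.Block.ConstDiff
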