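import Cfsg.Agent.Lib.Block.ConstDiff.Count
import Cfsg.Agent.Lib.Block.PrincipalCoreInflation
import Cfsg.Agent.Lib.Char.DegreePSubTwo.Main
import Cfsg.Agent.S2300
import Cfsg.Agent.S2321
import Cfsg.Agent.S2323

/-!
# The two directions modulo the odd core
-/

set_option autoImplicit false
set_option linter.unusedSectionVars false
set_option linter.style.haveILetI false
set_option linter.unusedSimpArgs false

open Cfsg

namespace CfsgLib.Block.ConstDiff

universe u

variable {M : Ideal AlgInt} [M.IsMaximal] {Q : Type u} [Group Q] [Fintype Q] [DecidableEq Q]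

/-- With trivial odd core, the hypothesis forces order two or `PSL(2, 2ⁿ)`. -/
theorem forward {v : Q} {k : ℂ} (h : Hyp M v k) :
    Nat.card Q = 2 ∨ ∃ (F : Type) (_ : Field F) (_ : Fintype F) (n : ℕ), 2 ≤ n ∧
      Fintype.card F = 2 ^ n ∧ Nonempty (Q ≃* Matrix.ProjectiveSpecialLinearGroup (Fin 2) F) ∧
      v ^ 2 = 1 := by
  classical
  haveI : Fact (Nat.Prime 2) := ⟨Nat.prime_two⟩
  obtain ⟨t, y, S, hS⟩ := exists_setup h
  obtain ⟨n, hn⟩ := IsPGroup.iff_card.mp S.isPGroup'
  rcases (show n ≤ 1 ∨ 2 ≤ n by omega) with hn1 | hn2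
  · left
    have hcard : Nat.card (S : Subgroup Q) = 2 := by
      have h2 := hS.two_le
      rw [hn] at h2 ⊢
      interval_cases n <;> norm_num at *
    have hcomp := Fusion.hasNormalPComplement_of_normalizer_le_centralizer S fun g hg =>
      Subgroup.mem_centralizer_iff.mpr fun s hs => by
        by_cases hs1 : s = 1
        · rw [hs1, one_mul, mul_one]
        have hgs : g * s * g⁻¹ ∈ (S : Subgroup Q) := (Subgroup.mem_normalizer_iff.mp hg s).mp hs
        have hall : ∀ x ∈ (S : Subgroup Q), x = 1 ∨ x = s := by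
          intro x hx
          by_contra! hcon
          have h3 : 2 < Nat.card (S : Subgroup Q) := by
            rw [Nat.card_eq_fintype_card, Fintype.two_lt_card_iff]
            exact ⟨1, ⟨s, hs⟩, ⟨x, hx⟩, fun e => hs1 (congrArg Subtype.val e).symm,
              fun e => hcon.1 (congrArg Subtype.val e).symm,
              fun e => hcon.2 (congrArg Subtype.val e).symm⟩
          omega
        rcases hall _ hgs with e | e
        · exact absurd (conj_eq_one_iff.mp e) hs1
        · exact (mul_inv_eq_iff_eq_mul.mp e).symm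
    obtain ⟨P, N, hN, hNP⟩ := hcomp
    haveI := hN
    have hodd : ¬ 2 ∣ Nat.card N := by
      rw [← hNP.index_eq_card]
      exact P.not_dvd_index
    have hle : N ≤ Cfsg.oddCore Q := Coprime.le_pPrimeCore_of_not_dvd Nat.prime_two hodd
    rw [h.core, le_bot_iff] at hle
    have e := hNP.card_mul
    rw [hle, Subgroup.card_bot, one_mul, P.card_eq_multiplicity, ← S.card_eq_multiplicity, hcard] at e
    exact e.symm
  · right
    have hq : 4 ≤ Nat.card (S : Subgroup Q) := by
      rw [hn]
      calc 4 = 2 ^ 2 := rfl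
        _ ≤ 2 ^ n := Nat.pow_le_pow_right (by norm_num) hn2
    have hgood := hS.good hn fun e => hS.small (by rw [hn, e])
    obtain ⟨F, iF, iFF, hF, hiso⟩ := hS.psl_two hgood hq hn
    refine ⟨F, iF, iFF, n, hn2, by rw [hF, hn], hiso, ?_⟩
    rw [hS.u_eq hgood hq, pow_two]
    exact hS.sq_eq_one hS.mem

/-- In order two all nonprincipal characters coincide. -/
theorem eq_of_card_two (h2 : Nat.card Q = 2) {θ θ' : IrrCharacter Q} (h1 : θ ≠ oneChar Q)
    (h1' : θ' ≠ oneChar Q) : θ = θ' := by
  classical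
  by_contra hne
  haveI := Fintype.ofFinite (IrrCharacter Q)
  have h3 : 2 < Nat.card (IrrCharacter Q) := by
    rw [Nat.card_eq_fintype_card, Fintype.two_lt_card_iff]
    exact ⟨oneChar Q, θ, θ', Ne.symm h1, Ne.symm h1', hne⟩
  rw [Char.card_irr_eq_card_conjClasses] at h3
  have := Nat.card_le_card_of_surjective (ConjClasses.mk (α := Q))
    (fun c => Quotient.exists_rep c)
  omega

section SLTwo

variable {F : Type*} [Field F] [Fintype F] [CharP F 2]

omit [M.IsMaximal] in
/-- An involution is conjugate to the standard transvection. -/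
theorem isConj_transvection {w : Matrix.SpecialLinearGroup (Fin 2) F} (hw : w * w = 1) (hw1 : w ≠ 1)
    {U : Matrix.SpecialLinearGroup (Fin 2) F}
    (hU : (U : Matrix (Fin 2) (Fin 2) F) = !![1, 1; 0, 1]) : IsConj U w := by
  classical
  have h2 : (2 : F) = 0 := CharTwo.two_eq_zero
  set a := w.1 0 0 with ha
  set b := w.1 0 1 with hb
  set c := w.1 1 0 with hc
  set d := w.1 1 1 with hd
  have hdet : a * d - b * c = 1 := by
    have := w.2
    rwa [Matrix.det_fin_two] at this
  have hww : (w : Matrix (Fin 2) (Fin 2) F) * (w : Matrix (Fin 2) (Fin 2) F) = 1 :=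
    congrArg Subtype.val hw
  have e00 : a * a + b * c = 1 := by
    have := congrFun (congrFun hww 0) 0
    simpa [Matrix.mul_apply, Fin.sum_univ_two] using this
  have e01 : a * b + b * d = 0 := by
    have := congrFun (congrFun hww 0) 1
    simpa [Matrix.mul_apply, Fin.sum_univ_two] using this
  have e10 : c * a + d * c = 0 := by
    have := congrFun (congrFun hww 1) 0
    simpa [Matrix.mul_apply, Fin.sum_univ_two] using this
  have e11 : c * b + d * d = 1 := by
    have := congrFun (congrFun hww 1) 1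
    simpa [Matrix.mul_apply, Fin.sum_univ_two] using this
  -- a vector moved by `w`
  obtain ⟨x0, x1, y0, y1, hne, e0, e1, e2, e3⟩ : ∃ x0 x1 y0 y1 : F, x0 * y1 - y0 * x1 ≠ 0 ∧
      a * x0 + b * x1 = x0 ∧ c * x0 + d * x1 = x1 ∧
      a * y0 + b * y1 = x0 + y0 ∧ c * y0 + d * y1 = x1 + y1 := by
    have had : a + d = 0 := by
      by_contra hne
      have hb0 : b = 0 := (mul_eq_zero.mp (show (a + d) * b = 0 by linear_combination e01)).resolve_left hne
      have hc0 : c = 0 := (mul_eq_zero.mp (show (a + d) * c = 0 by linear_combination e10)).resolve_left hne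
      rw [hb0, zero_mul, add_zero] at e00
      rw [hb0, mul_zero, zero_add] at e11
      have h3 : (a - 1) * (a - 1) = 0 := by linear_combination e00 + (1 - a) * h2
      have h4 : (d - 1) * (d - 1) = 0 := by linear_combination e11 + (1 - d) * h2
      apply hne
      rw [sub_eq_zero.mp (mul_self_eq_zero.mp h3), sub_eq_zero.mp (mul_self_eq_zero.mp h4),
        one_add_one_eq_two, h2]
    by_cases hb0 : b = 0
    · have ha1 : a = 1 := by
        rw [hb0, zero_mul, add_zero] at e00
        exact sub_eq_zero.mp (mul_self_eq_zero.mp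
          (show (a - 1) * (a - 1) = 0 by linear_combination e00 + (1 - a) * h2))
      have hd1 : d = 1 := by linear_combination had - ha1 - h2
      have hc0 : c ≠ 0 := fun hc0 => hw1 (Subtype.ext (by
        ext i j
        fin_cases i <;> fin_cases j <;> simp [← ha, ← hb, ← hc, ← hd, hb0, hc0, ha1, hd1]))
      refine ⟨0, c, 1, 0, by simpa using hc0, by simp [hb0], by simp [hd1], by simp [hb0, ha1],
        by simp⟩
    · exact ⟨b, d - 1, 0, 1, by simpa using hb0,
        by linear_combination (b : F) * had - b * h2,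
        by linear_combination -hdet + d * had - d * h2,
        by ring, by ring⟩
  obtain ⟨r, hr⟩ := Finite.injective_iff_surjective.1 (frobenius_inj F 2) (x0 * y1 - y0 * x1)⁻¹
  rw [frobenius_def] at hr
  let P : Matrix.SpecialLinearGroup (Fin 2) F :=
    ⟨!![r * x0, r * y0; r * x1, r * y1], by
      rw [Matrix.det_fin_two_of,
        show r * x0 * (r * y1) - r * y0 * (r * x1) = r ^ 2 * (x0 * y1 - y0 * x1) by ring, hr,
        inv_mul_cancel₀ hne]⟩
  refine isConj_iff.mpr ⟨P, mul_inv_eq_iff_eq_mul.mpr (Subtype.ext ?_)⟩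
  show (!![r * x0, r * y0; r * x1, r * y1] : Matrix (Fin 2) (Fin 2) F) * U.1 =
    w.1 * !![r * x0, r * y0; r * x1, r * y1]
  rw [hU, Matrix.eta_fin_two w.1, ← ha, ← hb, ← hc, ← hd, Matrix.mul_fin_two, Matrix.mul_fin_two]
  ext i j
  fin_cases i <;> fin_cases j <;> simp
  · linear_combination (-r) * e0
  · linear_combination (-r) * e2
  · linear_combination (-r) * e1
  · linear_combination (-r) * e3

omit [M.IsMaximal] in
/-- In `SL(2, 2ⁿ)` the difference between degree and value at an involution is `q`. -/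
theorem sl_two_value (hq : 4 ≤ Fintype.card F) {w : Matrix.SpecialLinearGroup (Fin 2) F}
    (hw : w * w = 1) (hw1 : w ≠ 1) {χ : Matrix.SpecialLinearGroup (Fin 2) F → ℂ}
    (hχ : IsIrrCharacter (Matrix.SpecialLinearGroup (Fin 2) F) χ) (hne : χ ≠ fun _ => 1) :
    χ 1 - χ w = (Fintype.card F : ℂ) := by
  classical
  let U : Matrix.SpecialLinearGroup (Fin 2) F :=
    ⟨!![1, 1; 0, 1], by rw [Matrix.det_fin_two_of]; ring⟩
  obtain ⟨c, hc⟩ := isConj_iff.mp (isConj_transvection (U := U) hw hw1 rfl)
  rw [show χ w = χ U by rw [← hc]; exact Char.isClassFunction_irr ⟨χ, hχ⟩ U c]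
  have h23 := Cfsg.Agent.S2323.result hq χ hχ U rfl
  rcases (Cfsg.Agent.S2300.result (F := F)).1 χ hχ with e | e | e | e
  · exfalso
    have h1 := ((Cfsg.Agent.S2300.result (F := F)).2 hq).1
    obtain ⟨hsub, -⟩ := Nat.card_eq_one_iff_unique.mp h1
    have := @Subsingleton.elim _ hsub ⟨⟨χ, hχ⟩, e⟩ ⟨oneChar _, rfl⟩
    exact hne (congrArg Subtype.val (congrArg Subtype.val this))
  · rw [e, h23.2 e]; ring
  · rw [e, (Cfsg.Agent.S2321.result χ hχ e U).2.2 (by simp [U]) (by simp [U]) (by simp [U])]
    ring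
  · rw [e, h23.1 e]; ring

end SLTwo

omit [M.IsMaximal] in
/-- The value of every nonprincipal character of a group `PSL(2, 2ⁿ)` at an involution. -/
theorem psl_two_value {F : Type*} [Field F] [Fintype F] {n : ℕ} (hn : 2 ≤ n)
    (hcard : Fintype.card F = 2 ^ n)
    (e : Q ≃* Matrix.ProjectiveSpecialLinearGroup (Fin 2) F) {v : Q} (hv : v * v = 1) (hv1 : v ≠ 1)
    {θ : IrrCharacter Q} (hθ : (θ : Q → ℂ) ≠ fun _ => 1) :
    (θ : Q → ℂ) 1 - (θ : Q → ℂ) v = (Fintype.card F : ℂ) := by
  haveI : Fact (Nat.Prime 2) := ⟨Nat.prime_two⟩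
  haveI : CharP F 2 := charP_of_card_eq_prime_pow (p := 2) (f := n) (by rw [hcard])
  let ε : Matrix.SpecialLinearGroup (Fin 2) F ≃* Q :=
    ((QuotientGroup.quotientBot).symm.trans (QuotientGroup.quotientMulEquivOfEq
      (Char.DegreePSubTwo.sl2_center_eq_bot (K := F)).symm)).trans e.symm
  have hq : 4 ≤ Fintype.card F := by
    rw [hcard]
    calc 4 = 2 ^ 2 := rfl
      _ ≤ 2 ^ n := Nat.pow_le_pow_right (by norm_num) hn
  have := sl_two_value hq (w := ε.symm v) (by rw [← map_mul, hv, map_one])
    (fun h1 => hv1 (by simpa using congrArg ε h1))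
    (χ := fun x => (θ : Q → ℂ) (ε x))
    (Char.isIrrCharacter_comp_surjective θ.2 ε.toMonoidHom ε.surjective)
    (fun h1 => hθ (funext fun x => by simpa using congrFun h1 (ε.symm x)))
  simpa using this

end CfsgLib.Block.ConstDiff
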