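import Cfsg.Agent.Lib.Block.ConstDiff.Values
import Cfsg.Agent.Lib.Block.SubsectionCount

/-!
# The section of `t`
-/

set_option autoImplicit false
set_option linter.unusedSectionVars false
set_option linter.style.haveILetI false
set_option linter.unusedSimpArgs false

open Cfsg
open scoped ComplexConjugate

namespace CfsgLib.Block.ConstDiff

universe u

variable {M : Ideal AlgInt} [M.IsMaximal] {G : Type u} [Group G] [Fintype G] [DecidableEq G]
  {u t y : G} {S : Sylow 2 G}

local notation "SS" => ((S : Subgroup G))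

theorem mem_pb_iff {χ : IrrCharacter G} : χ ∈ pb M G ↔ χ = oneChar G ∨ χ ∈ pb' M G := by
  classical
  rw [mem_pb']
  constructor
  · intro h
    by_cases e : χ = oneChar G
    · exact Or.inl e
    · exact Or.inr ⟨e, mem_pb.mp h⟩
  · rintro (e | ⟨-, h⟩)
    · exact e ▸ mem_pb.mpr one_mem_principalBlock
    · exact mem_pb.mpr h

/-- The odd core of a subgroup, inside the group. -/
def coreIn (H : Subgroup G) : Subgroup G := (Cfsg.oddCore H).map H.subtype

theorem sum_section_eq (hM : IsPModular 2 M) {x : G} (hx : orderOf x = 2)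
    [Fintype (Subgroup.centralizer ({x} : Set G))] (y z : Subgroup.centralizer ({x} : Set G))
    (hy : ¬ 2 ∣ orderOf y) (hz : ¬ 2 ∣ orderOf z) :
    ∑ χ ∈ pb M G, (χ : G → ℂ) (x * (y : G)) * conj ((χ : G → ℂ) (x * (z : G))) =
      ∑ η ∈ pb M (Subgroup.centralizer ({x} : Set G)),
        (η : _ → ℂ) y * conj ((η : _ → ℂ) z) := by
  classical
  have := Fintype.ofFinite (IrrCharacter G)
  have := Fintype.ofFinite (IrrCharacter (Subgroup.centralizer ({x} : Set G)))
  rw [← finsum_pb, ← finsum_pb]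
  exact sum_principal_secFun hM ⟨1, by rw [hx, pow_one]⟩
    (fun g => Subgroup.mem_centralizer_singleton_iff) hy hz

/-- The core of the centralizer is in the kernel of its principal block. -/
theorem core_trivial {H : Subgroup G} [Fintype H] (hM : IsPModular 2 M) {η : IrrCharacter H}
    (hη : η ∈ principalBlock M H) {z : H} (hz : z ∈ Cfsg.oddCore H) :
    (η : H → ℂ) z = (η : H → ℂ) 1 := by
  classical
  exact trivial_of_sameBlock (N := Cfsg.oddCore H) hM
    (Coprime.pPrimeCore_not_dvd Nat.prime_two)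
    (χ := oneChar H) hη (fun _ _ => rfl) hz

theorem eq_of_sum_normSq {ι : Type*} (s : Finset ι) (f g : ι → ℂ) {c : ℂ}
    (h1 : ∑ i ∈ s, f i * conj (f i) = c) (h2 : ∑ i ∈ s, f i * conj (g i) = c)
    (h3 : ∑ i ∈ s, g i * conj (f i) = c) (h4 : ∑ i ∈ s, g i * conj (g i) = c) :
    ∀ i ∈ s, f i = g i := by
  have h0 : ∑ i ∈ s, (Complex.normSq (f i - g i) : ℂ) = 0 := by
    rw [Finset.sum_congr rfl fun i _ => show (Complex.normSq (f i - g i) : ℂ) =
      f i * conj (f i) - f i * conj (g i) - g i * conj (f i) + g i * conj (g i) by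
        rw [← Complex.mul_conj, map_sub]; ring,
      Finset.sum_add_distrib, Finset.sum_sub_distrib, Finset.sum_sub_distrib, h1, h2, h3, h4]
    ring
  intro i hi
  have h5 : ∑ i ∈ s, Complex.normSq (f i - g i) = 0 := by exact_mod_cast h0
  exact sub_eq_zero.mp (Complex.normSq_eq_zero.mp
    ((Finset.sum_eq_zero_iff_of_nonneg fun j _ => Complex.normSq_nonneg _).mp h5 i hi))

namespace Setup

variable (h : Setup M u t y S)
include h

theorem y_mem : y ∈ (Subgroup.centralizer ({t} : Set G)) := Subgroup.mem_centralizer_singleton_iff.mpr h.comm.symm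

/-- Multiplying `t` by an element of the core of its centralizer changes no value. -/
theorem apply_core {x : G} (hx : x ∈ coreIn (Subgroup.centralizer ({t} : Set G))) {χ : IrrCharacter G} (hχ : χ ∈ pb M G) :
    (χ : G → ℂ) (t * x) = (χ : G → ℂ) t := by
  classical
  haveI := Fintype.ofFinite (Subgroup.centralizer ({t} : Set G))
  obtain ⟨z, hz, rfl⟩ := hx
  have hz2 : ¬ 2 ∣ orderOf z := fun h2 => Coprime.pPrimeCore_not_dvd (G := (Subgroup.centralizer ({t} : Set G))) Nat.prime_two
    (h2.trans (by rw [← Subgroup.orderOf_mk z hz]; exact orderOf_dvd_natCard _))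
  have h1 : ¬ 2 ∣ orderOf (1 : (Subgroup.centralizer ({t} : Set G))) := by simp
  have hsec : ∀ a b : (Subgroup.centralizer ({t} : Set G)), a ∈ Cfsg.oddCore (Subgroup.centralizer ({t} : Set G)) → b ∈ Cfsg.oddCore (Subgroup.centralizer ({t} : Set G)) →
      ¬ 2 ∣ orderOf a → ¬ 2 ∣ orderOf b →
      ∑ χ ∈ pb M G, (χ : G → ℂ) (t * (a : G)) * conj ((χ : G → ℂ) (t * (b : G))) =
        ∑ η ∈ pb M (Subgroup.centralizer ({t} : Set G)), (η : (Subgroup.centralizer ({t} : Set G)) → ℂ) 1 * conj ((η : (Subgroup.centralizer ({t} : Set G)) → ℂ) 1) := fun a b ha hb ha' hb' => by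
    rw [sum_section_eq h.modular h.invol a b ha' hb']
    exact Finset.sum_congr rfl fun η hη => by
      rw [core_trivial h.modular (mem_pb.mp hη) ha, core_trivial h.modular (mem_pb.mp hη) hb]
  have := eq_of_sum_normSq (pb M G) (fun χ => (χ : G → ℂ) (t * (z : G)))
    (fun χ => (χ : G → ℂ) (t * ((1 : (Subgroup.centralizer ({t} : Set G))) : G))) (hsec z z hz hz hz2 hz2)
    (hsec z 1 hz (one_mem _) hz2 h1) (hsec 1 z (one_mem _) hz h1 hz2)
    (hsec 1 1 (one_mem _) (one_mem _) h1 h1) χ hχ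
  simpa using this

/-- The odd part of `u` lies in the core of the centralizer of `t`. -/
theorem y_mem_core (hq : 4 ≤ Nat.card SS) : y ∈ coreIn (Subgroup.centralizer ({t} : Set G)) := by
  classical
  haveI := Fintype.ofFinite (Subgroup.centralizer ({t} : Set G))
  set y' : (Subgroup.centralizer ({t} : Set G)) := ⟨y, h.y_mem⟩
  have hy : ¬ 2 ∣ orderOf y' := by rw [← Subgroup.orderOf_coe]; exact h.regular
  have h1 : ¬ 2 ∣ orderOf (1 : (Subgroup.centralizer ({t} : Set G))) := by simp
  have hval : ∀ χ ∈ pb M G, (χ : G → ℂ) (t * (y' : G)) = (χ : G → ℂ) (t * ((1 : (Subgroup.centralizer ({t} : Set G))) : G)) := by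
    intro χ hχ
    rw [Subgroup.coe_one, mul_one, show t * (y' : G) = u from h.split.symm]
    rcases mem_pb_iff.mp hχ with e | e
    · rw [e]; rfl
    · exact h.apply_u hq e
  have hsec : ∀ a b : (Subgroup.centralizer ({t} : Set G)), ¬ 2 ∣ orderOf a → ¬ 2 ∣ orderOf b → (a = y' ∨ a = 1) → (b = y' ∨ b = 1) →
      ∑ η ∈ pb M (Subgroup.centralizer ({t} : Set G)), (η : (Subgroup.centralizer ({t} : Set G)) → ℂ) a * conj ((η : (Subgroup.centralizer ({t} : Set G)) → ℂ) b) =
        ∑ χ ∈ pb M G, (χ : G → ℂ) t * conj ((χ : G → ℂ) t) := by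
    intro a b ha hb ha' hb'
    rw [← sum_section_eq h.modular h.invol a b ha hb]
    refine Finset.sum_congr rfl fun χ hχ => ?_
    have e : ∀ c : (Subgroup.centralizer ({t} : Set G)), c = y' ∨ c = 1 → (χ : G → ℂ) (t * (c : G)) = (χ : G → ℂ) t := by
      rintro c (rfl | rfl)
      · rw [hval χ hχ, Subgroup.coe_one, mul_one]
      · rw [Subgroup.coe_one, mul_one]
    rw [e a ha', e b hb']
  have hη := eq_of_sum_normSq (pb M (Subgroup.centralizer ({t} : Set G))) (fun η => (η : (Subgroup.centralizer ({t} : Set G)) → ℂ) y') (fun η => (η : (Subgroup.centralizer ({t} : Set G)) → ℂ) 1)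
    (hsec y' y' hy hy (.inl rfl) (.inl rfl)) (hsec y' 1 hy h1 (.inl rfl) (.inr rfl))
    (hsec 1 y' h1 hy (.inr rfl) (.inl rfl)) (hsec 1 1 h1 h1 (.inr rfl) (.inr rfl))
  obtain ⟨K, hK, hKset, hKodd, -, -⟩ := exists_blockKer h.modular
    (isPBlock_principalBlock (M := M) (G := (Subgroup.centralizer ({t} : Set G)))) one_mem_principalBlock
  have h2 : y' ∈ (K : Set (Subgroup.centralizer ({t} : Set G))) := by
    rw [hKset]
    exact fun η hη' => hη η (mem_pb.mpr hη')
  haveI := hK
  exact ⟨y', Coprime.le_pPrimeCore_of_not_dvd Nat.prime_two hKodd h2, rfl⟩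

theorem card_principal_sum (hq : 4 ≤ Nat.card SS) [Fintype (Subgroup.centralizer ({t} : Set G))] :
    ∑ η ∈ pb M (Subgroup.centralizer ({t} : Set G)), (η : (Subgroup.centralizer ({t} : Set G)) → ℂ) 1 * conj ((η : (Subgroup.centralizer ({t} : Set G)) → ℂ) 1) =
      ((-((Nat.card SS : ℤ) * ∑ χ ∈ pb' M G, jv S χ) : ℤ) : ℂ) := by
  rw [← sum_section_eq h.modular h.invol (1 : (Subgroup.centralizer ({t} : Set G))) 1 (by simp) (by simp), Subgroup.coe_one, mul_one,
    h.sum_sq_t hq]

end Setup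

end CfsgLib.Block.ConstDiff
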