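import Cfsg.Agent.Lib.Block.ConstDiff.Automizer
import Cfsg.Agent.Lib.Block.ConstDiff.Sections
import Cfsg.Agent.Lib.Block.ConstDiff.Arith
import Cfsg.Agent.Lib.SolvSignalizer.Main
import Cfsg.Agent.Lib.Invol.Signalizer

/-!
# Centralizers of subgroups of `S` have `S` normal modulo their cores

Downward induction on `A ≤ S`: either the normalizer of `S` in `C(A)` centralises `S`, or the
signalizer functor `b ↦ O(C(A, b))` on a complement has a completion of odd order, and the
normaliser of it is everything because there are two classes modulo `A`.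
-/

set_option autoImplicit false
set_option linter.unusedSectionVars false
set_option linter.style.haveILetI false
set_option linter.unusedSimpArgs false

open Cfsg
open Subgroup (mem_centralizer_singleton_iff mem_centralizer_iff mem_normalizer_iff)

namespace CfsgLib.Block.ConstDiff

universe u

section Core

variable {G : Type u} [Group G] [Finite G]

theorem coreIn_le (H : Subgroup G) : coreIn H ≤ H := Subgroup.map_subtype_le _

theorem odd_coreIn (H : Subgroup G) : ¬ 2 ∣ Nat.card (coreIn H) := by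
  rw [coreIn, Subgroup.card_map_of_injective H.subtype_injective]
  exact Coprime.pPrimeCore_not_dvd Nat.prime_two

theorem le_coreIn {H X : Subgroup G} (hXH : X ≤ H) (hn : H ≤ Subgroup.normalizer (X : Set G))
    (hodd : ¬ 2 ∣ Nat.card X) : X ≤ coreIn H := by
  haveI : (X.subgroupOf H).Normal := (Subgroup.normal_subgroupOf_iff_le_normalizer hXH).mpr hn
  have h1 : X.subgroupOf H ≤ Cfsg.oddCore H := Coprime.le_pPrimeCore_of_not_dvd Nat.prime_two (by
    rwa [Nat.card_congr (Subgroup.subgroupOfEquivOfLe hXH).toEquiv])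
  exact fun x hx => ⟨⟨x, hXH hx⟩, h1 hx, rfl⟩

theorem conj_mem_coreIn {H H' : Subgroup G} {g : G} (hg : ∀ x, x ∈ H ↔ g * x * g⁻¹ ∈ H')
    {x : G} (hx : x ∈ coreIn H) : g * x * g⁻¹ ∈ coreIn H' := by
  set X := (coreIn H).map (MulAut.conj g).toMonoidHom with hX
  have h1 : X ≤ coreIn H' := by
    refine le_coreIn ?_ ?_ ?_
    · rintro _ ⟨z, hz, rfl⟩
      exact (hg z).mp (coreIn_le H hz)
    · intro m hm
      refine (Invol.le_normalizer_of_forall_conj (A := H') (U := X) ?_) hm
      rintro c hc _ ⟨z, hz, rfl⟩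
      obtain ⟨⟨w, hw⟩, hwc, rfl⟩ := hz
      have hc' : g⁻¹ * c * g ∈ H := (hg _).mpr (by simpa [mul_assoc] using hc)
      refine ⟨(g⁻¹ * c * g) * w * (g⁻¹ * c * g)⁻¹, ⟨⟨g⁻¹ * c * g, hc'⟩ * ⟨w, hw⟩ * ⟨g⁻¹ * c * g, hc'⟩⁻¹,
        Subgroup.Normal.conj_mem inferInstance _ hwc _, rfl⟩, ?_⟩
      simp [MulAut.conj_apply, mul_assoc]
    · rw [hX, Subgroup.card_map_of_injective (MulAut.conj g).injective]
      exact odd_coreIn H
  exact h1 ⟨x, hx, rfl⟩

theorem le_normalizer_coreIn (H : Subgroup G) : H ≤ Subgroup.normalizer (coreIn H : Set G) :=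
  Invol.le_normalizer_of_forall_conj fun c hc _ hx => conj_mem_coreIn (H := H) (H' := H)
    (fun x => ⟨fun hxm => mul_mem (mul_mem hc hxm) (inv_mem hc), fun hxm => by
      simpa [mul_assoc] using mul_mem (mul_mem (inv_mem hc) hxm) hc⟩) hx

end Core

variable {G : Type u} [Group G] [Fintype G] [DecidableEq G] {M : Ideal AlgInt} [M.IsMaximal]
  {u t y : G} {S : Sylow 2 G}

local notation "SS" => ((S : Subgroup G))
local notation "NS" => Subgroup.normalizer (((S : Subgroup G)) : Set G)

/-- `S` is normal modulo the core in the centralizer of `A`. -/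
def Good (S : Sylow 2 G) (A : Subgroup G) : Prop :=
  ∀ x ∈ Subgroup.centralizer (A : Set G),
    ∃ o ∈ coreIn (Subgroup.centralizer (A : Set G)),
      ∃ m ∈ Subgroup.centralizer (A : Set G) ⊓ Subgroup.normalizer ((S : Subgroup G) : Set G),
        x = o * m

/-- An element of odd order whose square lies in `X` lies in `X`. -/
theorem mem_of_sq_mem {X : Subgroup G} {x : G} (hodd : ¬ 2 ∣ orderOf x) (h : x * x ∈ X) : x ∈ X := by
  obtain ⟨m, hm⟩ := Nat.odd_iff.mpr (Nat.two_dvd_ne_zero.mp hodd)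
  have := pow_mem h (m + 1)
  rwa [← pow_two, ← pow_mul, show 2 * (m + 1) = (2 * m + 1) + 1 by ring, pow_succ, ← hm,
    pow_orderOf_eq_one, one_mul] at this

theorem odd_orderOf_of_mem {X : Subgroup G} (hX : ¬ 2 ∣ Nat.card X) {x : G} (hx : x ∈ X) :
    ¬ 2 ∣ orderOf x := fun h2 => hX (h2.trans (by
  rw [← Subgroup.orderOf_mk x hx]; exact orderOf_dvd_natCard _))

namespace Setup

variable (h : Setup M u t y S)
include h

theorem S_le_centralizer {A : Subgroup G} (hA : A ≤ SS) : SS ≤ Subgroup.centralizer (A : Set G) :=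
  fun _ hs => mem_centralizer_iff.mpr fun _ ha => h.mul_comm_mem (hA ha) hs

/-- A square has odd order. -/
theorem odd_orderOf_sq (m : G) : ¬ 2 ∣ orderOf (m * m) := by
  intro h2
  have h4 : 4 ∣ orderOf m := by
    have h2' : 2 ∣ orderOf m := h2.trans (by rw [← pow_two]; exact orderOf_pow_dvd 2)
    rw [← pow_two, orderOf_pow' m two_ne_zero, Nat.gcd_eq_right h2'] at h2
    obtain ⟨c, hc⟩ := h2'
    rw [hc, Nat.mul_div_cancel_left _ two_pos] at h2
    rw [hc]; omega
  have hw : orderOf (m ^ (orderOf m / 4)) = 4 := orderOf_pow_orderOf_div (orderOf_pos m).ne' h4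
  obtain ⟨c, hc⟩ := isConj_iff.mp (h.fuse (m ^ (orderOf m / 4)) 2
    (by
      have := pow_orderOf_eq_one (m ^ (orderOf m / 4))
      rwa [hw] at this)
    (fun e => by rw [e, orderOf_one] at hw; norm_num at hw))
  have h5 : orderOf (c * m ^ (orderOf m / 4) * c⁻¹) = 4 := (orderOf_injective
    (MulAut.conj c).toMonoidHom (MulAut.conj c).injective _).trans hw
  rw [hc, h.invol] at h5
  norm_num at h5

/-- An invariant subgroup of odd order of a good centralizer lies in its core. -/
theorem odd_invariant_le {A : Subgroup G} (hA : A ≤ SS) (hgood : Good S A) {X : Subgroup G}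
    (hX : X ≤ Subgroup.centralizer (A : Set G)) (hodd : ¬ 2 ∣ Nat.card X)
    (hS : SS ≤ Subgroup.normalizer (X : Set G)) :
    X ≤ coreIn (Subgroup.centralizer (A : Set G)) := by
  classical
  set H := Subgroup.centralizer (A : Set G) with hH
  set O := coreIn H with hO
  have hSH : SS ≤ H := h.S_le_centralizer hA
  have hOn : H ≤ Subgroup.normalizer (O : Set G) := le_normalizer_coreIn H
  obtain ⟨D, hD, hDn⟩ := h.exists_complement
  have hDH : D ≤ H := fun d hd => mem_centralizer_iff.mpr fun a ha =>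
    ((mem_fixedRegular.mp ((hD d).mp hd)).2 a (hA ha)).eq
  have hDodd : ¬ 2 ∣ Nat.card D := fun h2 => by
    haveI : Fact (Nat.Prime 2) := ⟨Nat.prime_two⟩
    obtain ⟨d, hd⟩ := exists_prime_orderOf_dvd_card' (G := D) 2 h2
    rw [← Subgroup.orderOf_coe] at hd
    exact (mem_fixedRegular.mp ((hD _).mp d.2)).1 (dvd_of_eq hd.symm)
  -- the centralizer of `S` in odd order lies in the core
  have hDO : D ≤ O := by
    refine le_trans le_sup_right (le_coreIn (H := H) (X := O ⊔ D) (sup_le (coreIn_le H) hDH) ?_ ?_)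
    · intro x hx
      obtain ⟨o, ho, m, hm, rfl⟩ := hgood x hx
      refine mul_mem (Subgroup.le_normalizer (Subgroup.mem_sup_left ho)) ?_
      refine (Invol.le_normalizer_of_forall_conj (A := H ⊓ NS) (U := O ⊔ D) ?_) hm
      intro c hc z hz
      have hle : O ⊔ D ≤ (O ⊔ D).comap (MulAut.conj c).toMonoidHom := sup_le
        (fun w hw => Subgroup.mem_comap.mpr
          (Subgroup.mem_sup_left ((mem_normalizer_iff.mp (hOn hc.1) w).mp hw)))
        (fun w hw => Subgroup.mem_comap.mpr (Subgroup.mem_sup_right (hDn c hc.2 w hw)))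
      exact hle hz
    · intro h2
      rw [sup_comm] at h2
      have := h2.trans (Coprime.card_sup_dvd_of_le_normalizer (hDH.trans hOn))
      exact ((Nat.Prime.dvd_mul Nat.prime_two).mp this).elim hDodd (odd_coreIn H)
  intro x hx
  obtain ⟨o, ho, m, ⟨hmH, hmN⟩, e⟩ := hgood x (hX hx)
  have hmS : ∀ s ∈ SS, Commute m s := by
    intro s hs
    have hs' : m * s * m⁻¹ ∈ SS := (mem_normalizer_iff.mp hmN s).mp hs
    have hσS : m * s * m⁻¹ * s⁻¹ ∈ SS := mul_mem hs' (inv_mem hs)
    have hcX : x * s * x⁻¹ * s⁻¹ ∈ X := by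
      rw [show x * s * x⁻¹ * s⁻¹ = x * (s * x⁻¹ * s⁻¹) by group]
      exact mul_mem hx ((mem_normalizer_iff.mp (hS hs) _).mp (inv_mem hx))
    obtain ⟨σ, hσ⟩ : ∃ σ, σ = m * s * m⁻¹ * s⁻¹ := ⟨_, rfl⟩
    have hσO : σ ∈ O := by
      rw [← hσ] at hσS
      set o' := o * ((m * s * m⁻¹) * o⁻¹ * (m * s * m⁻¹)⁻¹) with ho'
      have ho'O : o' ∈ O := mul_mem ho ((mem_normalizer_iff.mp (hOn (hSH hs')) _).mp (inv_mem ho))
      have hc : x * s * x⁻¹ * s⁻¹ = o' * σ := by rw [e, hσ, ho']; group
      rw [hc] at hcX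
      have h1 : o' * σ ∈ O := by
        refine mem_of_sq_mem (odd_orderOf_of_mem hodd hcX) ?_
        have h2 : (o' * σ) * (o' * σ) = o' * (σ * o' * σ⁻¹) * (σ * σ) := by group
        rw [h2, h.sq_eq_one hσS, mul_one]
        exact mul_mem ho'O ((mem_normalizer_iff.mp (hOn (hSH hσS)) _).mp ho'O)
      exact (Subgroup.mul_mem_cancel_left _ ho'O).mp h1
    have hσ1 : σ = 1 := by
      by_contra hne
      refine odd_orderOf_of_mem (odd_coreIn H) hσO ?_
      rw [h.orderOf_mem (hσ ▸ hσS) hne]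
    rw [hσ] at hσ1
    exact mul_inv_eq_iff_eq_mul.mp (mul_inv_eq_one.mp hσ1)
  -- so `x² ∈ O`
  refine mem_of_sq_mem (odd_orderOf_of_mem hodd hx) ?_
  have hm2 : m * m ∈ O := by
    refine hDO ((hD _).mpr (mem_fixedRegular.mpr ⟨h.odd_orderOf_sq m, fun s hs =>
      ((hmS s hs).mul_left (hmS s hs)).symm⟩))
  rw [e, show o * m * (o * m) = o * (m * o * m⁻¹) * (m * m) by group]
  exact mul_mem (mul_mem ho ((mem_normalizer_iff.mp (hOn hmH) o).mp ho)) hm2

end Setup

end CfsgLib.Block.ConstDiff
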