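import Cfsg.Agent.Lib.Block.ConstDiff.Good

/-!
# The induction step
-/

set_option autoImplicit false
set_option linter.unusedSectionVars false
set_option linter.style.haveILetI false
set_option linter.unusedSimpArgs false

open Cfsg
open Subgroup (mem_centralizer_singleton_iff mem_centralizer_iff mem_normalizer_iff)

namespace CfsgLib.Block.ConstDiff

universe u

variable {G : Type u} [Group G] [Fintype G] [DecidableEq G] {M : Ideal AlgInt} [M.IsMaximal]
  {u t y : G} {S : Sylow 2 G}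

local notation "SS" => ((S : Subgroup G))
local notation "NS" => Subgroup.normalizer (((S : Subgroup G)) : Set G)

theorem mem_centralizer_sup_zpowers {A : Subgroup G} {b x : G} :
    x ∈ Subgroup.centralizer ((A ⊔ Subgroup.zpowers b : Subgroup G) : Set G) ↔
      x ∈ Subgroup.centralizer (A : Set G) ∧ Commute x b := by
  constructor
  · intro hx
    refine ⟨mem_centralizer_iff.mpr fun a ha => mem_centralizer_iff.mp hx a (Subgroup.mem_sup_left ha),
      (mem_centralizer_iff.mp hx b (Subgroup.mem_sup_right (Subgroup.mem_zpowers b))).symm⟩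
  · rintro ⟨hxA, hxb⟩
    have hle : A ⊔ Subgroup.zpowers b ≤ Subgroup.centralizer ({x} : Set G) := sup_le
      (fun a ha => mem_centralizer_singleton_iff.mpr (mem_centralizer_iff.mp hxA a ha))
      (Subgroup.zpowers_le.mpr (mem_centralizer_singleton_iff.mpr hxb.symm))
    exact mem_centralizer_iff.mpr fun a ha => mem_centralizer_singleton_iff.mp (hle ha)

namespace Setup

variable (h : Setup M u t y S)
include h

/-- A Sylow 2-subgroup of the centralizer of `A ≤ S` is abelian, so fusion is controlled by the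
normalizer. -/
theorem fusion_centralizer {A : Subgroup G} (hA : A ≤ SS) {g b c : G}
    (hg : g ∈ Subgroup.centralizer (A : Set G)) (hb : b ∈ SS) (hc : c ∈ SS)
    (e : g * b * g⁻¹ = c) :
    ∃ n ∈ Subgroup.centralizer (A : Set G), n ∈ NS ∧ n * b * n⁻¹ = c := by
  haveI : Fact (Nat.Prime 2) := ⟨Nat.prime_two⟩
  set H := Subgroup.centralizer (A : Set G) with hH
  have hSH : SS ≤ H := h.S_le_centralizer hA
  have hcoe : ((S.subtype hSH : Sylow 2 H) : Subgroup H) = (SS).subgroupOf H := rfl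
  have hcen : ∀ x : H, (x : G) ∈ SS →
      ((S.subtype hSH : Sylow 2 H) : Subgroup H) ≤ Subgroup.centralizer {x} := fun x hx z hz =>
    mem_centralizer_singleton_iff.mpr (Subtype.ext (h.mul_comm_mem
      (Subgroup.mem_subgroupOf.mp (hcoe ▸ hz)) hx))
  obtain ⟨n, hn, en⟩ := Fusion.exists_normalizer_conj_eq_of_central (S.subtype hSH)
    (x := (⟨b, hSH hb⟩ : H)) (hcen _ hb) ⟨g, hg⟩ (hcen _ (by
      show g * b * g⁻¹ ∈ SS
      rw [e]; exact hc))
  refine ⟨n, n.2, mem_normalizer_iff.mpr fun x => ?_, ?_⟩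
  · rw [hcoe] at hn
    constructor
    · intro hx
      exact Subgroup.mem_subgroupOf.mp
        ((mem_normalizer_iff.mp hn ⟨x, hSH hx⟩).mp (Subgroup.mem_subgroupOf.mpr hx))
    · intro hx
      have hxH : x ∈ H := by
        have := mul_mem (mul_mem (inv_mem n.2) (hSH hx)) n.2
        simpa [mul_assoc] using this
      exact Subgroup.mem_subgroupOf.mp ((mem_normalizer_iff.mp hn ⟨x, hxH⟩).mpr
        (Subgroup.mem_subgroupOf.mpr hx))
  · exact (congrArg Subtype.val en).trans e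

/-- The generation lemma. -/
theorem generation {A : Subgroup G} (hA : A ≤ SS) {N : Subgroup G}
    (hN : Subgroup.centralizer (A : Set G) ⊓ NS ≤ N)
    (hC : ∀ s ∈ SS, s ∉ A → ∀ x ∈ Subgroup.centralizer (A : Set G), Commute x s → x ∈ N)
    {a b : G} (ha : a ∈ SS) (hb : b ∈ SS) (haA : a ∉ A) (hbA : b ∉ A)
    (hab : ∀ g ∈ Subgroup.centralizer (A : Set G), g * b * g⁻¹ * a ∉ A) :
    Subgroup.centralizer (A : Set G) ≤ N := by
  haveI : Fact (Nat.Prime 2) := ⟨Nat.prime_two⟩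
  set H := Subgroup.centralizer (A : Set G) with hH
  have hSH : SS ≤ H := h.S_le_centralizer hA
  have hSN : SS ≤ N := fun s hs => hN ⟨hSH hs, Subgroup.le_normalizer hs⟩
  have hcen : ∀ α ∈ A, ∀ x ∈ H, Commute α x := fun α hα x hx => mem_centralizer_iff.mp hx α hα
  -- involutions of `N ⊓ H` are conjugate into `S` inside
  have hsyl : ∀ z ∈ N ⊓ H, z * z = 1 → ∃ c ∈ N ⊓ H, c * z * c⁻¹ ∈ SS := by
    intro z hz hz2
    have hp : IsPGroup 2 (Subgroup.zpowers z) := fun x => ⟨1, by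
      obtain ⟨x, i, rfl⟩ := x
      refine Subtype.ext ?_
      show (z ^ i) ^ (2 ^ 1) = 1
      rw [pow_one, pow_two, ← zpow_add, show i + i = 2 * i by ring, zpow_mul, show (2 : ℤ) = ((2 : ℕ) : ℤ) from rfl,
        zpow_natCast, pow_two, hz2, one_zpow]⟩
    obtain ⟨c, hc, hle⟩ := Fusion.exists_conj_le_of_not_dvd_relIndex S.isPGroup'
      (le_inf hSN hSH) (fun h2 => S.not_dvd_index (h2.trans
        (Subgroup.relIndex_dvd_index_of_le (le_inf hSN hSH)))) hp (Subgroup.zpowers_le.mpr hz)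
    exact ⟨c, hc, Fusion.conjBy_le_iff.mp hle z (Subgroup.mem_zpowers z)⟩
  have hsq : ∀ s ∈ SS, s * s = 1 := fun s hs => h.sq_eq_one hs
  intro g hg
  set b' := g * b * g⁻¹ with hb'
  have hb'H : b' ∈ H := mul_mem (mul_mem hg (hSH hb)) (inv_mem hg)
  have hb'2 : b' * b' = 1 := by
    rw [hb', show g * b * g⁻¹ * (g * b * g⁻¹) = g * (b * b) * g⁻¹ by group, hsq b hb]; group
  have ha2 := hsq a ha
  set d := a * b' with hd
  have hdH : d ∈ H := mul_mem (hSH ha) hb'H
  have had : a * d * a⁻¹ = d⁻¹ := by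
    rw [inv_eq_of_mul_eq_one_right ha2, hd, mul_inv_rev, inv_eq_of_mul_eq_one_right hb'2,
      inv_eq_of_mul_eq_one_right ha2, ← mul_assoc a a b', ha2, one_mul]
  have hbd : b' * d * b'⁻¹ = d⁻¹ := by
    rw [inv_eq_of_mul_eq_one_right hb'2, hd, mul_inv_rev, inv_eq_of_mul_eq_one_right hb'2,
      inv_eq_of_mul_eq_one_right ha2, mul_assoc b' (a * b') b', mul_assoc a b' b', hb'2, mul_one]
  obtain ⟨i, m, hm2, hm⟩ := Nat.exists_eq_pow_mul_and_not_dvd (orderOf_pos d).ne' 2 (by norm_num)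
  set z := d ^ m with hz
  have hz2 : z * z = 1 := by
    by_cases hz1 : z = 1
    · rw [hz1, one_mul]
    obtain ⟨c, hc⟩ := isConj_iff.mp (h.fuse z i (by
      rw [hz, ← pow_mul, mul_comm, ← hm, pow_orderOf_eq_one]) hz1)
    have ht : t * t = 1 := h.sq_eq_one h.mem
    rw [← hc] at ht
    rw [show c * z * c⁻¹ * (c * z * c⁻¹) = c * (z * z) * c⁻¹ by group] at ht
    exact conj_eq_one_iff.mp ht
  have hzH : z ∈ H := pow_mem hdH m
  have haz : Commute z a := by
    have h1 : a * z * a⁻¹ = z := by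
      rw [hz, ← conj_pow, had, inv_pow, ← hz, inv_eq_of_mul_eq_one_right hz2]
    exact (mul_inv_eq_iff_eq_mul.mp h1).symm
  have hbz : Commute z b' := by
    have h1 : b' * z * b'⁻¹ = z := by
      rw [hz, ← conj_pow, hbd, inv_pow, ← hz, inv_eq_of_mul_eq_one_right hz2]
    exact (mul_inv_eq_iff_eq_mul.mp h1).symm
  by_cases hzA : z ∈ A
  · exfalso
    obtain ⟨l, hl⟩ := Nat.odd_iff.mpr (Nat.two_dvd_ne_zero.mp hm2)
    set e := d ^ l with he
    have heH : e ∈ H := pow_mem hdH l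
    have hae : a * e⁻¹ * a⁻¹ = e := by
      have h1 : a * e * a⁻¹ = e⁻¹ := by rw [he, ← conj_pow, had, inv_pow]
      have h2 := congrArg (·⁻¹) h1
      simpa [mul_assoc] using h2
    have hconj : e * a * e⁻¹ = z * b' := by
      have h1 : a * e⁻¹ = e * a := mul_inv_eq_iff_eq_mul.mp hae
      rw [mul_assoc, h1, ← mul_assoc, he, ← pow_add, hz, hl, show 2 * l + 1 = (l + l) + 1 by ring,
        pow_succ, mul_assoc (d ^ (l + l)) d b', hd, mul_assoc a b' b', hb'2, mul_one]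
    refine hab (e⁻¹ * g) (mul_mem (inv_mem heH) hg) ?_
    have h2 : (e⁻¹ * g) * b * (e⁻¹ * g)⁻¹ = e⁻¹ * b' * e := by rw [hb']; group
    have h3 : b' = z⁻¹ * (e * a * e⁻¹) := by rw [hconj]; group
    rw [h2, h3, inv_eq_of_mul_eq_one_right hz2,
      show e⁻¹ * (z * (e * a * e⁻¹)) * e * a = (e⁻¹ * z * e) * (a * a) by group, ha2, mul_one,
      mul_assoc, (hcen z hzA e heH).eq, inv_mul_cancel_left]
    exact hzA
  · have hzN : z ∈ N := hC a ha haA z hzH haz
    obtain ⟨c, hc, hzS⟩ := hsyl z ⟨hzN, hzH⟩ hz2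
    have hz0A : c * z * c⁻¹ ∉ A := by
      intro hA0
      refine hzA ?_
      have h1 := hcen _ hA0 c hc.2
      have h2 : c * z * c⁻¹ = z := by
        have h3 : c⁻¹ * (c * z * c⁻¹) * c = c * z * c⁻¹ := by
          rw [mul_assoc, h1.eq, inv_mul_cancel_left]
        rw [← h3]; group
      rwa [h2] at hA0
    have hb'N : b' ∈ N := by
      have h1 : c * b' * c⁻¹ ∈ N := hC _ hzS hz0A _
        (mul_mem (mul_mem hc.2 hb'H) (inv_mem hc.2)) (by
          show c * b' * c⁻¹ * (c * z * c⁻¹) = c * z * c⁻¹ * (c * b' * c⁻¹)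
          rw [show c * b' * c⁻¹ * (c * z * c⁻¹) = c * (b' * z) * c⁻¹ by group, ← hbz.eq]
          group)
      have h2 := mul_mem (mul_mem (Subgroup.inv_mem _ hc.1) h1) hc.1
      simpa [mul_assoc] using h2
    obtain ⟨c', hc', hbS⟩ := hsyl b' ⟨hb'N, hb'H⟩ hb'2
    obtain ⟨n, hnH, hnN, en⟩ := h.fusion_centralizer hA (g := c' * g) (b := b)
      (c := c' * b' * c'⁻¹) (mul_mem hc'.2 hg) hb hbS (by rw [hb']; group)
    have hk : n⁻¹ * (c' * g) ∈ N := by
      refine hC b hb hbA _ (mul_mem (inv_mem hnH) (mul_mem hc'.2 hg)) ?_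
      show n⁻¹ * (c' * g) * b = b * (n⁻¹ * (c' * g))
      have e1 : c' * b' * c'⁻¹ * (c' * g) = (c' * g) * b := by rw [hb']; group
      calc n⁻¹ * (c' * g) * b = n⁻¹ * ((c' * g) * b) := mul_assoc _ _ _
        _ = n⁻¹ * (n * b * n⁻¹ * (c' * g)) := by rw [← e1, en]
        _ = b * (n⁻¹ * (c' * g)) := by group
    have := mul_mem (Subgroup.inv_mem _ hc'.1) (mul_mem (hN ⟨hnH, hnN⟩) hk)
    simpa [mul_assoc] using this

/-- The cosets of `A` in `S`. -/
theorem exists_complementA {A : Subgroup G} (hA : A ≤ SS) :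
    ∃ B : Subgroup G, B ≤ SS ∧ Nat.card B * Nat.card A = Nat.card SS ∧
      (∀ b ∈ B, b ∈ A → b = 1) ∧ ∀ s ∈ SS, ∃ b ∈ B, ∃ α ∈ A, s = b * α := by
  classical
  obtain ⟨B, hB, hmax⟩ := Set.Finite.exists_maximal
    (s := {B : Subgroup G | B ≤ SS ∧ ∀ b ∈ B, b ∈ A → b = 1}) (Set.toFinite _)
    ⟨⊥, bot_le, fun b hb _ => Subgroup.mem_bot.mp hb⟩
  have hspan : ∀ s ∈ SS, ∃ b ∈ B, ∃ α ∈ A, s = b * α := by
    intro s hs
    by_contra! hc
    have hle : B ≤ B ⊔ Subgroup.zpowers s := le_sup_left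
    have hmem : ∀ x ∈ B ⊔ Subgroup.zpowers s, ∃ b ∈ B, x = b ∨ x = b * s := by
      intro x hx
      have hnorm : Subgroup.zpowers s ≤ Subgroup.normalizer (B : Set G) := by
        refine Subgroup.zpowers_le.mpr (mem_normalizer_iff.mpr fun w => ?_)
        constructor
        · intro hw
          rw [h.mul_comm_mem hs (hB.1 hw), mul_inv_cancel_right]; exact hw
        · intro hw
          have hwS : w ∈ SS := by
            have := mul_mem (mul_mem (inv_mem hs) (hB.1 hw)) hs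
            simpa [mul_assoc] using this
          rwa [h.mul_comm_mem hs hwS, mul_inv_cancel_right] at hw
      rw [← SetLike.mem_coe, Subgroup.coe_mul_of_right_le_normalizer_left _ _ hnorm] at hx
      obtain ⟨b, hb, w, hw, rfl⟩ := hx
      obtain ⟨i, rfl⟩ := hw
      refine ⟨b, hb, ?_⟩
      rcases Int.even_or_odd i with ⟨j, hj⟩ | ⟨j, hj⟩
      · left
        subst hj
        show b * s ^ (j + j) = b
        rw [← two_mul, zpow_mul, show (2 : ℤ) = ((2 : ℕ) : ℤ) from rfl, zpow_natCast, pow_two,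
          h.sq_eq_one hs, one_zpow, mul_one]
      · right
        subst hj
        show b * s ^ (2 * j + 1) = b * s
        rw [zpow_add_one, zpow_mul, show (2 : ℤ) = ((2 : ℕ) : ℤ) from rfl, zpow_natCast, pow_two,
          h.sq_eq_one hs, one_zpow, one_mul]
    have hin : B ⊔ Subgroup.zpowers s ∈ {B : Subgroup G | B ≤ SS ∧ ∀ b ∈ B, b ∈ A → b = 1} := by
      refine ⟨sup_le hB.1 (Subgroup.zpowers_le.mpr hs), fun x hx hxA => ?_⟩
      obtain ⟨b, hb, rfl | rfl⟩ := hmem x hx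
      · exact hB.2 x hb hxA
      · exfalso
        refine hc b⁻¹ (inv_mem hb) (b * s) hxA ?_
        group
    exact hc s ((hmax hin hle) (Subgroup.mem_sup_right (Subgroup.mem_zpowers s))) 1 (one_mem A)
      (mul_one s).symm
  refine ⟨B, hB.1, ?_, hB.2, hspan⟩
  rw [← Nat.card_prod]
  refine Nat.card_congr (Equiv.ofBijective
    (fun p => (⟨(p.1 : G) * p.2, mul_mem (hB.1 p.1.2) (hA p.2.2)⟩ : SS)) ⟨?_, ?_⟩)
  · rintro ⟨⟨b, hb⟩, ⟨α, hα⟩⟩ ⟨⟨b', hb'⟩, ⟨α', hα'⟩⟩ e
    have e1 : b * α = b' * α' := congrArg Subtype.val e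
    have e3 : b'⁻¹ * b = α' * α⁻¹ := by
      rw [eq_mul_inv_iff_mul_eq, mul_assoc, e1, inv_mul_cancel_left]
    have e2 : b'⁻¹ * b = 1 := hB.2 _ (mul_mem (inv_mem hb') hb) (by
      rw [e3]; exact mul_mem hα' (inv_mem hα))
    have e4 := inv_mul_eq_one.mp e2
    subst e4
    exact Prod.ext rfl (Subtype.ext (mul_left_cancel e1))
  · rintro ⟨s, hs⟩
    obtain ⟨b, hb, α, hα, rfl⟩ := hspan s hs
    exact ⟨⟨⟨b, hb⟩, ⟨α, hα⟩⟩, rfl⟩

/-- The step of the induction. -/
theorem good_step {n : ℕ} (hn : Nat.card SS = 2 ^ n)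
    (hsmall : n = 3 → Subgroup.centralizer ({t} : Set G) ⊓ NS ≤ Subgroup.centralizer (SS : Set G))
    {A : Subgroup G} (hA : A ≤ SS) (hA1 : A ≠ ⊥)
    (ih : ∀ A' : Subgroup G, A < A' → A' ≤ SS → Good S A') : Good S A := by
  classical
  haveI : Fact (Nat.Prime 2) := ⟨Nat.prime_two⟩
  set H := Subgroup.centralizer (A : Set G) with hH
  have hSH : SS ≤ H := h.S_le_centralizer hA
  by_cases htriv : H ⊓ NS ≤ Subgroup.centralizer (SS : Set G)
  · -- Burnside
    haveI := Fintype.ofFinite H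
    haveI := Fintype.ofFinite (IrrCharacter H)
    have hcoe : ((S.subtype hSH : Sylow 2 H) : Subgroup H) = (SS).subgroupOf H := rfl
    have hN : Cfsg.HasNormalPComplement 2 H :=
      Fusion.hasNormalPComplement_of_normalizer_le_centralizer (S.subtype hSH) (fun x hx => by
        refine mem_centralizer_iff.mpr fun z hz => Subtype.ext ?_
        refine mem_centralizer_iff.mp (htriv ⟨x.2, mem_normalizer_iff.mpr fun w => ?_⟩) (z : G) hz
        rw [hcoe] at hx
        constructor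
        · intro hw
          exact Subgroup.mem_subgroupOf.mp
            ((mem_normalizer_iff.mp hx ⟨w, hSH hw⟩).mp (Subgroup.mem_subgroupOf.mpr hw))
        · intro hw
          have hwH : w ∈ H := by
            have := mul_mem (mul_mem (inv_mem x.2) (hSH hw)) x.2
            simpa [mul_assoc] using this
          exact Subgroup.mem_subgroupOf.mp ((mem_normalizer_iff.mp hx ⟨w, hwH⟩).mpr
            (Subgroup.mem_subgroupOf.mpr hw)))
    have hchar : ∀ x : H, x ∈ Cfsg.pResidual 2 H ↔ ¬ 2 ∣ orderOf x := fun x =>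
      mem_pResidual_iff_regular hN
    have hcompl := (Fusion.hasNormalPComplement_iff_forall_sylow).mp hN (S.subtype hSH)
    intro x hx
    obtain ⟨⟨o, s⟩, hos, -⟩ := hcompl.existsUnique (⟨x, hx⟩ : H)
    refine ⟨((o : H) : G), ?_, ((s : H) : G), ⟨(s : H).2, Subgroup.le_normalizer
      (Subgroup.mem_subgroupOf.mp (hcoe ▸ s.2))⟩, (congrArg Subtype.val hos).symm⟩
    haveI hPn : (Cfsg.pResidual 2 H).Normal := ⟨fun w hw g => by
      rw [hchar, show orderOf (g * w * g⁻¹) = orderOf w from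
        orderOf_injective (MulAut.conj g).toMonoidHom (MulAut.conj g).injective w]
      exact (hchar w).mp hw⟩
    refine ⟨(o : H), Coprime.le_pPrimeCore_of_not_dvd Nat.prime_two (fun h2 => ?_) o.2, rfl⟩
    obtain ⟨w, hw⟩ := exists_prime_orderOf_dvd_card' (G := Cfsg.pResidual 2 H) 2 h2
    rw [← Subgroup.orderOf_coe] at hw
    exact (hchar _).mp w.2 (dvd_of_eq hw.symm)
  -- a nontrivial automorphism centralising `A`
  obtain ⟨g₀, hg₀, hg₀S⟩ := SetLike.not_le_iff_exists.mp htriv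
  obtain ⟨a₀, ha₀A, ha₀1⟩ : ∃ a ∈ A, a ≠ 1 := (Subgroup.ne_bot_iff_exists_ne_one.mp hA1).elim
    fun a ha => ⟨a, a.2, fun e => ha (Subtype.ext e)⟩
  obtain ⟨hstab, hcube⟩ := h.automizer_data hn (hA ha₀A) ha₀1
  have hg₀a : g₀ ∈ Subgroup.centralizer ({a₀} : Set G) :=
    mem_centralizer_singleton_iff.mpr (mem_centralizer_iff.mp hg₀.1 a₀ ha₀A).symm
  have hAcube : Nat.card A ^ 3 ≤ 2 ^ n := by
    rw [← hn]
    refine le_trans (Nat.pow_le_pow_left (Subgroup.card_le_of_le ?_) 3) (hcube g₀ hg₀.2 hg₀a hg₀S)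
    exact le_inf hA fun a ha => mem_centralizer_singleton_iff.mpr (mem_centralizer_iff.mp hg₀.1 a ha)
  -- `n ≥ 4`
  have hn4 : 4 ≤ n := by
    by_contra hlt
    obtain ⟨c, hc, e⟩ := h.exists_normalizer_conj (hA ha₀A) ha₀1 h.mem h.t_ne_one
    have hcg : c * g₀ * c⁻¹ ∈ NS := mul_mem (mul_mem hc hg₀.2) (inv_mem hc)
    have hct : c * g₀ * c⁻¹ ∈ Subgroup.centralizer ({t} : Set G) := by
      refine mem_centralizer_singleton_iff.mpr ?_
      rw [← e, show c * g₀ * c⁻¹ * (c * a₀ * c⁻¹) = c * (g₀ * a₀) * c⁻¹ by group,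
        mem_centralizer_singleton_iff.mp hg₀a]
      group
    have hn2 : 2 ^ 3 ≤ 2 ^ n := by
      refine le_trans (Nat.pow_le_pow_left ?_ 3) hAcube
      haveI : Nontrivial A := ⟨⟨a₀, ha₀A⟩, 1, fun e => ha₀1 (congrArg Subtype.val e)⟩
      exact Finite.one_lt_card
    have hn3 : n = 3 := by
      have := (Nat.pow_le_pow_iff_right (by norm_num : 1 < 2)).mp hn2
      omega
    refine hg₀S (mem_centralizer_iff.mpr fun s hs => ?_)
    have hcs : c * s * c⁻¹ ∈ SS := (mem_normalizer_iff.mp hc s).mp hs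
    have h1 := mem_centralizer_iff.mp (hsmall hn3 ⟨hct, hcg⟩) (c * s * c⁻¹) hcs
    calc s * g₀ = c⁻¹ * ((c * s * c⁻¹) * (c * g₀ * c⁻¹)) * c := by group
      _ = c⁻¹ * ((c * g₀ * c⁻¹) * (c * s * c⁻¹)) * c := by rw [h1]
      _ = g₀ * s := by group
  obtain ⟨B, hBS, hBA, hBdis, hBspan⟩ := h.exists_complementA hA
  obtain ⟨hr4, hrn⟩ := quotient_bounds hn4 (hBA.trans hn) hAcube
  -- two classes modulo `A`
  obtain ⟨a, haB, ha1⟩ : ∃ a ∈ B, a ≠ 1 := by
    by_contra! hc
    have : B = ⊥ := (Subgroup.eq_bot_iff_forall B).mpr hc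
    rw [this, Subgroup.card_bot] at hr4
    omega
  have haA : a ∉ A := fun e => ha1 (hBdis a haB e)
  obtain ⟨b, hb, hbA, hab⟩ : ∃ b ∈ SS, b ∉ A ∧
      ∀ g ∈ H, g * b * g⁻¹ * a ∉ A := by
    by_contra! hc
    -- every element outside `A` is a conjugate of `a` modulo `A`
    set T := (Subgroup.centralizer (SS : Set G)).subgroupOf (H ⊓ NS)
    have hTn : Nat.card ((H ⊓ NS : Subgroup G) ⧸ T) ≤ n := by
      rw [← Subgroup.index_eq_card]
      refine le_trans (Subgroup.relIndex_le_of_le_right (K := H ⊓ NS) ?_ ?_) hstab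
      · exact fun x hx => ⟨hx.2, mem_centralizer_singleton_iff.mpr
          (mem_centralizer_iff.mp hx.1 a₀ ha₀A).symm⟩
      · exact Subgroup.FiniteIndex.index_ne_zero
    have key : ∀ s ∈ B, s ≠ 1 → ∃ g ∈ H ⊓ NS, g * a * g⁻¹ * s ∈ A := by
      intro s hs hs1
      obtain ⟨g, hg, hgA⟩ := hc s (hBS hs) fun e => hs1 (hBdis s hs e)
      have h1 : g * s * g⁻¹ ∈ SS := by
        have := mul_mem (hA hgA) (inv_mem (hBS haB))
        simpa [mul_assoc] using this
      obtain ⟨m, hmH, hmN, e⟩ := h.fusion_centralizer hA hg (hBS hs) h1 rfl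
      refine ⟨m⁻¹, ⟨Subgroup.inv_mem _ hmH, Subgroup.inv_mem _ hmN⟩, ?_⟩
      rw [← e] at hgA
      have h2 : (m * s * m⁻¹ * a) = m * (s * (m⁻¹ * a * m)) * m⁻¹ := by group
      have h3 : s * (m⁻¹ * a * m) ∈ A := by
        have h4 : s * (m⁻¹ * a * m) = m⁻¹ * (m * s * m⁻¹ * a) * m := by group
        rw [h4, mul_assoc, mem_centralizer_iff.mp hmH _ hgA, inv_mul_cancel_left]
        exact hgA
      rw [inv_inv, h.mul_comm_mem ?_ (hBS hs)]
      · exact h3
      · have := (mem_normalizer_iff.mp (inv_mem hmN) a).mp (hBS haB)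
        rwa [inv_inv] at this
    choose f hf hfA using key
    have hle : Nat.card {s : B // (s : G) ≠ 1} ≤ Nat.card ((H ⊓ NS : Subgroup G) ⧸ T) := by
      refine Nat.card_le_card_of_injective
        (fun s => ((⟨f s.1 s.1.2 s.2, hf s.1 s.1.2 s.2⟩ : (H ⊓ NS : Subgroup G)) :
          (H ⊓ NS : Subgroup G) ⧸ T)) fun s s' e => ?_
      set g := f s.1 s.1.2 s.2 with hgdef
      set g' := f s'.1 s'.1.2 s'.2 with hg'def
      have hcomm := Subgroup.mem_subgroupOf.mp (QuotientGroup.eq.mp e)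
      change g⁻¹ * g' ∈ Subgroup.centralizer (SS : Set G) at hcomm
      have h1 : g * a * g⁻¹ = g' * a * g'⁻¹ := by
        have h2 := mem_centralizer_iff.mp hcomm a (hBS haB)
        calc g * a * g⁻¹ = g * (a * (g⁻¹ * g')) * g'⁻¹ := by group
          _ = g * ((g⁻¹ * g') * a) * g'⁻¹ := by rw [h2]
          _ = g' * a * g'⁻¹ := by group
      have h3 := mul_mem (inv_mem (hfA s.1 s.1.2 s.2)) (hfA s'.1 s'.1.2 s'.2)
      rw [← hgdef, ← hg'def, ← h1] at h3
      rw [show (g * a * g⁻¹ * (s.1 : G))⁻¹ * (g * a * g⁻¹ * (s'.1 : G)) = (s.1 : G)⁻¹ * (s'.1 : G) by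
        group] at h3
      have h4 := hBdis _ (mul_mem (inv_mem s.1.2) s'.1.2) h3
      exact Subtype.ext (Subtype.ext (inv_mul_eq_one.mp h4))
    have hcard : Nat.card {s : B // (s : G) ≠ 1} = Nat.card B - 1 := by
      haveI := Fintype.ofFinite B
      rw [Nat.card_eq_fintype_card, Nat.card_eq_fintype_card, Fintype.card_subtype_compl]
      congr 1
      exact Fintype.card_subtype_eq' (1 : B) ▸ Fintype.card_congr
        (Equiv.subtypeEquivRight fun s => by simp [eq_comm])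
    omega
  -- the signalizer functor
  set θ : G → Subgroup G := fun b =>
    coreIn (Subgroup.centralizer ((A ⊔ Subgroup.zpowers b : Subgroup G) : Set G)) with hθ
  have hgoodb : ∀ b ∈ SS, b ∉ A → Good S (A ⊔ Subgroup.zpowers b) := fun b hb hbA =>
    ih _ (lt_of_le_of_ne le_sup_left fun e => hbA (e ▸ Subgroup.mem_sup_right (Subgroup.mem_zpowers b)))
      (sup_le hA (Subgroup.zpowers_le.mpr hb))
  have hθle : ∀ b, θ b ≤ Subgroup.centralizer ((A ⊔ Subgroup.zpowers b : Subgroup G) : Set G) :=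
    fun b => coreIn_le _
  have hθnorm : ∀ b ∈ SS, ∀ s ∈ SS, ∀ x ∈ θ b, s * x * s⁻¹ ∈ θ b := by
    intro b hb s hs x hx
    have hsC : s ∈ Subgroup.centralizer ((A ⊔ Subgroup.zpowers b : Subgroup G) : Set G) :=
      h.S_le_centralizer (sup_le hA (Subgroup.zpowers_le.mpr hb)) hs
    exact (mem_normalizer_iff.mp (le_normalizer_coreIn _ hsC) x).mp hx
  have hnotA : ∀ b ∈ B, b ≠ 1 → b ∉ A := fun b hb hb1 e => hb1 (hBdis b hb e)
  have hfunctor : Cfsg.IsSolvableSignalizerFunctor 2 B θ := by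
    refine ⟨⟨fun b _ _ x hx => mem_centralizer_singleton_iff.mpr
        (mem_centralizer_sup_zpowers.mp (hθle b hx)).2, fun b _ _ => odd_coreIn _,
      fun b hb _ c hc x hx => hθnorm b (hBS hb) c (hBS hc) x hx, ?_⟩,
      fun b _ _ => CfsgLib.FT.isSolvable_of_odd _
        (Nat.odd_iff.mpr (Nat.two_dvd_ne_zero.mp (odd_coreIn _)))⟩
    intro b hb hb1 c hc hc1
    refine h.odd_invariant_le (sup_le hA (Subgroup.zpowers_le.mpr (hBS hc)))
      (hgoodb c (hBS hc) (hnotA c hc hc1)) ?_ ?_ ?_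
    · rintro x ⟨hx, hxc⟩
      exact mem_centralizer_sup_zpowers.mpr ⟨(mem_centralizer_sup_zpowers.mp (hθle b hx)).1,
        mem_centralizer_singleton_iff.mp hxc⟩
    · exact fun h2 => odd_coreIn _ (h2.trans (Subgroup.card_dvd_of_le inf_le_left))
    · refine Invol.le_normalizer_of_forall_conj fun s hs x hx => ⟨hθnorm b (hBS hb) s hs x hx.1, ?_⟩
      refine mem_centralizer_singleton_iff.mpr ?_
      have h1 := mem_centralizer_singleton_iff.mp hx.2
      have h2 := h.mul_comm_mem hs (hBS hc)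
      calc s * x * s⁻¹ * c = s * x * (s⁻¹ * c) := by group
        _ = s * x * (c * s⁻¹) := by rw [h.mul_comm_mem (inv_mem hs) (hBS hc)]
        _ = s * (x * c) * s⁻¹ := by group
        _ = s * (c * x) * s⁻¹ := by rw [h1]
        _ = (s * c) * x * s⁻¹ := by group
        _ = (c * s) * x * s⁻¹ := by rw [h2]
        _ = c * (s * x * s⁻¹) := by group
  have hBel : Cfsg.IsElementaryAbelian 2 B := ⟨⟨⟨fun x z => Subtype.ext
    (h.mul_comm_mem (hBS x.2) (hBS z.2))⟩⟩, fun x hx => by rw [pow_two, h.sq_eq_one (hBS hx)]⟩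
  have hB3 : 2 ^ 3 ≤ Nat.card B := by
    obtain ⟨e, -, he⟩ := (Nat.dvd_prime_pow Nat.prime_two).mp (Dvd.intro _ (hBA.trans hn))
    rw [he] at hr4 ⊢
    refine Nat.pow_le_pow_right (by norm_num) ?_
    by_contra hlt
    have : 2 ^ e ≤ 2 ^ 2 := Nat.pow_le_pow_right (by norm_num) (by omega)
    omega
  obtain ⟨X, hXfam, hX⟩ := SolvSignalizer.exists_complete hBel hB3 hfunctor
  set W : Subgroup G := ⨆ b : {b : G // b ∈ B ∧ b ≠ 1}, θ b with hW
  have hWodd : ¬ 2 ∣ Nat.card W := fun h2 => hXfam.2.1 (h2.trans (Subgroup.card_dvd_of_le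
    (iSup_le fun b => hX b.1 b.2.1 b.2.2)))
  have hθW : ∀ b ∈ B, b ≠ 1 → θ b ≤ W := fun b hb hb1 =>
    le_iSup (fun b : {b : G // b ∈ B ∧ b ≠ 1} => θ b) ⟨b, hb, hb1⟩
  have hWH : W ≤ H := iSup_le fun b x hx => (mem_centralizer_sup_zpowers.mp (hθle _ hx)).1
  -- `θ` depends only on the coset
  have hcoset : ∀ s ∈ SS, s ∉ A → ∃ b ∈ B, b ≠ 1 ∧
      A ⊔ Subgroup.zpowers b = A ⊔ Subgroup.zpowers s := by
    intro s hs hsA
    obtain ⟨b, hb, α, hα, rfl⟩ := hBspan s hs
    refine ⟨b, hb, fun e => hsA (by rw [e, one_mul]; exact hα), le_antisymm ?_ ?_⟩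
    · refine sup_le le_sup_left (Subgroup.zpowers_le.mpr ?_)
      have := mul_mem (Subgroup.mem_sup_right (S := A) (Subgroup.mem_zpowers (b * α)))
        (Subgroup.mem_sup_left (T := Subgroup.zpowers (b * α)) (inv_mem hα))
      simpa using this
    · exact sup_le le_sup_left (Subgroup.zpowers_le.mpr
        (mul_mem (Subgroup.mem_sup_right (Subgroup.mem_zpowers b)) (Subgroup.mem_sup_left hα)))
  have hWN : H ⊓ NS ≤ Subgroup.normalizer (W : Set G) := by
    refine Invol.le_normalizer_of_forall_conj fun c hc x hx => ?_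
    have hle : W ≤ W.comap (MulAut.conj c).toMonoidHom := by
      refine iSup_le fun b z hz => ?_
      obtain ⟨b', hb', hb'1, e⟩ := hcoset (c * b.1 * c⁻¹)
        ((mem_normalizer_iff.mp hc.2 _).mp (hBS b.2.1)) (fun eA => hnotA b.1 b.2.1 b.2.2 (by
          have h1 : c⁻¹ * (c * b.1 * c⁻¹) * c = c * b.1 * c⁻¹ := by
            rw [mul_assoc, mem_centralizer_iff.mp hc.1 _ eA, inv_mul_cancel_left]
          rw [show c⁻¹ * (c * b.1 * c⁻¹) * c = b.1 by group] at h1
          rw [h1]; exact eA))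
      refine hθW b' hb' hb'1 ?_
      show c * z * c⁻¹ ∈ coreIn (Subgroup.centralizer ((A ⊔ Subgroup.zpowers b' : Subgroup G) : Set G))
      rw [e]
      refine conj_mem_coreIn (fun w => ?_) hz
      rw [mem_centralizer_sup_zpowers, mem_centralizer_sup_zpowers]
      refine and_congr ⟨fun hw => mul_mem (mul_mem hc.1 hw) (inv_mem hc.1), fun hw => by
        have := mul_mem (mul_mem (Subgroup.inv_mem _ hc.1) hw) hc.1
        simpa [mul_assoc] using this⟩ ?_
      exact (SemiconjBy.conj_iff (a := w) (x := b.1) (y := b.1) (b := c)).symm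
    exact hle hx
  set N := H ⊓ Subgroup.normalizer (W : Set G) with hNdef
  have hdecomp : ∀ s ∈ SS, s ∉ A → ∀ x ∈ H, Commute x s →
      ∃ o ∈ W, ∃ m ∈ H ⊓ NS, x = o * m := by
    intro s hs hsA x hx hxs
    obtain ⟨b, hb, hb1, e⟩ := hcoset s hs hsA
    obtain ⟨o, ho, m, hm, rfl⟩ := hgoodb s hs hsA x (mem_centralizer_sup_zpowers.mpr ⟨hx, hxs⟩)
    refine ⟨o, hθW b hb hb1 ?_, m, ⟨(mem_centralizer_sup_zpowers.mp hm.1).1, hm.2⟩, rfl⟩
    show o ∈ coreIn (Subgroup.centralizer ((A ⊔ Subgroup.zpowers b : Subgroup G) : Set G))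
    rw [e]; exact ho
  have hHN : H ≤ N := h.generation hA (le_inf inf_le_left hWN) (fun s hs hsA x hx hxs => by
    refine ⟨hx, ?_⟩
    obtain ⟨o, ho, m, hm, rfl⟩ := hdecomp s hs hsA x hx hxs
    exact mul_mem (Subgroup.le_normalizer ho) (hWN hm)) (hBS haB) hb haA hbA hab
  have hWcore : W ≤ coreIn H := le_coreIn hWH (hHN.trans inf_le_right) hWodd
  have hfinal : H ≤ coreIn H ⊔ (H ⊓ NS) := h.generation hA le_sup_right (fun s hs hsA x hx hxs => by
    obtain ⟨o, ho, m, hm, rfl⟩ := hdecomp s hs hsA x hx hxs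
    exact mul_mem (Subgroup.mem_sup_left (hWcore ho)) (Subgroup.mem_sup_right hm))
    (hBS haB) hb haA hbA hab
  intro x hx
  have hx' := hfinal hx
  rw [← SetLike.mem_coe, Subgroup.coe_mul_of_right_le_normalizer_left _ _
    (inf_le_left.trans (le_normalizer_coreIn H))] at hx'
  obtain ⟨o, ho, m, hm, e⟩ := hx'
  exact ⟨o, ho, m, hm, e.symm⟩

/-- Every centralizer of a nontrivial subgroup of `S` is good. -/
theorem good {n : ℕ} (hn : Nat.card SS = 2 ^ n)
    (hsmall : n = 3 → Subgroup.centralizer ({t} : Set G) ⊓ NS ≤ Subgroup.centralizer (SS : Set G)) :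
    ∀ A : Subgroup G, A ≤ SS → A ≠ ⊥ → Good S A := by
  suffices key : ∀ k : ℕ, ∀ A : Subgroup G, Nat.card SS - Nat.card A = k → A ≤ SS → A ≠ ⊥ →
      Good S A from fun A => key _ A rfl
  intro k
  induction k using Nat.strong_induction_on with
  | _ k ihk =>
    intro A hk hA hA1
    refine h.good_step hn hsmall hA hA1 fun A' hlt hA' => ihk _ ?_ A' rfl hA' (ne_bot_of_gt hlt)
    have h1 : Nat.card A < Nat.card A' := by
      refine lt_of_le_of_ne (Subgroup.card_le_of_le hlt.le) fun e => hlt.ne ?_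
      exact Subgroup.eq_of_le_of_card_ge hlt.le e.ge
    have h2 := Subgroup.card_le_of_le hA'
    omega

end Setup

end CfsgLib.Block.ConstDiff
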