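import Cfsg.Agent.Lib.Block.ConstDiff.Setup
import Cfsg.Agent.Lib.FT.NoMinSimple
import Cfsg.Agent.Lib.Char.ConstDegreeMinusValue.Kernel
import Mathlib.GroupTheory.FiniteAbelian.Duality

/-!
# No nonprincipal character of the block is trivial on the Sylow 2-subgroup

For such a character the sum over the regular elements is congruent to the sum over the regular
elements centralising `S`; so those elements act trivially, and a linear character with the same
kernel lies in the principal block, contradicting the value at `u`.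
-/

set_option autoImplicit false
set_option linter.unusedSectionVars false
set_option linter.style.haveILetI false
set_option linter.unusedSimpArgs false

open Cfsg
open scoped ComplexConjugate

namespace CfsgLib.Block.ConstDiff

universe u

variable {M : Ideal AlgInt} [M.IsMaximal] {G : Type u} [Group G] [Fintype G] [DecidableEq G]
  {u t y : G} {S : Sylow 2 G}

local notation "SS" => ((S : Subgroup G))

/-- The elements of odd order of the centralizer of `S`. -/
noncomputable def fixedRegular (S : Sylow 2 G) : Finset G :=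
  haveI : DecidablePred (fun x : G => ¬ 2 ∣ orderOf x ∧ ∀ s ∈ (S : Subgroup G), Commute s x) :=
    Classical.decPred _
  Finset.univ.filter (fun x : G => ¬ 2 ∣ orderOf x ∧ ∀ s ∈ (S : Subgroup G), Commute s x)

theorem mem_fixedRegular {x : G} :
    x ∈ fixedRegular S ↔ ¬ 2 ∣ orderOf x ∧ ∀ s ∈ SS, Commute s x := by
  simp [fixedRegular]

namespace Setup

variable (h : Setup M u t y S)
include h

/-- The elements of odd order of the centralizer form a subgroup. -/
theorem exists_complement : ∃ D : Subgroup G, (∀ x, x ∈ D ↔ x ∈ fixedRegular S) ∧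
    ∀ g ∈ Subgroup.normalizer (SS : Set G), ∀ x ∈ D, g * x * g⁻¹ ∈ D := by
  haveI : Fact (Nat.Prime 2) := ⟨Nat.prime_two⟩
  set C := Subgroup.centralizer (SS : Set G) with hC
  haveI := Fintype.ofFinite C
  haveI := Fintype.ofFinite (IrrCharacter C)
  have hSC : SS ≤ C := fun a ha => Subgroup.mem_centralizer_iff.mpr fun b hb => h.mul_comm_mem hb ha
  have hN := Fusion.hasNormalPComplement_of_normalizer_le_centralizer (S.subtype hSC)
    (fun x _ => Subgroup.mem_centralizer_iff.mpr fun a ha => Subtype.ext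
      (Subgroup.mem_centralizer_iff.mp x.2 (a : G) ha))
  refine ⟨(Cfsg.pResidual 2 C).map C.subtype, fun x => ?_, fun g hg x hx => ?_⟩
  · rw [mem_fixedRegular]
    constructor
    · rintro ⟨⟨x, hx⟩, hxr, rfl⟩
      refine ⟨?_, fun s hs => Subgroup.mem_centralizer_iff.mp hx s hs⟩
      have := (mem_pResidual_iff_regular (p := 2) hN (g := ⟨x, hx⟩)).mp hxr
      rwa [← Subgroup.orderOf_coe] at this
    · rintro ⟨hx2, hxc⟩
      have hxC : x ∈ C := Subgroup.mem_centralizer_iff.mpr hxc
      exact ⟨⟨x, hxC⟩, (mem_pResidual_iff_regular (p := 2) hN (g := ⟨x, hxC⟩)).mpr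
        (by rwa [← Subgroup.orderOf_coe]), rfl⟩
  · obtain ⟨⟨x, hxC⟩, hxr, rfl⟩ := hx
    have hgx : g * x * g⁻¹ ∈ C := Subgroup.mem_centralizer_iff.mpr fun s hs => by
      have hs' : g⁻¹ * s * g ∈ SS := (Subgroup.mem_normalizer_iff''.mp hg s).mp hs
      calc s * (g * x * g⁻¹) = g * ((g⁻¹ * s * g) * x) * g⁻¹ := by group
        _ = g * (x * (g⁻¹ * s * g)) * g⁻¹ := by
          rw [Subgroup.mem_centralizer_iff.mp hxC _ hs']
        _ = g * x * g⁻¹ * s := by group
    refine ⟨⟨g * x * g⁻¹, hgx⟩, (mem_pResidual_iff_regular (p := 2) hN).mpr ?_, rfl⟩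
    have := (mem_pResidual_iff_regular (p := 2) hN (g := ⟨x, hxC⟩)).mp hxr
    rw [← Subgroup.orderOf_coe] at this ⊢
    rwa [show orderOf (g * x * g⁻¹) = orderOf x from
      orderOf_injective (MulAut.conj g).toMonoidHom (MulAut.conj g).injective x]

/-- A class function summed over the regular elements is, modulo 2, its sum over the regular
elements centralising `S`. -/
theorem res_sum_regular (χ : IrrCharacter G) :
    ∑ x ∈ Finset.univ.filter (fun x : G => ¬ 2 ∣ orderOf x), res M (irrLoc M χ x) =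
      ∑ x ∈ fixedRegular S, res M (irrLoc M χ x) := by
  classical
  haveI : Fact (Nat.Prime 2) := ⟨Nat.prime_two⟩
  haveI := charP_res h.modular
  set R := Finset.univ.filter (fun x : G => ¬ 2 ∣ orderOf x) with hR
  have hF : fixedRegular S = R.filter (fun x => ∀ s ∈ SS, Commute s x) := by
    ext x; simp [mem_fixedRegular, hR]
  rw [hF, ← Finset.sum_fiberwise_of_maps_to (s := R) (g := fun x => res M (irrLoc M χ x))
      (t := R.image fun x => res M (irrLoc M χ x)) (fun x hx => Finset.mem_image_of_mem _ hx),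
    ← Finset.sum_fiberwise_of_maps_to (s := R.filter _) (g := fun x => res M (irrLoc M χ x))
      (t := R.image fun x => res M (irrLoc M χ x))
      (fun x hx => Finset.mem_image_of_mem _ (Finset.mem_filter.mp hx).1)]
  refine Finset.sum_congr rfl fun c _ => ?_
  rw [Finset.sum_congr rfl (g := fun _ => c) (fun x hx => (Finset.mem_filter.mp hx).2),
    Finset.sum_congr (s₁ := Finset.filter _ (R.filter _)) rfl (g := fun _ => c)
      (fun x hx => (Finset.mem_filter.mp hx).2), Finset.sum_const, Finset.sum_const]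
  set A := R.filter (fun x => res M (irrLoc M χ x) = c) with hA
  letI : MulAction SS {x : G // x ∈ A} :=
    { smul := fun s x => ⟨(s : G) * (x : G) * (s : G)⁻¹, by
        have hx := x.2
        simp only [hA, hR, Finset.mem_filter, Finset.mem_univ, true_and] at hx ⊢
        have he : irrLoc M χ ((s : G) * (x : G) * (s : G)⁻¹) = irrLoc M χ (x : G) :=
          Subtype.ext (by simp [Char.isClassFunction_irr χ (x : G) (s : G)])
        rw [show orderOf ((s : G) * (x : G) * (s : G)⁻¹) = orderOf (x : G) from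
          orderOf_injective (MulAut.conj (s : G)).toMonoidHom (MulAut.conj (s : G)).injective (x : G), he]
        exact hx⟩
      one_smul := fun x => Subtype.ext (by
        show ((1 : SS) : G) * (x : G) * ((1 : SS) : G)⁻¹ = x
        simp)
      mul_smul := fun a b x => Subtype.ext (by
        show ((a * b : SS) : G) * (x : G) * ((a * b : SS) : G)⁻¹ =
          (a : G) * ((b : G) * (x : G) * (b : G)⁻¹) * (a : G)⁻¹
        simp [mul_assoc]) }
  have hmod := S.isPGroup'.card_modEq_card_fixedPoints (α := {x : G // x ∈ A})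
  have e1 : Nat.card {x : G // x ∈ A} = A.card := by simp
  have e2 : Nat.card (MulAction.fixedPoints SS {x : G // x ∈ A}) =
      ((R.filter (fun x => ∀ s ∈ SS, Commute s x)).filter
        (fun x => res M (irrLoc M χ x) = c)).card := by
    rw [← Nat.card_eq_finsetCard]
    refine Nat.card_congr
      { toFun := fun x => ⟨(x.1 : G), ?_⟩
        invFun := fun x => ⟨⟨(x : G), ?_⟩, ?_⟩
        left_inv := fun x => rfl
        right_inv := fun x => rfl }
    · have hx := x.1.2
      simp only [hA, Finset.mem_filter] at hx ⊢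
      refine ⟨⟨hx.1, fun s hs => ?_⟩, hx.2⟩
      have := congrArg Subtype.val (x.2 ⟨s, hs⟩)
      exact mul_inv_eq_iff_eq_mul.mp this
    · have hx := x.2
      simp only [hA, Finset.mem_filter] at hx ⊢
      exact ⟨hx.1.1, hx.2⟩
    · intro s
      have hx := (Finset.mem_filter.mp (Finset.mem_filter.mp x.2).1).2
      exact Subtype.ext (mul_inv_eq_iff_eq_mul.mpr (hx s s.2))
  rw [e1, e2] at hmod
  rw [nsmul_eq_mul, nsmul_eq_mul, (CharP.natCast_eq_natCast (ResField M) 2).mpr hmod]

/-- Membership in the principal block for a character of odd degree. -/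
theorem mem_iff_of_odd (χ : IrrCharacter G) (hd : Odd (deg χ)) :
    χ ∈ principalBlock M G ↔ ∑ x ∈ fixedRegular S, res M (irrLoc M χ x) ≠ 0 := by
  classical
  have := Fintype.ofFinite (IrrCharacter G)
  have := Fintype.ofFinite (ConjClasses G)
  haveI := charP_res h.modular
  obtain ⟨R, hR, hRres⟩ := exists_regN_lift (p := 2) (M := M) χ (oneChar G)
  rw [mem_principalBlock_iff h.modular, omegaBar_regBar_eq_regN, ← hRres, ← h.res_sum_regular χ]
  have e : R * (deg χ : locRing M) =
      ∑ x ∈ Finset.univ.filter (fun x : G => ¬ 2 ∣ orderOf x), irrLoc M χ x := by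
    refine Subtype.ext ?_
    rw [Subring.coe_mul, SubringClass.coe_natCast, ← apply_one, hR, card_mul_regInner,
      AddSubmonoidClass.coe_finsetSum]
    exact Finset.sum_congr rfl fun x _ => by simp [oneChar_apply]
  have hdeg : (deg χ : ResField M) = 1 := by
    rw [← Nat.cast_one (R := ResField M)]
    exact (CharP.natCast_eq_natCast (ResField M) 2).mpr (Nat.odd_iff.mp hd)
  rw [← map_sum, ← e, map_mul, res_natCast, hdeg, mul_one]

/-- A linear character trivial on `S` and on its centralizer's elements of odd order is principal. -/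
theorem hom_trivial (hq : 4 ≤ Nat.card SS) (ω : G →* ℂˣ)
    (_hS : ∀ s ∈ SS, ω s = 1) (hD : ∀ x ∈ fixedRegular S, ω x = 1) : ω = 1 := by
  classical
  by_contra hω
  obtain ⟨D, hD', -⟩ := h.exists_complement
  set χ : IrrCharacter G := ⟨_, Char.isIrrCharacter_lin ω⟩ with hχ
  have hval : ∀ g, (χ : G → ℂ) g = (ω g : ℂ) := fun g => rfl
  have hdeg : deg χ = 1 := by
    have h1 := apply_one χ
    rw [hval, map_one, Units.val_one] at h1
    exact_mod_cast h1.symm
  have hne : χ ≠ oneChar G := fun e => hω (MonoidHom.ext fun g => Units.ext (by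
    rw [← hval, e, oneChar_apply]; rfl))
  have hmem : χ ∈ principalBlock M G := by
    rw [h.mem_iff_of_odd χ (by rw [hdeg]; exact odd_one), Finset.sum_congr rfl (g := fun _ => 1)
      fun x hx => by
        rw [show irrLoc M χ x = 1 from Subtype.ext (by simp [hval, hD x hx]), map_one],
      Finset.sum_const, nsmul_one]
    haveI := charP_res h.modular
    rw [Ne, CharP.cast_eq_zero_iff (ResField M) 2]
    intro h2
    have e : Nat.card D = (fixedRegular S).card := by
      rw [← Nat.card_eq_finsetCard]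
      exact Nat.card_congr (Equiv.subtypeEquivRight hD')
    haveI : Fact (Nat.Prime 2) := ⟨Nat.prime_two⟩
    obtain ⟨x, hx⟩ := exists_prime_orderOf_dvd_card' (G := D) 2 (e ▸ h2)
    rw [← Subgroup.orderOf_coe] at hx
    exact (mem_fixedRegular.mp ((hD' _).mp x.2)).1 (hx ▸ dvd_rfl)
  have he := h.eq χ (mem_pb'.mpr ⟨hne, hmem⟩)
  rw [hval, hval, map_one, Units.val_one, sub_eq_iff_eq_add] at he
  have hn : ‖(ω u : ℂ)‖ = 1 := by
    refine Complex.norm_eq_one_of_pow_eq_one (n := orderOf u) ?_ (orderOf_pos u).ne'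
    rw [← Units.val_pow_eq_pow_val, ← map_pow, pow_orderOf_eq_one, map_one, Units.val_one]
  have hu : (ω u : ℂ) = ((1 - (Nat.card SS : ℤ) : ℤ) : ℂ) := by push_cast; linear_combination -he
  rw [hu, Complex.norm_intCast] at hn
  have h3 : |(1 - (Nat.card SS : ℤ))| = 1 := by exact_mod_cast hn
  rw [abs_of_nonpos (by omega)] at h3
  omega

/-- A normal subgroup containing `S` and the regular elements centralising it is everything. -/
theorem eq_top_of_normal (hq : 4 ≤ Nat.card SS) {N : Subgroup G} [N.Normal] (hS : SS ≤ N)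
    (hD : ∀ x ∈ fixedRegular S, x ∈ N) : N = ⊤ := by
  by_contra hN
  haveI : Fact (Nat.Prime 2) := ⟨Nat.prime_two⟩
  have hodd : Odd (Nat.card (G ⧸ N)) := by
    rw [Nat.odd_iff, ← Nat.two_dvd_ne_zero, ← Subgroup.index_eq_card]
    exact fun h2 => S.not_dvd_index (h2.trans (Subgroup.index_dvd_of_le hS))
  haveI := CfsgLib.FT.isSolvable_of_odd (G ⧸ N) hodd
  haveI : Nontrivial (G ⧸ N) := QuotientGroup.nontrivial_iff.mpr hN
  have hc : commutator (G ⧸ N) < ⊤ := Group.IsSolvable.commutator_lt_top_of_nontrivial (G ⧸ N)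
  obtain ⟨a, ha⟩ : ∃ a : Abelianization (G ⧸ N), a ≠ 1 := by
    obtain ⟨g, -, hg⟩ := SetLike.exists_of_lt hc
    exact ⟨Abelianization.of g, fun e => hg ((QuotientGroup.eq_one_iff g).mp e)⟩
  haveI : Finite (Abelianization (G ⧸ N)) := Quotient.finite _
  obtain ⟨φ, hφ⟩ := CommGroup.exists_apply_ne_one_of_hasEnoughRootsOfUnity
    (Abelianization (G ⧸ N)) ℂ ha
  have h1 := h.hom_trivial hq ((φ.comp Abelianization.of).comp (QuotientGroup.mk' N))
    (fun s hs => by simp [(QuotientGroup.eq_one_iff s).mpr (hS hs)])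
    (fun x hx => by simp [(QuotientGroup.eq_one_iff x).mpr (hD x hx)])
  obtain ⟨g, rfl⟩ := QuotientGroup.mk'_surjective (commutator (G ⧸ N)) a
  obtain ⟨g, rfl⟩ := QuotientGroup.mk'_surjective N g
  exact hφ (show φ _ = 1 from DFunLike.congr_fun h1 g)

/-- The Sylow 2-subgroup is not normal. -/
theorem not_normal (hq : 4 ≤ Nat.card SS) : ¬ (SS).Normal := by
  intro hn
  haveI : Fact (Nat.Prime 2) := ⟨Nat.prime_two⟩
  haveI : (Subgroup.centralizer (SS : Set G)).Normal :=
    ⟨fun x hx g => Subgroup.mem_centralizer_iff.mpr fun s hs => by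
      have hs' : g⁻¹ * s * g ∈ SS := by simpa using hn.conj_mem s hs g⁻¹
      calc s * (g * x * g⁻¹) = g * ((g⁻¹ * s * g) * x) * g⁻¹ := by group
        _ = g * (x * (g⁻¹ * s * g)) * g⁻¹ := by
          rw [Subgroup.mem_centralizer_iff.mp hx _ hs']
        _ = g * x * g⁻¹ * s := by group⟩
  have hC := h.eq_top_of_normal hq (N := Subgroup.centralizer (SS : Set G))
    (fun a ha => Subgroup.mem_centralizer_iff.mpr fun b hb => h.mul_comm_mem hb ha)
    (fun x hx => Subgroup.mem_centralizer_iff.mpr fun s hs => (mem_fixedRegular.mp hx).2 s hs)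
  have hcomp := Fusion.hasNormalPComplement_of_normalizer_le_centralizer S (hC ▸ le_top)
  haveI := Fintype.ofFinite (IrrCharacter G)
  have hchar : ∀ x : G, x ∈ Cfsg.pResidual 2 G ↔ ¬ 2 ∣ orderOf x := fun x =>
    mem_pResidual_iff_regular hcomp
  haveI hPn : (Cfsg.pResidual 2 G).Normal := ⟨fun x hx g => by
    rw [hchar, show orderOf (g * x * g⁻¹) = orderOf x from
      orderOf_injective (MulAut.conj g).toMonoidHom (MulAut.conj g).injective x]
    exact (hchar x).mp hx⟩
  have hle : Cfsg.pResidual 2 G ≤ Cfsg.oddCore G := by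
    refine le_sSup ⟨hPn, ((Nat.prime_two.coprime_iff_not_dvd.mpr fun h2 => ?_)).symm⟩
    obtain ⟨x, hx⟩ := exists_prime_orderOf_dvd_card' (G := Cfsg.pResidual 2 G) 2 h2
    rw [← Subgroup.orderOf_coe] at hx
    exact (hchar _).mp x.2 (dvd_of_eq hx.symm)
  rw [h.core] at hle
  have hy : ∀ x : G, ¬ 2 ∣ orderOf x → x = 1 := fun x hx => by
    simpa using hle ((hchar x).mpr hx)
  have htop : SS = ⊤ := by
    refine Subgroup.index_eq_one.mp ?_
    by_contra hi
    obtain ⟨r, hr, hrd⟩ := Nat.exists_prime_and_dvd hi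
    haveI := Fact.mk hr
    obtain ⟨x, hx⟩ := exists_prime_orderOf_dvd_card' (G := G) r
      (hrd.trans (Subgroup.index_dvd_card _))
    have hr2 : r ≠ 2 := fun e => S.not_dvd_index (e ▸ hrd)
    have := hy x (by rw [hx]; exact fun h2 => hr2 ((Nat.prime_dvd_prime_iff_eq Nat.prime_two hr).mp h2).symm)
    rw [this, orderOf_one] at hx
    exact hr.one_lt.ne hx
  have hd : ∀ χ : IrrCharacter G, deg χ = 1 := fun χ => by
    have := Char.degree_one_of_comm (fun a b => h.mul_comm_mem (by rw [htop]; trivial)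
      (by rw [htop]; trivial)) χ
    rw [apply_one] at this
    exact_mod_cast this
  have := h.sum_deg
  simp only [hd, Nat.cast_one, one_mul, Finset.sum_const, nsmul_eq_mul] at this
  have hd2 : ((Nat.card SS : ℤ) - 1) ∣ 1 := ⟨_, by rw [mul_comm]; exact this.symm⟩
  have := Int.le_of_dvd one_pos hd2
  omega

/-- No nonprincipal character of the block is trivial on `S`. -/
theorem not_trivial_on_S (hq : 4 ≤ Nat.card SS) {χ : IrrCharacter G} (hχ : χ ∈ pb' M G)
    (hS : ∀ s ∈ SS, (χ : G → ℂ) s = (χ : G → ℂ) 1) : False := by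
  classical
  haveI : Fact (Nat.Prime 2) := ⟨Nat.prime_two⟩
  obtain ⟨n, ρ, hρ, hχρ⟩ := χ.2
  haveI := hρ
  set N : Subgroup G := MonoidHom.ker ρ with hN
  haveI : N.Normal := MonoidHom.normal_ker _
  have hker : ∀ g, g ∈ N ↔ (χ : G → ℂ) g = (χ : G → ℂ) 1 := fun g => by
    rw [hN, MonoidHom.mem_ker, ← congrFun hχρ g, ← congrFun hχρ 1, Representation.char_one,
      Char.char_eq_degree_iff ρ g]
    exact Iff.rfl
  have hSN : SS ≤ N := fun s hs => (hker s).mpr (hS s hs)
  -- the degree is odd
  have hodd : Odd (deg χ) := by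
    obtain ⟨θ, hθ⟩ := exists_deflate (N := N) χ fun z hz => (hker z).mp hz
    have hd := Char.degree_dvd_card θ (d := deg χ) (by
      rw [← apply_one, ← hθ 1, QuotientGroup.mk_one])
    rw [← Subgroup.index_eq_card] at hd
    rw [Nat.odd_iff, ← Nat.two_dvd_ne_zero]
    exact fun h2 => S.not_dvd_index ((h2.trans hd).trans (Subgroup.index_dvd_of_le hSN))
  have hne := (h.mem_iff_of_odd χ hodd).mp (mem_pb'.mp hχ).2
  obtain ⟨D, hD, hDn⟩ := h.exists_complement
  -- the fixed space of `D` is invariant
  haveI := Fintype.ofFinite D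
  set P : Module.End ℂ (Fin n → ℂ) := (Nat.card D : ℂ)⁻¹ • ∑ d : D, ρ d with hP
  have htop : Subgroup.normalizer (SS : Set G) ⊔ N = ⊤ := Sylow.normalizer_sup_eq_top' S hSN
  have hPg : ∀ g : G, P * ρ g = ρ g * P := by
    intro g
    obtain ⟨m, hm, x, hx, rfl⟩ : ∃ m ∈ Subgroup.normalizer (SS : Set G), ∃ x ∈ N, m * x = g := by
      have hg : g ∈ ((Subgroup.normalizer (SS : Set G) ⊔ N : Subgroup G) : Set G) := by
        rw [htop]; trivial
      rw [Subgroup.coe_mul_of_left_le_normalizer_right, Set.mem_mul] at hg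
      · exact hg
      · exact le_of_le_of_eq le_top (Subgroup.normalizer_eq_top_iff.mpr ‹N.Normal›).symm
    rw [map_mul, MonoidHom.mem_ker.mp hx, mul_one, hP, smul_mul_assoc, mul_smul_comm, Finset.sum_mul,
      Finset.mul_sum]
    congr 1
    refine Fintype.sum_equiv
      { toFun := fun d : D => (⟨m⁻¹ * (d : G) * m, by
          have := hDn m⁻¹ (inv_mem hm) d d.2; rwa [inv_inv] at this⟩ : D)
        invFun := fun d : D => (⟨m * (d : G) * m⁻¹, hDn m hm d d.2⟩ : D)
        left_inv := fun d => Subtype.ext (by group)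
        right_inv := fun d => Subtype.ext (by group) } _ _ fun d => ?_
    show ρ d * ρ m = ρ m * ρ (m⁻¹ * (d : G) * m)
    rw [← map_mul, ← map_mul, ← mul_assoc, ← mul_assoc, mul_inv_cancel, one_mul]
  obtain ⟨c, hc⟩ := Char.schur_scalar ρ P hPg
  have htr : LinearMap.trace ℂ _ P = (Nat.card D : ℂ)⁻¹ * ∑ x ∈ fixedRegular S, (χ : G → ℂ) x := by
    rw [hP, map_smul, map_sum, smul_eq_mul, ← Finset.sum_subtype (fixedRegular S) (fun x => (hD x).symm)
      (fun x => LinearMap.trace ℂ _ (ρ x))]
    exact congrArg _ (Finset.sum_congr rfl fun x _ => congrFun hχρ x)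
  have hDρ : ∀ d : D, ρ d * P = P := fun d => by
    rw [hP, mul_smul_comm, Finset.mul_sum]
    congr 1
    exact Fintype.sum_equiv (Equiv.mulLeft d) _ _ fun x => by rw [← map_mul]; rfl
  have hc0 : c ≠ 0 := fun e => by
    rw [hc, e, zero_smul, map_zero, eq_comm, mul_eq_zero,
      or_iff_right (inv_ne_zero (Nat.cast_ne_zero.mpr Nat.card_pos.ne'))] at htr
    refine hne ?_
    rw [← map_sum, show ∑ x ∈ fixedRegular S, irrLoc M χ x = 0 from Subtype.ext (by simp [htr]),
      map_zero]
  have hDker : ∀ x ∈ fixedRegular S, x ∈ N := fun x hx => by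
    have e := hDρ ⟨x, (hD x).mpr hx⟩
    rw [hc, mul_smul_comm] at e
    exact MonoidHom.mem_ker.mpr (smul_right_injective _ hc0 e)
  have hN' := h.eq_top_of_normal hq hSN hDker
  -- so the character is trivial on everything
  have hd1 : ∀ g, (χ : G → ℂ) g = (χ : G → ℂ) 1 := fun g => (hker g).mp (hN' ▸ Subgroup.mem_top g)
  have := h.eq χ hχ
  rw [hd1 u, sub_self] at this
  exact Nat.cast_ne_zero.mpr Nat.card_pos.ne' this.symm

end Setup

end CfsgLib.Block.ConstDiff
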