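import Cfsg.Agent.Lib.Block.KleinFour
import Cfsg.Agent.Lib.Block.ConstDiff.Base

/-!
# Regular inner products in a principal block of Klein type
-/

set_option autoImplicit false
set_option linter.unusedSectionVars false
set_option linter.style.haveILetI false

open Cfsg
open scoped ComplexConjugate

namespace CfsgLib.Block.ConstDiff

universe u

variable {M : Ideal AlgInt} [M.IsMaximal] {G : Type u} [Group G] [Fintype G] [DecidableEq G]
  [Fintype (IrrCharacter G)]

theorem regInner_klein [DecidableEq (IrrCharacter G)] (hM : IsPModular 2 M) {u : G}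
    (hu : orderOf u = 2) {s : IrrCharacter G → ℤ} (h : KleinData M G u s) {χ ψ : IrrCharacter G}
    (hχ : χ ∈ pb M G) (hψ : ψ ∈ pb M G) :
    regInner 2 χ ψ = (if χ = ψ then 1 else 0) - (1 / 4 : ℂ) * ((s χ : ℂ) * (s ψ : ℂ)) := by
  classical
  set T := Finset.univ.filter (fun x : G => 2 ∣ orderOf x) with hT
  set σ : ℂ := (Nat.card G : ℂ)⁻¹ * (T.card : ℂ) with hσ
  have hreg : ∀ χ ∈ pb M G, ∀ ψ ∈ pb M G,
      regInner 2 χ ψ = (if χ = ψ then 1 else 0) - σ * ((s χ : ℂ) * (s ψ : ℂ)) := by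
    intro χ hχ ψ hψ
    have h1 := Char.classInner_irr χ ψ
    rw [classInner, ← Finset.sum_filter_add_sum_filter_not Finset.univ (fun x : G => 2 ∣ orderOf x),
      ← hT, Finset.sum_congr rfl (g := fun _ => (s χ : ℂ) * (s ψ : ℂ)) fun x hx => ?_,
      Finset.sum_const, nsmul_eq_mul, mul_add, ← mul_assoc, ← hσ] at h1
    swap
    · rw [h.sing χ (mem_pb.mp hχ) x (Finset.mem_filter.mp hx).2,
        h.sing ψ (mem_pb.mp hψ) x (Finset.mem_filter.mp hx).2, map_intCast]
    have h2 : regInner 2 χ ψ = (Nat.card G : ℂ)⁻¹ *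
        ∑ x ∈ Finset.univ.filter (fun x : G => ¬ 2 ∣ orderOf x),
          (χ : G → ℂ) x * conj ((ψ : G → ℂ) x) := by
      rw [Finset.sum_congr rfl fun x _ => by rw [← Char.irr_inv], ← card_mul_regInner, ← mul_assoc,
        inv_mul_cancel₀ (Nat.cast_ne_zero.mpr Nat.card_pos.ne'), one_mul]
    rw [h2, ← h1]
    ring
  have hcard : (pb M G).card = 4 := by
    rw [pb, ← Set.ncard_eq_toFinset_card, ← Nat.card_coe_set_eq]
    exact h.card
  have hsq : ∀ χ ∈ pb M G, ((s χ : ℂ) * (s χ : ℂ)) = 1 := fun χ hχ => by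
    exact_mod_cast h.sq χ (mem_pb.mp hχ)
  have hσ0 : σ ≠ 0 := mul_ne_zero (inv_ne_zero (Nat.cast_ne_zero.mpr Nat.card_pos.ne'))
    (Nat.cast_ne_zero.mpr (Finset.card_ne_zero.mpr ⟨u, by simp [hT, hu]⟩))
  have h1S : oneChar G ∈ pb M G := mem_pb.mpr one_mem_principalBlock
  have hσ4 : 4 * σ = 1 := by
    have h3 := sum_regInner_mul_regInner 2 (oneChar G) (oneChar G)
    rw [← Finset.sum_subset (Finset.subset_univ (pb M G)) fun θ _ hθ => by
      rw [regInner_eq_zero_of_not_mem hM (IsBlockUnion.of_isPBlock isPBlock_principalBlock)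
        (mem_pb.mp h1S) (mt mem_pb.mpr hθ), zero_mul]] at h3
    rw [← Finset.add_sum_erase _ _ h1S,
      Finset.sum_congr rfl (g := fun _ => σ * σ) fun θ hθ => ?_, Finset.sum_const,
      Finset.card_erase_of_mem h1S, hcard, hreg _ h1S _ h1S, if_pos rfl, hsq _ h1S,
      nsmul_eq_mul] at h3
    swap
    · have hθS := (Finset.mem_erase.mp hθ).2
      have hθ1 := (Finset.mem_erase.mp hθ).1
      rw [hreg _ h1S _ hθS, hreg _ hθS _ h1S, if_neg (Ne.symm hθ1), if_neg hθ1]
      linear_combination (σ * σ * ((s θ : ℂ) * (s θ : ℂ))) * hsq _ h1S + (σ * σ) * hsq θ hθS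
    apply mul_left_cancel₀ hσ0
    norm_num at h3
    linear_combination h3
  rw [hreg χ hχ ψ hψ, show σ = 1 / 4 by linear_combination hσ4 / 4]

end CfsgLib.Block.ConstDiff
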