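import Cfsg.Agent.Lib.Block.ConstDiff.Base
import Cfsg.Agent.Lib.Fusion.Transfer
import Cfsg.Agent.Lib.Block.KleinFour

/-!
# The standing setup, and the values at the involution
-/

set_option autoImplicit false
set_option linter.unusedSectionVars false
set_option linter.style.haveILetI false
set_option linter.unusedSimpArgs false

open Cfsg
open scoped ComplexConjugate

namespace CfsgLib.Block.ConstDiff

universe u

variable {M : Ideal AlgInt} [M.IsMaximal] {G : Type u} [Group G] [Fintype G] [DecidableEq G]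
  {u t y : G} {S : Sylow 2 G}

local notation "SS" => ((S : Subgroup G))

/-- The order of `S`, as a complex number. -/
local notation "qC" => ((Nat.card (S : Subgroup G) : ℕ) : ℂ)

/-- The standing setup. -/
structure Setup (M : Ideal AlgInt) (u t y : G) (S : Sylow 2 G) : Prop where
  modular : IsPModular 2 M
  core : oddCore G = ⊥
  eq : ∀ χ ∈ pb' M G, (χ : G → ℂ) 1 - (χ : G → ℂ) u = ((Nat.card (S : Subgroup G) : ℕ) : ℂ)
  split : u = t * y
  comm : Commute t y
  invol : orderOf t = 2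
  regular : ¬ 2 ∣ orderOf y
  ppart : IsPPart 2 u t
  mem : t ∈ S
  fuse : ∀ (v : G) (i : ℕ), v ^ 2 ^ i = 1 → v ≠ 1 → IsConj v t
  odd_deg : Odd (∑ χ ∈ pb' M G, deg χ)

theorem exists_setup {k : ℂ} (h : Hyp M u k) :
    ∃ (t y : G) (S : Sylow 2 G), Setup M u t y S := by
  haveI : Fact (Nat.Prime 2) := ⟨Nat.prime_two⟩
  obtain ⟨t, y, hu, hc, ht, hy, hpp, hfuse⟩ := exists_split h
  have hp : IsPGroup 2 (Subgroup.zpowers t) :=
    IsPGroup.of_card (n := 1) (by rw [Nat.card_zpowers, ht, pow_one])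
  obtain ⟨S, hS⟩ := hp.exists_le_sylow
  refine ⟨t, y, S, h.modular, h.core, fun χ hχ => ?_, hu, hc, ht, hy, hpp,
    hS (Subgroup.mem_zpowers t), hfuse, odd_sum_deg h⟩
  rw [h.eq χ hχ, k_eq h, S.card_eq_multiplicity]

namespace Setup

variable (h : Setup M u t y S)
include h

theorem sq_eq_one {s : G} (hs : s ∈ SS) : s * s = 1 := by
  haveI : Fact (Nat.Prime 2) := ⟨Nat.prime_two⟩
  by_cases h1 : s = 1
  · rw [h1, one_mul]
  obtain ⟨i, hi⟩ := S.isPGroup' ⟨s, hs⟩
  obtain ⟨c, hc⟩ := isConj_iff.mp (h.fuse s i (congrArg Subtype.val hi) h1)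
  have ht : t ^ 2 = 1 := by rw [← h.invol]; exact pow_orderOf_eq_one t
  rw [← hc, ← pow_two] at *
  rw [conj_pow] at ht
  exact conj_eq_one_iff.mp ht

theorem inv_eq {s : G} (hs : s ∈ SS) : s⁻¹ = s := inv_eq_of_mul_eq_one_right (h.sq_eq_one hs)

theorem mul_comm_mem {a b : G} (ha : a ∈ SS) (hb : b ∈ SS) : a * b = b * a := by
  have h1 := h.inv_eq (mul_mem ha hb)
  rw [mul_inv_rev, h.inv_eq ha, h.inv_eq hb] at h1
  exact h1.symm

theorem orderOf_mem {s : G} (hs : s ∈ SS) (hs1 : s ≠ 1) : orderOf s = 2 := by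
  haveI : Fact (Nat.Prime 2) := ⟨Nat.prime_two⟩
  exact orderOf_eq_prime (by rw [pow_two, h.sq_eq_one hs]) hs1

theorem elementary : IsElementaryAbelian 2 SS :=
  ⟨⟨⟨fun a b => Subtype.ext (h.mul_comm_mem a.2 b.2)⟩⟩, fun a ha => by rw [pow_two, h.sq_eq_one ha]⟩

theorem le_centralizer_singleton {s : G} (hs : s ∈ SS) : SS ≤ Subgroup.centralizer {s} := fun _ hx =>
  Subgroup.mem_centralizer_singleton_iff.mpr (h.mul_comm_mem hx hs)

theorem isConj_of_mem {s : G} (hs : s ∈ SS) (hs1 : s ≠ 1) : IsConj s t :=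
  h.fuse s 1 (by rw [pow_one, pow_two, h.sq_eq_one hs]) hs1

theorem exists_normalizer_conj {a b : G} (ha : a ∈ SS) (ha1 : a ≠ 1) (hb : b ∈ SS) (hb1 : b ≠ 1) :
    ∃ n ∈ Subgroup.normalizer (SS : Set G), n * a * n⁻¹ = b := by
  haveI : Fact (Nat.Prime 2) := ⟨Nat.prime_two⟩
  obtain ⟨g, hg⟩ := isConj_iff.mp ((h.isConj_of_mem ha ha1).trans (h.isConj_of_mem hb hb1).symm)
  obtain ⟨n, hn, e⟩ := Fusion.exists_normalizer_conj_eq_of_central S
    (h.le_centralizer_singleton ha) g (by rw [hg]; exact h.le_centralizer_singleton hb)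
  exact ⟨n, hn, e.trans hg⟩

theorem t_ne_one : t ≠ 1 := fun e => by have := h.invol; rw [e, orderOf_one] at this; norm_num at this

theorem two_dvd_card_S : 2 ∣ Nat.card SS := by
  have := Subgroup.orderOf_dvd_natCard (s := SS) h.mem
  rwa [h.invol] at this

theorem two_le : 2 ≤ Nat.card SS := Nat.le_of_dvd Nat.card_pos h.two_dvd_card_S

theorem two_dvd_u : 2 ∣ orderOf u := by
  rw [h.split, h.comm.orderOf_mul_eq_mul_orderOf_of_coprime (by
    rw [h.invol]; exact Nat.prime_two.coprime_iff_not_dvd.mpr h.regular), h.invol]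
  exact dvd_mul_right 2 _

theorem isPPart_t : IsPPart 2 t t :=
  ⟨1, mul_one t, Commute.one_right t, ⟨1, by rw [h.invol, pow_one]⟩, by simp⟩

/-- The defining identity against the values at `g`. -/
theorem key' (g : G) :
    qC * ∑ χ ∈ pb' M G, (χ : G → ℂ) g =
      (∑ χ ∈ pb M G, (χ : G → ℂ) g * conj ((χ : G → ℂ) 1)) -
        ∑ χ ∈ pb M G, (χ : G → ℂ) g * conj ((χ : G → ℂ) u) := by
  rw [← Finset.sum_sub_distrib, sum_pb, oneChar_apply, oneChar_apply, oneChar_apply, sub_self,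
    zero_add, Finset.mul_sum]
  refine Finset.sum_congr rfl fun χ hχ => ?_
  have he := congrArg conj (h.eq χ hχ)
  rw [map_sub, map_natCast] at he
  rw [← he]
  ring

/-- `Σ' χ(1) (q - χ(1)) = 1`. -/
theorem sum_deg : ∑ χ ∈ pb' M G, (deg χ : ℤ) * ((Nat.card SS : ℤ) - deg χ) = 1 := by
  have h1 := h.key' 1
  rw [sum_reg_sing h.modular (by simp) h.two_dvd_u, sub_zero, sum_pb] at h1
  simp only [apply_one, map_natCast, deg_oneChar, Nat.cast_one, one_mul, map_one] at h1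
  have h2 : ((Nat.card SS : ℤ) : ℂ) * ∑ χ ∈ pb' M G, ((deg χ : ℤ) : ℂ) =
      1 + ∑ χ ∈ pb' M G, ((deg χ : ℤ) : ℂ) * ((deg χ : ℤ) : ℂ) := by exact_mod_cast h1
  have h3 : (Nat.card SS : ℤ) * ∑ χ ∈ pb' M G, (deg χ : ℤ) =
      1 + ∑ χ ∈ pb' M G, (deg χ : ℤ) * deg χ := by exact_mod_cast h2
  simp only [mul_sub, Finset.sum_sub_distrib, ← Finset.sum_mul]
  linarith [h3]

theorem nonempty : (pb' M G).Nonempty := by
  by_contra he
  rw [Finset.not_nonempty_iff_eq_empty] at he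
  have := h.odd_deg
  rw [he, Finset.sum_empty] at this
  simp at this

/-- The value at `t` as an integer. -/
theorem exists_val_t (χ : IrrCharacter G) : ∃ z : ℤ, (χ : G → ℂ) t = (z : ℂ) ∧ z ≤ deg χ := by
  have ht : t ^ 2 = 1 := by rw [← h.invol]; exact pow_orderOf_eq_one t
  obtain ⟨z, hz, -⟩ := exists_int_at_involution χ ht
  refine ⟨z, hz, ?_⟩
  obtain ⟨n, ρ, hρ, hχ⟩ := χ.2
  have h1 := Char.norm_char_le ρ t
  have h2 : ((Module.finrank ℂ (Fin n → ℂ) : ℕ) : ℂ) = (deg χ : ℂ) := by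
    rw [← apply_one, ← Representation.char_one ρ]
    exact congrFun hχ 1
  rw [← show (χ : G → ℂ) t = ρ.character t from (congrFun hχ t).symm, hz, Complex.norm_intCast] at h1
  have h3 : Module.finrank ℂ (Fin n → ℂ) = deg χ := Nat.cast_injective h2
  have h4 : (z : ℝ) ≤ (deg χ : ℝ) := by
    rw [← h3]; exact (le_abs_self _).trans h1
  exact_mod_cast h4

end Setup

end CfsgLib.Block.ConstDiff
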