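import Cfsg.Agent.Lib.Block.ConstDiff.Base
import Cfsg.Agent.Lib.Block.PrincipalResidual
import Cfsg.Agent.Lib.Block.DefectCentral

/-!
# A central involution outside a subgroup of index 2
-/

set_option autoImplicit false
set_option linter.unusedSectionVars false
set_option linter.style.haveILetI false
set_option linter.unusedSimpArgs false

open Cfsg
open scoped ComplexConjugate

namespace CfsgLib.Block.ConstDiff

universe u

variable {K : Type u} [Group K] [Fintype K] [DecidableEq K] {t : K} {lam : K →* ℤˣ}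

/-- A central involution detected by a sign character. -/
structure Split (t : K) (lam : K →* ℤˣ) : Prop where
  sq : t * t = 1
  central : ∀ x : K, Commute t x
  sign : lam t = -1

namespace Split

variable (h : Split t lam)
include h

theorem regular_mem {x : K} (hx : ¬ 2 ∣ orderOf x) : x ∈ lam.ker := by
  obtain ⟨m, hm⟩ := Nat.odd_iff.mpr (Nat.two_dvd_ne_zero.mp hx)
  have h2 : (x ^ 2) ^ (m + 1) = x := by
    rw [← pow_mul, show 2 * (m + 1) = (2 * m + 1) + 1 by ring, pow_succ, ← hm, pow_orderOf_eq_one, one_mul]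
  rw [MonoidHom.mem_ker, ← h2, map_pow, map_pow, pow_two, Int.units_mul_self, one_pow]

theorem t_mul_mem {x : K} (hx : lam x ≠ 1) : t * x ∈ lam.ker := by
  rw [MonoidHom.mem_ker, map_mul, h.sign]
  rcases Int.units_eq_one_or (lam x) with e | e
  · exact absurd e hx
  · rw [e]; rfl

/-- The projection on the kernel. -/
theorem exists_proj : ∃ π : K →* lam.ker, (∀ x : lam.ker, π (x : K) = x) ∧ π t = 1 := by
  classical
  let f : K → lam.ker := fun x =>
    if hx : lam x = 1 then ⟨x, hx⟩ else ⟨t * x, h.t_mul_mem hx⟩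
  have hval : ∀ x, (f x : K) = if lam x = 1 then x else t * x := fun x => by
    simp only [f]; split_ifs <;> rfl
  have hne : lam t ≠ 1 := by rw [h.sign]; decide
  refine ⟨MonoidHom.mk' f fun x z => Subtype.ext ?_, fun x => Subtype.ext ?_, Subtype.ext ?_⟩
  · rw [Subgroup.coe_mul, hval, hval, hval, map_mul]
    rcases Int.units_eq_one_or (lam x) with ex | ex <;> rcases Int.units_eq_one_or (lam z) with ez | ez <;>
      simp only [ex, ez, one_mul, mul_one, Int.units_mul_self, neg_mul_neg, if_true,
        if_neg (show (-1 : ℤˣ) ≠ 1 by decide)]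
    · rw [← mul_assoc x t z, ← (h.central x).eq, mul_assoc]
    · rw [mul_assoc]
    · rw [mul_assoc t x, ← mul_assoc x t z, ← (h.central x).eq, mul_assoc t x z, ← mul_assoc t t,
        h.sq, one_mul]
  · show (f x : K) = x
    rw [hval, if_pos (MonoidHom.mem_ker.mp x.2)]
  · show (f t : K) = _
    rw [hval, if_neg hne, h.sq]
    rfl

theorem sum_split [Fintype lam.ker] (f : K → ℂ) :
    ∑ x : K, f x = (∑ x : lam.ker, f x) + ∑ x : lam.ker, f (t * (x : K)) := by
  classical
  rw [← Finset.sum_filter_add_sum_filter_not Finset.univ (fun x : K => lam x = 1)]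
  congr 1
  · exact Finset.sum_subtype (p := fun x => x ∈ lam.ker) _ (fun x => by simp) f
  · refine Finset.sum_bij' (fun x hx => (⟨t * x, h.t_mul_mem (Finset.mem_filter.mp hx).2⟩ : lam.ker))
      (fun x _ => t * (x : K)) (fun _ _ => Finset.mem_univ _) (fun x _ => ?_) (fun x _ => ?_)
      (fun x _ => ?_) (fun x _ => ?_)
    · refine Finset.mem_filter.mpr ⟨Finset.mem_univ _, ?_⟩
      rw [map_mul, h.sign, MonoidHom.mem_ker.mp x.2]; decide
    · simp [← mul_assoc, h.sq]
    · exact Subtype.ext (by simp [← mul_assoc, h.sq])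
    · simp [← mul_assoc, h.sq]

theorem card_eq [Fintype lam.ker] : Nat.card K = 2 * Nat.card lam.ker := by
  have e := h.sum_split (fun _ => (1 : ℂ))
  simp only [Finset.sum_const, Finset.card_univ, nsmul_eq_mul, mul_one] at e
  rw [Nat.card_eq_fintype_card, Nat.card_eq_fintype_card, two_mul]
  exact_mod_cast e

theorem apply_t_mul (θ : IrrCharacter K) :
    ∃ c : ℂ, (c = 1 ∨ c = -1) ∧ ∀ x, (θ : K → ℂ) (t * x) = c * (θ : K → ℂ) x := by
  obtain ⟨c, hc1, hcm, hc⟩ := exists_central_char θ
  have ht : t ∈ Subgroup.center K := Subgroup.mem_center_iff.mpr fun g => (h.central g).eq.symm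
  refine ⟨c t, ?_, fun x => hc t x ht⟩
  have h2 := hcm t t ht ht
  rw [h.sq, hc1] at h2
  exact mul_self_eq_one_iff.mp h2.symm

/-- The restriction of an irreducible character to the kernel is irreducible. -/
theorem res_irr [Fintype lam.ker] (θ : IrrCharacter K) :
    IsIrrCharacter lam.ker (fun x : lam.ker => (θ : K → ℂ) x) := by
  refine Char.isIrr_of_isCharacter_norm_one
    (Char.isCharacter_comp (Char.isCharacter_irr θ) lam.ker.subtype) ?_
  have hθ := Char.classInner_irr_self θ
  obtain ⟨c, hc, hcx⟩ := h.apply_t_mul θ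
  rw [classInner, h.card_eq, h.sum_split] at hθ
  have e : ∑ x : lam.ker, (θ : K → ℂ) (t * (x : K)) * conj ((θ : K → ℂ) (t * (x : K))) =
      ∑ x : lam.ker, (θ : K → ℂ) x * conj ((θ : K → ℂ) x) := Finset.sum_congr rfl fun x _ => by
    rcases hc with e | e <;> simp [hcx, e]
  rw [e] at hθ
  rw [classInner]
  push_cast at hθ
  rw [← hθ]
  ring

/-- Twisted inflation from the kernel. -/
theorem exists_ext [Fintype lam.ker] (η : IrrCharacter lam.ker) (b : Bool) :
    ∃ θ : IrrCharacter K, (∀ x : lam.ker, (θ : K → ℂ) x = (η : lam.ker → ℂ) x) ∧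
      ∀ x : K, (θ : K → ℂ) (t * x) = (if b then 1 else -1) * (θ : K → ℂ) x := by
  classical
  obtain ⟨π, hπ, hπt⟩ := h.exists_proj
  let sgn : K →* ℂˣ := if b then 1 else (Units.map (Int.castRingHom ℂ).toMonoidHom).comp lam
  have hs1 : ∀ x : lam.ker, (sgn x : ℂ) = 1 := fun x => by
    simp only [sgn]
    cases b <;> simp [MonoidHom.mem_ker.mp x.2]
  have hst : (sgn t : ℂ) = if b then 1 else -1 := by
    simp only [sgn]
    cases b <;> simp [h.sign]
  set f : K → ℂ := fun x => (sgn x : ℂ) * (η : lam.ker → ℂ) (π x) with hf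
  have hft : ∀ x, f (t * x) = (if b then 1 else -1) * f x := fun x => by
    simp only [hf, map_mul, hπt, one_mul, Units.val_mul, hst, mul_assoc]
  have hfx : ∀ x : lam.ker, f x = (η : lam.ker → ℂ) x := fun x => by
    simp only [hf, hs1, hπ, one_mul]
  have hirr : IsIrrCharacter K f := by
    refine Char.isIrr_of_isCharacter_norm_one (Char.isCharacter_mul
      (Char.isCharacter_irr ⟨_, Char.isIrrCharacter_lin sgn⟩)
      (Char.isCharacter_comp (Char.isCharacter_irr η) π)) ?_
    have hη := Char.classInner_irr_self η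
    rw [classInner] at hη ⊢
    rw [h.card_eq, h.sum_split]
    have e : ∑ x : lam.ker, f (t * (x : K)) * conj (f (t * (x : K))) =
        ∑ x : lam.ker, (η : lam.ker → ℂ) x * conj ((η : lam.ker → ℂ) x) :=
      Finset.sum_congr rfl fun x _ => by cases b <;> simp [hft, hfx]
    rw [e, Finset.sum_congr rfl fun x _ => by rw [hfx x]]
    push_cast
    rw [← hη]
    ring
  exact ⟨⟨f, hirr⟩, hfx, hft⟩

variable {M : Ideal AlgInt} [M.IsMaximal]

theorem mem_iff [Fintype lam.ker] (hM : IsPModular 2 M) {θ : IrrCharacter K}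
    {η : IrrCharacter lam.ker} (hη : ∀ x : lam.ker, (θ : K → ℂ) x = (η : lam.ker → ℂ) x) :
    θ ∈ principalBlock M K ↔ η ∈ principalBlock M lam.ker := by
  classical
  haveI := Fintype.ofFinite (IrrCharacter K)
  haveI := Fintype.ofFinite (IrrCharacter lam.ker)
  refine mem_principalBlock_iff_constituent hM lam.ker (fun g hg => h.regular_mem hg) ?_
  rw [show (fun n : lam.ker => (θ : K → ℂ) n) = (η : lam.ker → ℂ) from funext hη,
    Char.classInner_irr_self]
  exact one_ne_zero

/-- The principal blocks of the group and of the kernel, on the kernel. -/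
theorem sum_pb_eq [Fintype lam.ker] (hM : IsPModular 2 M) (x z : lam.ker) :
    ∑ θ ∈ pb M K, (θ : K → ℂ) x * conj ((θ : K → ℂ) z) =
      2 * ∑ η ∈ pb M lam.ker, (η : lam.ker → ℂ) x * conj ((η : lam.ker → ℂ) z) := by
  classical
  choose ext hext hextt using fun p : IrrCharacter lam.ker × Bool => h.exists_ext p.1 p.2
  have hinj : Function.Injective ext := by
    rintro ⟨η, b⟩ ⟨η', b'⟩ e
    have h1 : η = η' := Subtype.ext (funext fun w => by rw [← hext (η, b), e, hext (η', b')])
    subst h1
    have h2 := hextt (η, b) 1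
    rw [e, hextt (η, b')] at h2
    have h3 : (ext (η, b') : K → ℂ) 1 ≠ 0 := Char.irr_one_ne_zero _
    have h4 := mul_right_cancel₀ h3 h2
    refine Prod.ext rfl ?_
    clear e h2 h3
    cases b <;> cases b' <;> first | rfl | (exfalso; norm_num at h4)
  rw [show pb M K = ((pb M lam.ker) ×ˢ (Finset.univ : Finset Bool)).image ext from ?_,
    Finset.sum_image (fun a _ b _ e => hinj e), Finset.sum_product, Finset.mul_sum]
  · refine Finset.sum_congr rfl fun η _ => ?_
    simp [hext, two_mul]
  ext θ
  constructor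
  · intro hθ
    obtain ⟨c, hc, hcx⟩ := h.apply_t_mul θ
    set η : IrrCharacter lam.ker := ⟨_, h.res_irr θ⟩
    have hη : η ∈ pb M lam.ker := mem_pb.mpr ((h.mem_iff hM (η := η) fun _ => rfl).mp (mem_pb.mp hθ))
    refine Finset.mem_image.mpr ⟨(η, decide (c = 1)), Finset.mem_product.mpr ⟨hη, Finset.mem_univ _⟩, ?_⟩
    refine Subtype.ext (funext fun w => ?_)
    by_cases hw : w ∈ lam.ker
    · exact hext _ ⟨w, hw⟩
    · have e : w = t * (⟨t * w, h.t_mul_mem fun e => hw e⟩ : lam.ker) := by
        simp [← mul_assoc, h.sq]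
      have hc' : (if decide (c = 1) = true then (1 : ℂ) else -1) = c := by
        rcases hc with ec | ec
        · simp [ec]
        · rw [ec]; norm_num
      rw [e, hextt, hext]
      show _ * (θ : K → ℂ) _ = _
      rw [hc', ← hcx]
  · intro hθ
    obtain ⟨⟨η, b⟩, hp, rfl⟩ := Finset.mem_image.mp hθ
    exact mem_pb.mpr ((h.mem_iff hM (η := η) (hext (η, b))).mpr
      (mem_pb.mp (Finset.mem_product.mp hp).1))

end Split

end CfsgLib.Block.ConstDiff
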