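import Cfsg.Agent.Lib.Block.ConstDiff.GoodStep
import Cfsg.Agent.Lib.Block.ConstDiff.Split
import Cfsg.Agent.Lib.Block.ConstDiff.KleinBlock
import Mathlib.GroupTheory.Transfer

/-!
# Order 8: the centralizer of `t` acts trivially on `S`

Otherwise `C(t) = ⟨t⟩ × K₁`, `K₁` with a four-group Sylow subgroup and one class of involutions; at
most eight characters of the block are nonzero at `t`, and the arithmetic leaves four linear
characters in the principal block of `K₁`.
-/

set_option autoImplicit false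
set_option linter.unusedSectionVars false
set_option linter.style.haveILetI false
set_option linter.unusedSimpArgs false

open Cfsg
open scoped ComplexConjugate
open Subgroup (mem_centralizer_singleton_iff mem_centralizer_iff mem_normalizer_iff)

namespace CfsgLib.Block.ConstDiff

universe u

variable {G : Type u} [Group G] [Fintype G] [DecidableEq G] {M : Ideal AlgInt} [M.IsMaximal]
  {u t y : G} {S : Sylow 2 G}

local notation "SS" => ((S : Subgroup G))
local notation "NS" => Subgroup.normalizer (((S : Subgroup G)) : Set G)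

/-- `4 Σ e² - (Σ s e)²` is at least 3 when it is not 0. -/
theorem quad_bound {ι : Type*} (b : Finset ι) (hb : b.card = 4) (s e : ι → ℤ)
    (hs : ∀ i ∈ b, s i * s i = 1) :
    4 * ∑ i ∈ b, e i * e i - (∑ i ∈ b, s i * e i) ^ 2 = 0 ∨
      3 ≤ 4 * ∑ i ∈ b, e i * e i - (∑ i ∈ b, s i * e i) ^ 2 := by
  set E := ∑ i ∈ b, s i * e i
  have h0 : E ^ 2 ≤ 4 * ∑ i ∈ b, e i * e i := by
    have h := sq_sum_le_card_mul_sum_sq (s := b) (f := fun i => s i * e i)
    rw [hb] at h
    refine le_trans h ?_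
    push_cast
    refine le_of_eq ?_
    congr 1
    refine Finset.sum_congr rfl fun i hi => ?_
    calc (s i * e i) ^ 2 = (s i * s i) * (e i * e i) := by ring
      _ = e i * e i := by rw [hs i hi, one_mul]
  rcases Int.even_or_odd E with ⟨m, hm⟩ | ⟨m, hm⟩
  · rw [hm, show (m + m) ^ 2 = 4 * (m * m) by ring] at h0 ⊢
    omega
  · rw [hm, show (2 * m + 1) ^ 2 = 4 * (m * m + m) + 1 by ring] at h0 ⊢
    omega

namespace Setup

variable (h : Setup M u t y S)
include h

/-- A nontrivial automorphism fixing `t` fixes nothing else, and moves the cosets of `⟨t⟩`. -/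
theorem small_moves (hq : Nat.card SS = 2 ^ 3) {g : G} (hgN : g ∈ NS)
    (hgt : g ∈ Subgroup.centralizer ({t} : Set G)) (hgS : g ∉ Subgroup.centralizer (SS : Set G))
    {a : G} (ha : a ∈ SS) (ha1 : a ≠ 1) (hat : a ≠ t) :
    g * a * g⁻¹ ≠ a ∧ g * a * g⁻¹ ≠ a * t := by
  classical
  obtain ⟨-, hcube⟩ := h.automizer_data hq h.mem h.t_ne_one
  -- an element normalising `S`, fixing `t` and `a`, centralises `S`
  have key : ∀ x ∈ NS, x ∈ Subgroup.centralizer ({t} : Set G) → x * a * x⁻¹ = a →
      x ∈ Subgroup.centralizer (SS : Set G) := by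
    intro x hxN hxt hxa
    by_contra hxS
    have h1 := hcube x hxN hxt hxS
    rw [hq] at h1
    have h3 : 2 < Nat.card ↥(SS ⊓ Subgroup.centralizer ({x} : Set G)) := by
      rw [Nat.card_eq_fintype_card, Fintype.two_lt_card_iff]
      refine ⟨1, ⟨t, h.mem, ?_⟩, ⟨a, ha, ?_⟩, ?_, ?_, ?_⟩
      · exact mem_centralizer_singleton_iff.mpr (mem_centralizer_singleton_iff.mp hxt).symm
      · exact mem_centralizer_singleton_iff.mpr (mul_inv_eq_iff_eq_mul.mp hxa).symm
      · exact fun e => h.t_ne_one (congrArg Subtype.val e).symm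
      · exact fun e => ha1 (congrArg Subtype.val e).symm
      · exact fun e => hat (congrArg Subtype.val e).symm
    have h4 : 3 ^ 3 ≤ Nat.card ↥(SS ⊓ Subgroup.centralizer ({x} : Set G)) ^ 3 :=
      Nat.pow_le_pow_left h3 3
    omega
  refine ⟨fun e => hgS (key g hgN hgt e), fun e => hgS ?_⟩
  -- then `g²` fixes `a`
  have hgt' : g * t * g⁻¹ = t := mul_inv_eq_iff_eq_mul.mpr (mem_centralizer_singleton_iff.mp hgt)
  have e2 : (g * g) * a * (g * g)⁻¹ = a := by
    calc (g * g) * a * (g * g)⁻¹ = g * (g * a * g⁻¹) * g⁻¹ := by group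
      _ = (g * a * g⁻¹) * (g * t * g⁻¹) := by
        conv_lhs => rw [e]
        group
      _ = a * t * t := by rw [e, hgt']
      _ = a := by rw [mul_assoc, h.sq_eq_one h.mem, mul_one]
  have hg2 := key (g * g) (mul_mem hgN hgN) (mul_mem hgt hgt) e2
  -- `g` is a power of `g²` times a 2-element, which lies in `S`
  obtain ⟨m, hm⟩ := Nat.odd_iff.mpr (Nat.two_dvd_ne_zero.mp (h.odd_orderOf_sq g))
  set w := g ^ orderOf (g * g) with hw
  have hw2 : w * w = 1 := by
    rw [hw, ← pow_add, ← two_mul, pow_mul, pow_two, pow_orderOf_eq_one]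
  have hwS : w ∈ SS := by
    haveI : Fact (Nat.Prime 2) := ⟨Nat.prime_two⟩
    have hp : IsPGroup 2 (Subgroup.zpowers w) := fun x => ⟨1, by
      obtain ⟨x, i, rfl⟩ := x
      refine Subtype.ext ?_
      show (w ^ i) ^ (2 ^ 1) = 1
      rw [pow_one, pow_two, ← zpow_add, show i + i = 2 * i by ring, zpow_mul,
        show (2 : ℤ) = ((2 : ℕ) : ℤ) from rfl, zpow_natCast, pow_two, hw2, one_zpow]⟩
    have hsup := hp.to_sup_of_normal_right' S.isPGroup'
      (Subgroup.zpowers_le.mpr (pow_mem hgN _))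
    exact (S.is_maximal' hsup le_sup_right).le (Subgroup.mem_sup_left (Subgroup.mem_zpowers w))
  have e3 : g = ((g * g) ^ m)⁻¹ * w := by
    rw [hw, eq_inv_mul_iff_mul_eq, ← pow_two, ← pow_mul, ← pow_succ, pow_two g, hm]
  rw [e3]
  exact mul_mem (inv_mem (pow_mem hg2 m))
    (mem_centralizer_iff.mpr fun b hb => h.mul_comm_mem hb hwS)

/-- For `q = 8` the centralizer of `t` induces nothing on `S`. -/
theorem small (hq : Nat.card SS = 2 ^ 3) :
    Subgroup.centralizer ({t} : Set G) ⊓ NS ≤ Subgroup.centralizer (SS : Set G) := by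
  classical
  by_contra hne
  obtain ⟨g, ⟨hgt, hgN⟩, hgS⟩ := SetLike.not_le_iff_exists.mp hne
  haveI : Fact (Nat.Prime 2) := ⟨Nat.prime_two⟩
  have hM := h.modular
  have hq4 : 4 ≤ Nat.card SS := by rw [hq]; norm_num
  set K := Subgroup.centralizer ({t} : Set G) with hK
  haveI := Fintype.ofFinite K
  have hSK : SS ≤ K := h.le_centralizer_singleton h.mem
  have hTS : Subgroup.zpowers t ≤ SS := Subgroup.zpowers_le.mpr h.mem
  have hzt : ∀ x ∈ Subgroup.zpowers t, x = 1 ∨ x = t := by
    rintro x ⟨i, rfl⟩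
    rcases Int.even_or_odd i with ⟨j, hj⟩ | ⟨j, hj⟩
    · left
      subst hj
      show t ^ (j + j) = 1
      rw [← two_mul, zpow_mul, show (2 : ℤ) = ((2 : ℕ) : ℤ) from rfl, zpow_natCast, pow_two,
        h.sq_eq_one h.mem, one_zpow]
    · right
      subst hj
      show t ^ (2 * j + 1) = t
      rw [zpow_add_one, zpow_mul, show (2 : ℤ) = ((2 : ℕ) : ℤ) from rfl, zpow_natCast, pow_two,
        h.sq_eq_one h.mem, one_zpow, one_mul]
  obtain ⟨B, hBS, hBcard, hBdis, hBspan⟩ := h.exists_complementA hTS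
  -- the sign character
  have hflip : ∀ s ∈ SS, s ∉ B → t * s ∈ B := by
    intro s hs hsB
    obtain ⟨b, hb, α, hα, rfl⟩ := hBspan s hs
    rcases hzt α hα with rfl | rfl
    · exact absurd (by rwa [mul_one]) hsB
    · rwa [h.mul_comm_mem (hBS hb) h.mem, ← mul_assoc, h.sq_eq_one h.mem, one_mul]
  have htB : t ∉ B := fun e => h.t_ne_one (hBdis t e (Subgroup.mem_zpowers t))
  have htmul : ∀ b ∈ B, t * b ∉ B := fun b hb e => htB (by
    simpa using mul_mem e (inv_mem hb))
  let SK := (SS).subgroupOf K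
  let φ : SK →* ℤˣ := MonoidHom.mk' (fun x => if ((x : K) : G) ∈ B then 1 else -1) (by
    rintro ⟨⟨a, haK⟩, ha⟩ ⟨⟨b, hbK⟩, hb⟩
    replace ha : a ∈ SS := ha
    replace hb : b ∈ SS := hb
    show (if a * b ∈ B then (1 : ℤˣ) else -1) =
      (if a ∈ B then 1 else -1) * (if b ∈ B then 1 else -1)
    by_cases ha' : a ∈ B <;> by_cases hb' : b ∈ B
    · rw [if_pos (mul_mem ha' hb'), if_pos ha', if_pos hb', one_mul]
    · rw [if_neg (fun e => hb' (by simpa using mul_mem (inv_mem ha') e)), if_pos ha', if_neg hb',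
        one_mul]
    · rw [if_neg (fun e => ha' (by simpa using mul_mem e (inv_mem hb'))), if_neg ha', if_pos hb',
        mul_one]
    · have e : a * b = (t * a) * (t * b) := by
        rw [h.mul_comm_mem h.mem ha, mul_assoc a t, ← mul_assoc t t b, h.sq_eq_one h.mem, one_mul]
      rw [e, if_pos (mul_mem (hflip a ha ha') (hflip b hb hb')), if_neg ha', if_neg hb',
        Int.units_mul_self])
  set tK : K := ⟨t, hSK h.mem⟩
  have hcen : ∀ x : K, Commute tK x := fun x =>
    Subtype.ext (mem_centralizer_singleton_iff.mp x.2).symm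
  have hlam : MonoidHom.transfer φ tK = -1 := by
    rw [MonoidHom.transfer_eq_pow φ tK fun k g₀ _ => by
      rw [mul_assoc, ((hcen g₀).pow_left k).eq, inv_mul_cancel_left]]
    have hodd : Odd SK.index := by
      rw [Nat.odd_iff, ← Nat.two_dvd_ne_zero]
      exact fun h2 => S.not_dvd_index (h2.trans (Subgroup.relIndex_dvd_index_of_le hSK))
    obtain ⟨m, hm⟩ := hodd
    have e : tK ^ SK.index = tK := by
      rw [hm, pow_succ, pow_mul, show tK ^ 2 = 1 from Subtype.ext (by
        show t ^ 2 = 1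
        rw [pow_two, h.sq_eq_one h.mem]), one_pow, one_mul]
    show (if ((tK ^ SK.index : K) : G) ∈ B then (1 : ℤˣ) else -1) = -1
    rw [e, if_neg htB]
  set lam := MonoidHom.transfer φ with hlamdef
  have hsplit : Split tK lam := ⟨Subtype.ext (h.sq_eq_one h.mem), hcen, hlam⟩
  haveI := Fintype.ofFinite lam.ker
  haveI := Fintype.ofFinite (IrrCharacter lam.ker)
  -- Sylow subgroup of the kernel
  obtain ⟨P⟩ : Nonempty (Sylow 2 lam.ker) := inferInstance
  have hP : Nat.card P = 4 := by
    have h1 : (Nat.card K).factorization 2 = 3 := by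
      have h2 := (S.subtype hSK).card_eq_multiplicity
      rw [Sylow.coe_subtype, Nat.card_congr (Subgroup.subgroupOfEquivOfLe hSK).toEquiv, hq] at h2
      exact (Nat.pow_right_injective le_rfl h2).symm
    rw [P.card_eq_multiplicity]
    rw [hsplit.card_eq, Nat.factorization_mul two_ne_zero Nat.card_pos.ne', Finsupp.add_apply,
      Nat.Prime.factorization_self Nat.prime_two] at h1
    rw [show (Nat.card lam.ker).factorization 2 = 2 by omega]
    norm_num
  have hexp : ∀ v ∈ (P : Subgroup lam.ker), v * v = 1 := by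
    intro v hv
    obtain ⟨i, hi⟩ := P.isPGroup' ⟨v, hv⟩
    have hi' : ((v : K) : G) ^ 2 ^ i = 1 :=
      congrArg (fun z : (P : Subgroup lam.ker) => (((z : lam.ker) : K) : G)) hi
    refine Subtype.ext (Subtype.ext ?_)
    show ((v : K) : G) * ((v : K) : G) = 1
    by_cases h1 : ((v : K) : G) = 1
    · rw [h1, one_mul]
    obtain ⟨c, hc⟩ := isConj_iff.mp (h.fuse _ i hi' h1)
    have ht := h.sq_eq_one h.mem
    rw [← hc, show c * ((v : K) : G) * c⁻¹ * (c * ((v : K) : G) * c⁻¹) =
      c * (((v : K) : G) * ((v : K) : G)) * c⁻¹ by group] at ht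
    exact conj_eq_one_iff.mp ht
  -- one class of involutions
  have hone : ∀ a b : lam.ker, orderOf a = 2 → orderOf b = 2 → IsConj a b := by
    have htop : ∀ x : K, ∃ k : lam.ker, (x = (k : K) ∨ x = tK * (k : K)) := by
      intro x
      by_cases hx : lam x = 1
      · exact ⟨⟨x, hx⟩, .inl rfl⟩
      · exact ⟨⟨tK * x, hsplit.t_mul_mem hx⟩, .inr (by
          show x = tK * (tK * x)
          rw [← mul_assoc, hsplit.sq, one_mul])⟩
    -- move into `S`
    have hmove : ∀ a : lam.ker, orderOf a = 2 → ∃ s : lam.ker, IsConj a s ∧ ((s : K) : G) ∈ SS ∧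
        orderOf s = 2 := by
      intro a ha
      have hp : IsPGroup 2 (Subgroup.zpowers (a : K)) := IsPGroup.of_card (n := 1) (by
        rw [Nat.card_zpowers, Subgroup.orderOf_coe, ha, pow_one])
      obtain ⟨Q, hQ⟩ := hp.exists_le_sylow
      obtain ⟨c, hc⟩ := MulAction.exists_smul_eq K Q (S.subtype hSK)
      have h1 : c * (a : K) * c⁻¹ ∈ (S.subtype hSK : Subgroup K) := by
        rw [← hc, Sylow.coe_subgroup_smul]
        exact ⟨(a : K), hQ (Subgroup.mem_zpowers _), rfl⟩
      rw [Sylow.coe_subtype, Subgroup.mem_subgroupOf] at h1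
      obtain ⟨k, hk⟩ := htop c
      have e : c * (a : K) * c⁻¹ = (k : K) * a * (k : K)⁻¹ := by
        rcases hk with rfl | rfl
        · rfl
        · rw [(hcen (k : K)).eq, mul_inv_rev, show (k : K) * tK * a * (tK⁻¹ * (k : K)⁻¹) =
            (k : K) * (tK * a) * tK⁻¹ * (k : K)⁻¹ by group, (hcen (a : K)).eq]
          group
      refine ⟨k * a * k⁻¹, isConj_iff.mpr ⟨k, rfl⟩, by rw [e] at h1; exact h1, ?_⟩
      exact (orderOf_injective (MulAut.conj k).toMonoidHom (MulAut.conj k).injective a).trans ha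
    intro a b ha hb
    obtain ⟨a', hca, ha'S, ha'⟩ := hmove a ha
    obtain ⟨b', hcb, hb'S, hb'⟩ := hmove b hb
    refine hca.trans (IsConj.trans ?_ hcb.symm)
    have hne : ∀ x : lam.ker, orderOf x = 2 → ((x : K) : G) ≠ 1 ∧ ((x : K) : G) ≠ t := by
      intro x hx
      refine ⟨fun e => ?_, fun e => ?_⟩
      · rw [show x = 1 from Subtype.ext (Subtype.ext e), orderOf_one] at hx; norm_num at hx
      · have : lam tK = 1 := by
          rw [show tK = (x : K) from Subtype.ext e.symm]; exact x.2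
        rw [hlam] at this; exact absurd this (by decide)
    obtain ⟨ha1, hat⟩ := hne a' ha'
    obtain ⟨hb1, hbt⟩ := hne b' hb'
    -- the orbit of `a'` under `g` meets every coset
    set gK : K := ⟨g, hgt⟩ with hgK
    have hgfix : g * t * g⁻¹ = t := mul_inv_eq_iff_eq_mul.mpr (mem_centralizer_singleton_iff.mp hgt)
    have hgS' : ∀ {z : G}, z ∈ SS → g * z * g⁻¹ ∈ SS := fun hz => (mem_normalizer_iff.mp hgN _).mp hz
    set a0 : G := ((a' : K) : G) with ha0
    set a1 : G := g * a0 * g⁻¹ with ha1'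
    obtain ⟨m1, m2⟩ : a1 ≠ a0 ∧ a1 ≠ a0 * t := h.small_moves hq hgN hgt hgS ha'S ha1 hat
    have ha11 : a1 ≠ 1 := fun e => ha1 (conj_eq_one_iff.mp e)
    have ha1t : a1 ≠ t := fun e => hat (by
      have := congrArg (fun z => g⁻¹ * z * g) (e.trans hgfix.symm)
      simpa [ha1', mul_assoc] using this)
    set a2 : G := g * a1 * g⁻¹ with ha2'
    obtain ⟨m3, m4⟩ : a2 ≠ a1 ∧ a2 ≠ a1 * t :=
      h.small_moves hq hgN hgt hgS (hgS' ha'S) ha11 ha1t
    have ha21 : a2 ≠ 1 := fun e => ha11 (conj_eq_one_iff.mp e)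
    have ha2t : a2 ≠ t := fun e => ha1t (by
      have := congrArg (fun z => g⁻¹ * z * g) (e.trans hgfix.symm)
      simpa [ha2', mul_assoc] using this)
    have hgg : g * g ∉ Subgroup.centralizer (SS : Set G) := by
      intro hgg
      refine hgS ?_
      obtain ⟨m, hm⟩ := Nat.odd_iff.mpr (Nat.two_dvd_ne_zero.mp (h.odd_orderOf_sq g))
      have hw : g ^ orderOf (g * g) ∈ SS := by
        have hp : IsPGroup 2 (Subgroup.zpowers (g ^ orderOf (g * g))) := fun x => ⟨1, by
          obtain ⟨x, i, rfl⟩ := x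
          refine Subtype.ext ?_
          show ((g ^ orderOf (g * g)) ^ i) ^ (2 ^ 1) = 1
          rw [pow_one, pow_two, ← zpow_add, show i + i = 2 * i by ring, zpow_mul,
            show (2 : ℤ) = ((2 : ℕ) : ℤ) from rfl, zpow_natCast, pow_two, ← pow_add, ← two_mul,
            pow_mul, pow_two, pow_orderOf_eq_one, one_zpow]⟩
        have hsup := hp.to_sup_of_normal_right' S.isPGroup'
          (Subgroup.zpowers_le.mpr (pow_mem hgN _))
        exact (S.is_maximal' hsup le_sup_right).le (Subgroup.mem_sup_left (Subgroup.mem_zpowers _))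
      have e : g = ((g * g) ^ m)⁻¹ * g ^ orderOf (g * g) := by
        rw [eq_inv_mul_iff_mul_eq, ← pow_two, ← pow_mul, ← pow_succ, pow_two g, hm]
      rw [e]
      exact mul_mem (inv_mem (pow_mem hgg m))
        (mem_centralizer_iff.mpr fun z hz => h.mul_comm_mem hz hw)
    obtain ⟨m5, m6⟩ := h.small_moves hq (mul_mem hgN hgN) (mul_mem hgt hgt) hgg ha'S ha1 hat
    rw [show g * g * a0 * (g * g)⁻¹ = a2 by rw [ha2', ha1']; group] at m5 m6
    -- three cosets
    have hcls : ∀ z ∈ SS, z ≠ 1 → z ≠ t →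
        z = a0 ∨ z = a0 * t ∨ z = a1 ∨ z = a1 * t ∨ z = a2 ∨ z = a2 * t := by
      intro z hz hz1 hzt'
      by_contra hcon
      simp only [not_or] at hcon
      obtain ⟨c0, c0', c1, c1', c2, c2'⟩ := hcon
      have hS2 : ∀ {x : G}, x ∈ SS → x * t * t = x := fun {x} hx => by
        rw [mul_assoc, h.sq_eq_one h.mem, mul_one]
      let L : List G := [1, t, a0, a0 * t, a1, a1 * t, a2, a2 * t, z]
      have hsub : ∀ x ∈ L, x ∈ SS := by
        intro x hx
        have hm' := h.mem
        have h1 := hgS' ha'S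
        have h2 := hgS' h1
        simp only [L, List.mem_cons, List.not_mem_nil, or_false] at hx
        rcases hx with rfl | rfl | rfl | rfl | rfl | rfl | rfl | rfl | rfl <;>
          first | exact one_mem _ | assumption | exact mul_mem (by assumption) hm'
      have hne' : ∀ {x : G}, x ∈ SS → x ≠ t → (1 : G) ≠ x * t := fun {x} hx hxt e => hxt (by
        rw [← hS2 hx, ← e, one_mul])
      have hnt : ∀ {x : G}, x ≠ 1 → t ≠ x * t := fun {x} hx e => hx (mul_eq_right.mp e.symm)
      have hcr : ∀ {x z' : G}, x ∈ SS → z' ≠ x * t → x * t ≠ z' := fun {_ _} _ e => Ne.symm e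
      have hnd : L.Nodup := by
        have hA := hgS' ha'S
        have hB := hgS' hA
        simp only [L, List.nodup_cons, List.mem_cons, List.not_mem_nil, or_false, not_or,
          List.nodup_nil, and_true, not_false_eq_true, mul_left_inj]
        refine ⟨⟨Ne.symm h.t_ne_one, Ne.symm ha1, hne' ha'S hat, Ne.symm ha11, hne' hA ha1t,
            Ne.symm ha21, hne' hB ha2t, Ne.symm hz1⟩,
          ⟨Ne.symm hat, hnt ha1, Ne.symm ha1t, hnt ha11, Ne.symm ha2t, hnt ha21, Ne.symm hzt'⟩,
          ⟨fun e => h.t_ne_one (left_eq_mul.mp e), Ne.symm m1, fun e => m2 (by rw [e, hS2 hA]),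
            Ne.symm m5, fun e => m6 (by rw [e, hS2 hB]), Ne.symm c0⟩,
          ⟨fun e => m2 e.symm, Ne.symm m1, fun e => m6 e.symm, Ne.symm m5, Ne.symm c0'⟩,
          ⟨fun e => h.t_ne_one (left_eq_mul.mp e), Ne.symm m3, fun e => m4 (by rw [e, hS2 hB]),
            Ne.symm c1⟩,
          ⟨fun e => m4 e.symm, Ne.symm m3, Ne.symm c1'⟩,
          ⟨fun e => h.t_ne_one (left_eq_mul.mp e), Ne.symm c2⟩, Ne.symm c2'⟩
      have h8 : L.toFinset.card ≤ (SS : Set G).toFinset.card := Finset.card_le_card fun x hx =>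
        Set.mem_toFinset.mpr (hsub x (List.mem_toFinset.mp hx))
      rw [List.toFinset_card_of_nodup hnd, ← Set.ncard_eq_toFinset_card', ← Nat.card_coe_set_eq,
        show Nat.card ↥(SS : Set G) = 8 from hq] at h8
      simp [L] at h8
    -- conjugate within the kernel
    have hconjK : ∀ (k : K) (x : lam.ker) (z : lam.ker),
        (k : G) * ((x : K) : G) * (k : G)⁻¹ = ((z : K) : G) → IsConj x z := by
      intro k x z e
      have eK : k * (x : K) * k⁻¹ = (z : K) := Subtype.ext e
      obtain ⟨k', hk'⟩ := htop k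
      refine isConj_iff.mpr ⟨k', Subtype.ext ?_⟩
      show (k' : K) * x * (k' : K)⁻¹ = (z : K)
      rcases hk' with rfl | rfl
      · exact eK
      · rw [(hcen (k' : K)).eq, mul_inv_rev, show (k' : K) * tK * x * (tK⁻¹ * (k' : K)⁻¹) =
            (k' : K) * (tK * x) * tK⁻¹ * (k' : K)⁻¹ by group, (hcen (x : K)).eq] at eK
        rw [← eK]; group
    have hlam1 : ∀ x : lam.ker, ∀ z : G, ∀ (k : K), (k : G) * a0 * (k : G)⁻¹ * z = ((x : K) : G) →
        z = t → False := by
      intro x z k e ez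
      subst ez
      have eK : k * (a' : K) * k⁻¹ * tK = (x : K) := Subtype.ext e
      have := congrArg lam eK
      rw [map_mul, map_mul, map_mul, map_inv, MonoidHom.mem_ker.mp a'.2, MonoidHom.mem_ker.mp x.2,
        mul_one, mul_inv_cancel, one_mul, hlam] at this
      exact absurd this (by decide)
    rcases hcls _ hb'S hb1 hbt with e | e | e | e | e | e
    · exact hconjK 1 a' b' (by simp [e, ha0])
    · exact (hlam1 b' t 1 (by simp [e]) rfl).elim
    · exact hconjK gK a' b' (by rw [e])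
    · exact (hlam1 b' t gK (by rw [e]) rfl).elim
    · exact hconjK (gK * gK) a' b' (by
        rw [e, ha2', ha1']; show g * g * a0 * (g * g)⁻¹ = _; group)
    · exact (hlam1 b' t (gK * gK) (by
        rw [e, ha2', ha1']; show g * g * a0 * (g * g)⁻¹ * t = _; group) rfl).elim
  obtain ⟨v, hv, sgn, hKD⟩ := exists_kleinData (M := M) hM P hP hexp hone
  set b := pb M lam.ker with hb
  have hbcard : b.card = 4 := by
    rw [hb, pb, ← Set.ncard_eq_toFinset_card, ← Nat.card_coe_set_eq]
    exact hKD.card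
  have hs2 : ∀ η ∈ b, sgn η * sgn η = 1 := fun η hη => hKD.sq η (mem_pb.mp hη)
  -- the functions `x ↦ χ(t x)` on the kernel
  let f : IrrCharacter G → lam.ker → ℂ := fun χ x => (χ : G → ℂ) (t * ((x : K) : G))
  have hfcl : ∀ χ, IsClassFunction lam.ker (f χ) := fun χ a c => by
    have hct : ((c : K) : G) * t = t * ((c : K) : G) := mem_centralizer_singleton_iff.mp (c : K).2
    show (χ : G → ℂ) (t * (((c : K) : G) * ((a : K) : G) * ((c : K) : G)⁻¹)) = _
    rw [show t * (((c : K) : G) * ((a : K) : G) * ((c : K) : G)⁻¹) =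
        (t * ((c : K) : G)) * ((a : K) : G) * ((c : K) : G)⁻¹ by group, ← hct,
      show ((c : K) : G) * t * ((a : K) : G) * ((c : K) : G)⁻¹ =
        ((c : K) : G) * (t * ((a : K) : G)) * ((c : K) : G)⁻¹ by group, Char.isClassFunction_irr χ]
  have hint : ∀ (χ : IrrCharacter G) (η : IrrCharacter lam.ker),
      ∃ z : ℤ, classInner (f χ) (η : lam.ker → ℂ) = z := by
    intro χ η
    obtain ⟨θ, hθ, hθt⟩ := hsplit.exists_ext η false
    have hres : IsCharacter K (fun x : K => (χ : G → ℂ) x) :=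
      Char.isCharacter_comp (Char.isCharacter_irr χ) K.subtype
    obtain ⟨n1, h1⟩ := Char.classInner_isCharacter hres (Char.isCharacter_irr θ)
    obtain ⟨n2, h2⟩ := Char.classInner_isCharacter
      (Char.isCharacter_comp hres lam.ker.subtype) (Char.isCharacter_irr η)
    refine ⟨(n2 : ℤ) - 2 * n1, ?_⟩
    push_cast
    rw [← h1, ← h2, classInner, classInner, classInner, hsplit.card_eq, hsplit.sum_split]
    simp only [Subgroup.coe_subtype, hθ, hθt, f, Bool.false_eq_true, if_false, neg_one_mul, map_neg,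
      mul_neg, Finset.sum_neg_distrib, Subgroup.coe_mul]
    push_cast
    field_simp
    ring
  choose e he using hint
  -- the coefficients
  let R : IrrCharacter G → IrrCharacter lam.ker → ℂ := fun χ η =>
    (Nat.card lam.ker : ℂ)⁻¹ * ∑ x ∈ Finset.univ.filter (fun x : lam.ker => ¬ 2 ∣ orderOf x),
      f χ x * conj ((η : lam.ker → ℂ) x)
  let E : IrrCharacter G → ℤ := fun χ => ∑ η ∈ b, sgn η * e χ η
  have hregInner : ∀ η' η : IrrCharacter lam.ker, (Nat.card lam.ker : ℂ)⁻¹ *
      ∑ x ∈ Finset.univ.filter (fun x : lam.ker => ¬ 2 ∣ orderOf x),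
        (η' : lam.ker → ℂ) x * conj ((η : lam.ker → ℂ) x) = regInner 2 η' η := by
    intro η' η
    rw [Finset.sum_congr rfl fun x _ => by rw [← Char.irr_inv], ← card_mul_regInner, ← mul_assoc,
      inv_mul_cancel₀ (Nat.cast_ne_zero.mpr Nat.card_pos.ne'), one_mul]
  have hR : ∀ χ η, η ∈ b → R χ η = (e χ η : ℂ) - (1 / 4 : ℂ) * (sgn η : ℂ) * (E χ : ℂ) := by
    intro χ η hη
    have h0 : R χ η = ∑ η' : IrrCharacter lam.ker, (e χ η' : ℂ) * regInner 2 η' η := by
      simp only [R]
      rw [Finset.sum_congr rfl fun x _ => show f χ x * conj ((η : lam.ker → ℂ) x) =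
        ∑ η' : IrrCharacter lam.ker, (e χ η' : ℂ) * ((η' : lam.ker → ℂ) x * conj ((η : lam.ker → ℂ) x)) by
        rw [congrFun (Char.classFun_expand (hfcl χ)) x, Finset.sum_apply, Finset.sum_mul]
        exact Finset.sum_congr rfl fun η' _ => by rw [Pi.smul_apply, smul_eq_mul, he, mul_assoc]]
      rw [Finset.sum_comm, Finset.mul_sum]
      refine Finset.sum_congr rfl fun η' _ => ?_
      rw [← Finset.mul_sum, mul_left_comm, hregInner]
    rw [h0, ← Finset.sum_subset (Finset.subset_univ b) fun η' _ hη' => by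
      rw [← conj_regInner, regInner_eq_zero_of_not_mem hM (IsBlockUnion.of_isPBlock
        isPBlock_principalBlock) (mem_pb.mp hη) (mt mem_pb.mpr hη'), map_zero, mul_zero],
      Finset.sum_congr rfl fun η' hη' => by rw [regInner_klein hM hv hKD hη' hη, mul_sub],
      Finset.sum_sub_distrib]
    simp only [mul_ite, mul_one, mul_zero, Finset.sum_ite_eq', hη, if_true, E, Int.cast_sum,
      Int.cast_mul, Finset.mul_sum]
    congr 1
    exact Finset.sum_congr rfl fun η' _ => by ring
  have hgram : ∀ η η', η ∈ b → η' ∈ b →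
      ∑ χ ∈ pb M G, R χ η * conj (R χ η') = 2 * regInner 2 η' η := by
    intro η η' hη hη'
    have hsec : ∀ x ∈ Finset.univ.filter (fun x : lam.ker => ¬ 2 ∣ orderOf x),
        ∀ z ∈ Finset.univ.filter (fun x : lam.ker => ¬ 2 ∣ orderOf x),
          ∑ χ ∈ pb M G, f χ x * conj (f χ z) =
            2 * ∑ θ ∈ b, (θ : lam.ker → ℂ) x * conj ((θ : lam.ker → ℂ) z) := by
      intro x hx z hz
      simp only [Finset.mem_filter, Finset.mem_univ, true_and] at hx hz
      rw [← hsplit.sum_pb_eq hM]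
      exact sum_section_eq hM h.invol (x : K) (z : K) (by rwa [Subgroup.orderOf_coe])
        (by rwa [Subgroup.orderOf_coe])
    set F := Finset.univ.filter (fun x : lam.ker => ¬ 2 ∣ orderOf x)
    set c := (Nat.card lam.ker : ℂ)⁻¹ with hc
    have hcc : conj c = c := by rw [hc, map_inv₀, map_natCast]
    have e1 : ∑ χ ∈ pb M G, R χ η * conj (R χ η') = c * c *
        ∑ x ∈ F, ∑ z ∈ F, conj ((η : lam.ker → ℂ) x) * (η' : lam.ker → ℂ) z *
          ∑ χ ∈ pb M G, f χ x * conj (f χ z) := by
      calc ∑ χ ∈ pb M G, R χ η * conj (R χ η')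
          = ∑ χ ∈ pb M G, ∑ x ∈ F, ∑ z ∈ F, c * c *
              (conj ((η : lam.ker → ℂ) x) * (η' : lam.ker → ℂ) z * (f χ x * conj (f χ z))) := by
            refine Finset.sum_congr rfl fun χ _ => ?_
            simp only [R, ← hc, map_mul, hcc, map_sum, Complex.conj_conj]
            rw [mul_mul_mul_comm, Finset.sum_mul_sum, Finset.mul_sum]
            refine Finset.sum_congr rfl fun x _ => ?_
            rw [Finset.mul_sum]
            exact Finset.sum_congr rfl fun z _ => by ring
        _ = _ := by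
            rw [Finset.sum_comm, Finset.mul_sum]
            refine Finset.sum_congr rfl fun x _ => ?_
            rw [Finset.sum_comm, Finset.mul_sum]
            refine Finset.sum_congr rfl fun z _ => ?_
            rw [Finset.mul_sum, Finset.mul_sum]
    have e2 : ∀ θ : IrrCharacter lam.ker,
        c * c * ∑ x ∈ F, ∑ z ∈ F, conj ((η : lam.ker → ℂ) x) * (η' : lam.ker → ℂ) z *
          ((θ : lam.ker → ℂ) x * conj ((θ : lam.ker → ℂ) z)) =
        regInner 2 η' θ * regInner 2 θ η := by
      intro θ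
      rw [← hregInner η' θ, ← hregInner θ η, mul_mul_mul_comm, Finset.sum_mul_sum, Finset.sum_comm,
        Finset.mul_sum, Finset.mul_sum]
      refine Finset.sum_congr rfl fun x _ => ?_
      rw [Finset.mul_sum, Finset.mul_sum]
      exact Finset.sum_congr rfl fun z _ => by ring
    calc _ = _ := e1
      _ = c * c * ∑ x ∈ F, ∑ z ∈ F, ∑ θ ∈ b, conj ((η : lam.ker → ℂ) x) *
            (η' : lam.ker → ℂ) z *
              (2 * ((θ : lam.ker → ℂ) x * conj ((θ : lam.ker → ℂ) z))) := by
          congr 1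
          refine Finset.sum_congr rfl fun x hx => Finset.sum_congr rfl fun z hz => ?_
          rw [hsec x hx z hz, Finset.mul_sum, Finset.mul_sum]
      _ = 2 * ∑ θ ∈ b, c * c * ∑ x ∈ F, ∑ z ∈ F, conj ((η : lam.ker → ℂ) x) *
            (η' : lam.ker → ℂ) z * ((θ : lam.ker → ℂ) x * conj ((θ : lam.ker → ℂ) z)) := by
          rw [Finset.sum_congr rfl fun x _ => Finset.sum_comm, Finset.sum_comm]
          simp only [Finset.mul_sum]
          exact Finset.sum_congr rfl fun θ _ => Finset.sum_congr rfl fun x _ =>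
            Finset.sum_congr rfl fun z _ => by ring
      _ = _ := by
          rw [Finset.sum_congr rfl fun θ _ => e2 θ,
            Finset.sum_subset (Finset.subset_univ b) fun θ _ hθ => by
              rw [regInner_eq_zero_of_not_mem hM (IsBlockUnion.of_isPBlock isPBlock_principalBlock)
                (mem_pb.mp hη') (mt mem_pb.mpr hθ), zero_mul],
            sum_regInner_mul_regInner]
  -- the quadratic forms
  let N : IrrCharacter G → ℤ := fun χ => 4 * ∑ η ∈ b, e χ η * e χ η - E χ ^ 2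
  have hN : ∀ χ, (N χ : ℂ) = 4 * ∑ η ∈ b, R χ η * conj (R χ η) := by
    intro χ
    rw [Finset.sum_congr rfl (g := fun η => (e χ η : ℂ) * (e χ η) -
      (1 / 2 : ℂ) * (E χ) * ((sgn η : ℂ) * (e χ η)) + (1 / 16 : ℂ) * (E χ) * (E χ)) fun η hη => ?_]
    · rw [Finset.sum_add_distrib, Finset.sum_sub_distrib, ← Finset.mul_sum, Finset.sum_const, hbcard,
        show ∑ η ∈ b, (sgn η : ℂ) * (e χ η : ℂ) = (E χ : ℂ) by simp [E]]
      simp only [N, Int.cast_sub, Int.cast_mul, Int.cast_pow, Int.cast_sum, Int.cast_ofNat,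
        nsmul_eq_mul]
      push_cast
      ring
    · have hs : ((sgn η : ℂ)) * (sgn η) = 1 := by exact_mod_cast hs2 η hη
      rw [hR χ η hη, map_sub, map_mul, map_mul, map_intCast, map_intCast, map_intCast, map_div₀,
        map_one, map_ofNat]
      linear_combination ((1 / 16 : ℂ) * (E χ) * (E χ)) * hs
  have hNtot : ∑ χ ∈ pb M G, N χ = 24 := by
    have hcast : ((∑ χ ∈ pb M G, N χ : ℤ) : ℂ) = 24 := by
      rw [Int.cast_sum, Finset.sum_congr rfl fun χ _ => hN χ, ← Finset.mul_sum, Finset.sum_comm,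
        Finset.sum_congr rfl fun η hη => hgram η η hη hη,
        Finset.sum_congr rfl (g := fun _ => (3 / 2 : ℂ)) fun η hη => by
          rw [regInner_klein hM hv hKD hη hη, if_pos rfl,
            show (sgn η : ℂ) * (sgn η) = 1 by exact_mod_cast hs2 η hη]
          norm_num, Finset.sum_const, hbcard]
      norm_num
    exact_mod_cast hcast
  -- `χ(t)` is a combination of the coefficients
  have hat : ∀ χ ∈ pb M G, (χ : G → ℂ) t = ∑ η ∈ b, (η : lam.ker → ℂ) 1 * R χ η := by
    set F := Finset.univ.filter (fun x : lam.ker => ¬ 2 ∣ orderOf x)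
    set c := (Nat.card lam.ker : ℂ)⁻¹ with hc
    set d : ℂ := ∑ η ∈ b, (η : lam.ker → ℂ) 1 * conj ((η : lam.ker → ℂ) 1) with hd
    have h1F : (1 : lam.ker) ∈ F := by simp [F]
    have hft : ∀ χ : IrrCharacter G, f χ 1 = (χ : G → ℂ) t := fun χ => by simp [f]
    have hsec1 : ∀ x ∈ F, ∑ χ ∈ pb M G, f χ x * conj ((χ : G → ℂ) t) =
        2 * ∑ θ ∈ b, (θ : lam.ker → ℂ) x * conj ((θ : lam.ker → ℂ) 1) := by
      intro x hx
      simp only [F, Finset.mem_filter, Finset.mem_univ, true_and] at hx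
      rw [← hsplit.sum_pb_eq hM, ← sum_section_eq hM h.invol (x : K) ((1 : lam.ker) : K)
        (by rwa [Subgroup.orderOf_coe]) (by simp)]
      exact Finset.sum_congr rfl fun χ _ => by rw [← hft χ]
    have hsgn0 : ∑ η ∈ b, (η : lam.ker → ℂ) 1 * (sgn η : ℂ) = 0 := by
      rw [hb, ← finsum_pb]
      exact hKD.orth 1 (by simp)
    -- `Σ η(1) θ(1) [θ°, η] = d`
    have hP : ∑ η ∈ b, ∑ θ ∈ b, (η : lam.ker → ℂ) 1 * (θ : lam.ker → ℂ) 1 * regInner 2 θ η = d := by
      rw [Finset.sum_congr rfl fun η hη => Finset.sum_congr rfl fun θ hθ => by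
        rw [regInner_klein hM hv hKD hθ hη]]
      calc _ = ∑ η ∈ b, ((η : lam.ker → ℂ) 1 * (η : lam.ker → ℂ) 1 - (1 / 4 : ℂ) *
            ((η : lam.ker → ℂ) 1 * (sgn η : ℂ)) * ∑ θ ∈ b, (θ : lam.ker → ℂ) 1 * (sgn θ : ℂ)) := by
            refine Finset.sum_congr rfl fun η hη => ?_
            simp only [mul_sub, Finset.sum_sub_distrib, mul_ite, mul_one, mul_zero, Finset.sum_ite_eq',
              hη, if_true, Finset.mul_sum]
            congr 1
            exact Finset.sum_congr rfl fun θ _ => by ring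
        _ = d := by
            simp only [hsgn0, mul_zero, sub_zero, hd, Char.conj_irr_one]
    let α : IrrCharacter G → ℂ := fun χ => ∑ η ∈ b, (η : lam.ker → ℂ) 1 * R χ η
    have h22 : ∑ χ ∈ pb M G, (χ : G → ℂ) t * conj ((χ : G → ℂ) t) = 2 * d := by
      rw [hd, ← hsec1 1 h1F]
      exact Finset.sum_congr rfl fun χ _ => by rw [hft]
    have h11 : ∑ χ ∈ pb M G, α χ * conj (α χ) = 2 * d := by
      calc ∑ χ ∈ pb M G, α χ * conj (α χ) = ∑ η ∈ b, ∑ η' ∈ b, (η : lam.ker → ℂ) 1 *
            (η' : lam.ker → ℂ) 1 * ∑ χ ∈ pb M G, R χ η * conj (R χ η') := by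
            simp only [α, map_sum, map_mul, Char.conj_irr_one, Finset.sum_mul_sum]
            rw [Finset.sum_comm]
            refine Finset.sum_congr rfl fun η _ => ?_
            rw [Finset.sum_comm]
            refine Finset.sum_congr rfl fun η' _ => ?_
            rw [Finset.mul_sum]
            exact Finset.sum_congr rfl fun χ _ => by ring
        _ = _ := by
            rw [← hP, Finset.mul_sum]
            refine Finset.sum_congr rfl fun η hη => ?_
            rw [Finset.mul_sum]
            refine Finset.sum_congr rfl fun θ hθ => ?_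
            rw [hgram η θ hη hθ]
            ring
    have h12 : ∑ χ ∈ pb M G, α χ * conj ((χ : G → ℂ) t) = 2 * d := by
      calc ∑ χ ∈ pb M G, α χ * conj ((χ : G → ℂ) t) = ∑ η ∈ b, (η : lam.ker → ℂ) 1 * (c *
            ∑ x ∈ F, conj ((η : lam.ker → ℂ) x) * ∑ χ ∈ pb M G, f χ x * conj ((χ : G → ℂ) t)) := by
            simp only [α, R, ← hc, Finset.sum_mul]
            rw [Finset.sum_comm]
            refine Finset.sum_congr rfl fun η _ => ?_
            simp only [Finset.mul_sum, Finset.sum_mul]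
            rw [Finset.sum_comm]
            exact Finset.sum_congr rfl fun x _ => Finset.sum_congr rfl fun χ _ => by ring
        _ = _ := by
            rw [← hP, Finset.mul_sum]
            refine Finset.sum_congr rfl fun η hη => ?_
            rw [Finset.sum_congr rfl fun x hx => by rw [hsec1 x hx]]
            simp only [Finset.mul_sum]
            rw [Finset.sum_comm]
            refine Finset.sum_congr rfl fun θ _ => ?_
            rw [← hregInner θ η, Finset.mul_sum, Finset.mul_sum, Finset.mul_sum]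
            refine Finset.sum_congr rfl fun x _ => ?_
            rw [Char.conj_irr_one]
            ring
    have hdc : conj (2 * d) = 2 * d := by
      simp only [hd, map_mul, map_ofNat, map_sum, Complex.conj_conj]
      congr 1
      exact Finset.sum_congr rfl fun η _ => mul_comm _ _
    have h21 : ∑ χ ∈ pb M G, (χ : G → ℂ) t * conj (α χ) = 2 * d := by
      rw [← hdc, ← h12, map_sum]
      exact Finset.sum_congr rfl fun χ _ => by rw [map_mul, Complex.conj_conj, mul_comm]
    exact eq_of_sum_normSq (pb M G) (fun χ => (χ : G → ℂ) t) α h22 h21 h12 h11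
  -- at most eight characters are nonzero at `t`
  have hN0 : ∀ χ, 0 ≤ N χ := fun χ => by
    rcases quad_bound b hbcard sgn (e χ) hs2 with h' | h'
    · exact h'.ge
    · exact le_trans (by norm_num) h'
  have hNt : ∀ χ ∈ pb M G, (χ : G → ℂ) t ≠ 0 → 3 ≤ N χ := by
    intro χ hχ hne
    rcases quad_bound b hbcard sgn (e χ) hs2 with h' | h'
    swap
    · exact h'
    exfalso
    have h1 : (N χ : ℂ) = 0 := by exact_mod_cast h'
    rw [hN, mul_eq_zero, or_iff_right (by norm_num : (4 : ℂ) ≠ 0)] at h1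
    have h2 : ∑ η ∈ b, (Complex.normSq (R χ η) : ℂ) = 0 := by
      rw [← h1]; exact Finset.sum_congr rfl fun η _ => (Complex.mul_conj _).symm
    have h3 : ∑ η ∈ b, Complex.normSq (R χ η) = 0 := by exact_mod_cast h2
    refine hne ((hat χ hχ).trans (Finset.sum_eq_zero fun η hη => ?_))
    rw [Complex.normSq_eq_zero.mp ((Finset.sum_eq_zero_iff_of_nonneg fun j _ =>
      Complex.normSq_nonneg _).mp h3 η hη), mul_zero]
  have hj : ∀ χ ∈ pb' M G, -1 ≤ jv S χ := fun χ hχ => h.jv_ge hq4 hχ
  set J := (pb' M G).filter (fun χ => jv S χ ≠ 0) with hJ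
  have hJcard : J.card ≤ 7 := by
    have h1 : 3 * ((J.card : ℤ) + 1) ≤ ∑ χ ∈ pb M G, N χ := by
      calc 3 * ((J.card : ℤ) + 1) = ∑ χ ∈ insert (oneChar G) J, (3 : ℤ) := by
            rw [Finset.sum_const, Finset.card_insert_of_notMem (fun hm =>
              (mem_pb'.mp (Finset.mem_filter.mp hm).1).1 rfl), nsmul_eq_mul]
            push_cast; ring
        _ ≤ ∑ χ ∈ insert (oneChar G) J, N χ := by
            refine Finset.sum_le_sum fun χ hχ => hNt χ ?_ ?_
            · rcases Finset.mem_insert.mp hχ with rfl | hm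
              · exact mem_pb.mpr one_mem_principalBlock
              · exact mem_pb_iff.mpr (.inr (Finset.mem_filter.mp hm).1)
            · rcases Finset.mem_insert.mp hχ with rfl | hm
              · rw [oneChar_apply]; exact one_ne_zero
              · rw [h.apply_t hq4 (Finset.mem_filter.mp hm).1]
                exact_mod_cast (Finset.mem_filter.mp hm).2
        _ ≤ _ := Finset.sum_le_sum_of_subset_of_nonneg (fun χ hχ => by
            rcases Finset.mem_insert.mp hχ with rfl | hm
            · exact mem_pb.mpr one_mem_principalBlock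
            · exact mem_pb_iff.mpr (.inr (Finset.mem_filter.mp hm).1)) fun χ _ _ => hN0 χ
    rw [hNtot] at h1
    omega
  -- `d' = -Σ' j` is one
  have hsum : ∑ η ∈ pb M K, (η : K → ℂ) 1 * conj ((η : K → ℂ) 1) =
      2 * ∑ η ∈ b, (η : lam.ker → ℂ) 1 * conj ((η : lam.ker → ℂ) 1) := hsplit.sum_pb_eq hM 1 1
  rw [h.card_principal_sum hq4] at hsum
  set D := -∑ χ ∈ pb' M G, jv S χ with hD
  have hsum' : (8 : ℤ) * D = 2 * ∑ η ∈ b, (deg η : ℤ) * deg η := by
    have h1 : (((8 : ℤ) * D : ℤ) : ℂ) = ((2 * ∑ η ∈ b, (deg η : ℤ) * deg η : ℤ) : ℂ) := by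
      refine Eq.trans ?_ (hsum.trans ?_)
      · congr 1
        rw [hq, hD]; push_cast; ring
      · simp [apply_one]
    exact_mod_cast h1
  have hdegpos : 0 < ∑ η ∈ b, (deg η : ℤ) * deg η :=
    Finset.sum_pos (fun η _ => by have := deg_pos η; positivity) (Finset.card_pos.mp (by omega))
  have hD1 : D = 1 := by
    set J₁ := J.filter (fun χ => 0 < jv S χ) with hJ1
    have hsplitJ : ∀ F : ℤ → ℤ, F 0 = 0 → ∑ χ ∈ pb' M G, F (jv S χ) =
        ((J.card - J₁.card : ℕ) : ℤ) * F (-1) + ∑ χ ∈ J₁, F (jv S χ) := by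
      intro F hF
      rw [← Finset.sum_filter_of_ne (p := fun χ => jv S χ ≠ 0) fun χ _ hne e => hne (by rw [e, hF]),
        ← hJ, ← Finset.sum_filter_add_sum_filter_not J (fun χ => 0 < jv S χ), add_comm, ← hJ1]
      congr 1
      rw [Finset.sum_congr rfl (g := fun _ => F (-1)) fun χ hχ => by
        simp only [hJ, Finset.mem_filter] at hχ
        have := hj χ hχ.1.1
        rw [show jv S χ = -1 by omega], Finset.sum_const, Finset.filter_not,
        Finset.card_sdiff_of_subset (Finset.filter_subset _ _), nsmul_eq_mul]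
    have hle : J₁.card ≤ J.card := Finset.card_filter_le _ _
    have e1 := hsplitJ id rfl
    simp only [id] at e1
    have e2 := h.sum_jv_mul
    rw [hq] at e2
    push_cast at e2
    have e3 : ∑ χ ∈ pb' M G, jv S χ * ((8 : ℤ) + jv S χ) =
        ((J.card - J₁.card : ℕ) : ℤ) * ((-1) * (8 + -1)) +
          ∑ χ ∈ J₁, jv S χ * ((8 : ℤ) + jv S χ) :=
      hsplitJ (fun j => j * (8 + j)) (by ring)
    rw [e3] at e2
    have hp : ∀ χ ∈ J₁, 1 ≤ jv S χ := fun χ hχ => (Finset.mem_filter.mp hχ).2
    have e4 : (J₁.card : ℤ) ≤ ∑ χ ∈ J₁, jv S χ := by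
      calc (J₁.card : ℤ) = ∑ _χ ∈ J₁, (1 : ℤ) := by simp
        _ ≤ _ := Finset.sum_le_sum hp
    have e5 := sum_le_sq J₁ (jv S) fun χ hχ => le_trans zero_le_one (hp χ hχ)
    have e6 : ∑ χ ∈ J₁, jv S χ * ((8 : ℤ) + jv S χ) =
        7 * ∑ χ ∈ J₁, jv S χ + ∑ χ ∈ J₁, jv S χ * (jv S χ + 1) := by
      rw [Finset.mul_sum, ← Finset.sum_add_distrib]
      exact Finset.sum_congr rfl fun χ _ => by ring
    rw [e6] at e2
    have hcard7 : ((J.card - J₁.card : ℕ) : ℤ) + (J₁.card : ℤ) ≤ 7 := by
      rw [Nat.cast_sub hle]; push_cast; omega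
    have hDdef : D = ((J.card - J₁.card : ℕ) : ℤ) - ∑ χ ∈ J₁, jv S χ := by rw [hD, e1]; ring
    have hXeven : 2 ∣ ∑ χ ∈ J₁, jv S χ * (jv S χ + 1) :=
      Finset.dvd_sum fun χ _ => (Int.even_mul_succ_self (jv S χ)).two_dvd
    set a := ((J.card - J₁.card : ℕ) : ℤ)
    set σ := ∑ χ ∈ J₁, jv S χ
    set X := ∑ χ ∈ J₁, jv S χ * (jv S χ + 1)
    set p := (J₁.card : ℤ)
    have hp0 : 0 ≤ p := Int.natCast_nonneg _
    have hDpos : 0 < D := by omega
    have hX : X = 7 * D - 1 := by rw [hDdef]; linarith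
    by_contra hD1
    have hD3 : 3 ≤ D := by omega
    have hσ : σ ≤ 4 := by omega
    have hσ0 : 0 ≤ σ := by omega
    rcases Nat.eq_zero_or_pos J₁.card with hz | hz
    · have : X = 0 := by
        simp only [X, Finset.card_eq_zero.mp hz, Finset.sum_empty]
      omega
    · have hσ3 : σ ≤ 3 := by omega
      have : X ≤ 12 := le_trans e5 (by nlinarith)
      omega
  -- four linear characters
  have hdeg1 : ∀ η ∈ b, deg η = 1 := by
    have h1 : ∑ η ∈ b, ((deg η : ℤ) * deg η - 1) = 0 := by
      rw [Finset.sum_sub_distrib, Finset.sum_const, hbcard]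
      rw [hD1] at hsum'
      norm_num
      linarith
    intro η hη
    have h2 := (Finset.sum_eq_zero_iff_of_nonneg fun x _ => by
      have := deg_pos x
      nlinarith).mp h1 η hη
    have h3 : deg η * deg η = 1 := by exact_mod_cast (sub_eq_zero.mp h2)
    exact Nat.eq_one_of_dvd_one ⟨_, h3.symm⟩
  have hone' : ∀ η ∈ b, sgn η = 1 := by
    intro η hη
    have h1 := hKD.congr η (mem_pb.mp hη)
    rw [show charDegree (η : lam.ker → ℂ) = 1 from hdeg1 η hη] at h1
    push_cast at h1
    rcases Int.eq_one_or_neg_one_of_mul_eq_one (hs2 η hη) with e | e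
    · exact e
    · rw [e] at h1; omega
  have h4 := hKD.orth 1 (by simp)
  rw [finsum_pb, Finset.sum_congr rfl (g := fun _ => (1 : ℂ)) fun η hη => by
    rw [apply_one, hdeg1 η hη, hone' η hη]; simp, Finset.sum_const, ← hb, hbcard] at h4
  norm_num at h4

end Setup

end CfsgLib.Block.ConstDiff
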