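import Cfsg.Agent.Lib.Block.ConstDiff.Kernel

/-!
# Every nonprincipal character of the block takes the value `χ(1) - q` at `t`
-/

set_option autoImplicit false
set_option linter.unusedSectionVars false
set_option linter.style.haveILetI false
set_option linter.unusedSimpArgs false

open Cfsg
open scoped ComplexConjugate

namespace CfsgLib.Block.ConstDiff

universe u

variable {M : Ideal AlgInt} [M.IsMaximal] {G : Type u} [Group G] [Fintype G] [DecidableEq G]
  {u t y : G} {S : Sylow 2 G}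

local notation "SS" => ((S : Subgroup G))

/-- The difference between the degree and the order of `S`. -/
noncomputable def jv (S : Sylow 2 G) (χ : IrrCharacter G) : ℤ :=
  (deg χ : ℤ) - (Nat.card (S : Subgroup G) : ℤ)

namespace Setup

variable (h : Setup M u t y S)
include h

/-- The values on `S` away from 1. -/
theorem apply_mem {s : G} (hs : s ∈ SS) (hs1 : s ≠ 1) (χ : IrrCharacter G) :
    (χ : G → ℂ) s = (χ : G → ℂ) t := by
  obtain ⟨c, hc⟩ := isConj_iff.mp (h.isConj_of_mem hs hs1)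
  rw [← hc, Char.isClassFunction_irr χ]

theorem sum_S (χ : IrrCharacter G) [Fintype SS] :
    ∑ s : SS, (χ : G → ℂ) (s : G) =
      (deg χ : ℂ) + ((Nat.card SS : ℂ) - 1) * (χ : G → ℂ) t := by
  classical
  rw [← Finset.add_sum_erase _ _ (Finset.mem_univ (1 : SS)), Subgroup.coe_one, apply_one,
    Finset.sum_congr rfl (g := fun _ => (χ : G → ℂ) t) (fun (s : SS) hs =>
      h.apply_mem s.2 (fun e => (Finset.mem_erase.mp hs).1 (Subtype.ext e)) χ), Finset.sum_const,
    Finset.card_erase_of_mem (Finset.mem_univ _), Finset.card_univ, nsmul_eq_mul,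
    Nat.card_eq_fintype_card, Nat.cast_sub Fintype.card_pos, Nat.cast_one]

/-- `χ(t) = χ(1) - q m` with `1 ≤ m` and `(q - 1) m ≤ χ(1)`. -/
theorem exists_mult (hq : 4 ≤ Nat.card SS) {χ : IrrCharacter G} (hχ : χ ∈ pb' M G) :
    ∃ m : ℤ, 1 ≤ m ∧ (χ : G → ℂ) t = (((deg χ : ℤ) - (Nat.card SS : ℤ) * m : ℤ) : ℂ) ∧
      ((Nat.card SS : ℤ) - 1) * m ≤ deg χ := by
  classical
  haveI := Fintype.ofFinite (SS)
  obtain ⟨z, hz, hle⟩ := h.exists_val_t χ
  obtain ⟨r, hr⟩ := Char.classInner_isCharacter (G := SS)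
    (Char.isCharacter_comp (Char.isCharacter_irr χ) (SS).subtype) (Char.isCharacter_irr (oneChar SS))
  rw [classInner, inv_mul_eq_iff_eq_mul₀ (Nat.cast_ne_zero.mpr Nat.card_pos.ne')] at hr
  simp only [oneChar_apply, map_one, mul_one, Subgroup.coe_subtype] at hr
  rw [h.sum_S, hz] at hr
  have hr' : (deg χ : ℤ) + ((Nat.card SS : ℤ) - 1) * z = (Nat.card SS : ℤ) * r := by
    exact_mod_cast hr
  refine ⟨(r : ℤ) - z, ?_, ?_, ?_⟩
  · by_contra hm
    have hq1 : (4 : ℤ) ≤ (Nat.card SS : ℤ) := by exact_mod_cast hq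
    have hzd : z = (deg χ : ℤ) := by
      refine le_antisymm hle ?_
      nlinarith
    refine h.not_trivial_on_S hq hχ fun s hs => ?_
    by_cases hs1 : s = 1
    · rw [hs1]
    · rw [h.apply_mem hs hs1, hz, hzd, apply_one, Int.cast_natCast]
  · rw [hz]
    congr 1
    linear_combination -hr'
  · nlinarith [hr', (Int.natCast_nonneg r)]

/-- The value at `t`. -/
theorem apply_t (hq : 4 ≤ Nat.card SS) {χ : IrrCharacter G} (hχ : χ ∈ pb' M G) :
    (χ : G → ℂ) t = (jv S χ : ℂ) := by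
  classical
  choose m hm1 hm2 hm3 using fun χ : {χ // χ ∈ pb' M G} => h.exists_mult hq χ.2
  have h0 := sum_one_sing h.modular (h := t) (by rw [h.invol])
  rw [sum_pb, deg_oneChar, oneChar_apply, Nat.cast_one, one_mul, ← Finset.sum_coe_sort] at h0
  simp only [hm2] at h0
  have h1 : (1 : ℤ) + ∑ χ : {χ // χ ∈ pb' M G},
      (deg χ.1 : ℤ) * ((deg χ.1 : ℤ) - (Nat.card SS : ℤ) * m χ) = 0 := by exact_mod_cast h0
  have h2 := h.sum_deg
  rw [← Finset.sum_coe_sort] at h2
  have h3 : ∑ χ : {χ // χ ∈ pb' M G}, (deg χ.1 : ℤ) * ((Nat.card SS : ℤ) * (m χ - 1)) = 0 := by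
    simp only [mul_sub, Finset.sum_sub_distrib, mul_one] at h1 h2 ⊢
    linarith
  have h4 := (Finset.sum_eq_zero_iff_of_nonneg fun (x : {χ // χ ∈ pb' M G}) _ => by
    have := hm1 x; positivity).mp h3 ⟨χ, hχ⟩ (Finset.mem_univ _)
  have hd := deg_pos χ
  have h5 : m ⟨χ, hχ⟩ = 1 := by
    rcases mul_eq_zero.mp h4 with e | e
    · exact absurd e (by exact_mod_cast hd.ne')
    · rcases mul_eq_zero.mp e with e | e
      · exact absurd e (by exact_mod_cast Nat.card_pos.ne')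
      · omega
  rw [hm2 ⟨χ, hχ⟩, h5, jv, mul_one]

theorem jv_ge (hq : 4 ≤ Nat.card SS) {χ : IrrCharacter G} (hχ : χ ∈ pb' M G) : -1 ≤ jv S χ := by
  obtain ⟨m, hm1, -, hm3⟩ := h.exists_mult hq hχ
  have hq1 : (4 : ℤ) ≤ (Nat.card SS : ℤ) := by exact_mod_cast hq
  rw [jv]
  nlinarith

/-- `Σ' j (q + j) = -1`. -/
theorem sum_jv_mul : ∑ χ ∈ pb' M G, jv S χ * ((Nat.card SS : ℤ) + jv S χ) = -1 := by
  rw [← h.sum_deg, ← Finset.sum_neg_distrib]
  exact Finset.sum_congr rfl fun χ _ => by rw [jv]; ring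

/-- `Σ_B χ(t)² = - q Σ' j`. -/
theorem sum_sq_t (hq : 4 ≤ Nat.card SS) :
    ∑ χ ∈ pb M G, (χ : G → ℂ) t * conj ((χ : G → ℂ) t) =
      ((-((Nat.card SS : ℤ) * ∑ χ ∈ pb' M G, jv S χ) : ℤ) : ℂ) := by
  rw [sum_pb, oneChar_apply, map_one, mul_one, Finset.sum_congr rfl (g := fun χ : IrrCharacter G =>
      ((jv S χ * jv S χ : ℤ) : ℂ)) fun χ hχ => by
    rw [h.apply_t hq hχ, map_intCast, Int.cast_mul]]
  rw [← Int.cast_sum, ← Int.cast_one (R := ℂ), ← Int.cast_add]
  congr 1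
  have := h.sum_jv_mul
  simp only [mul_add, Finset.sum_add_distrib, ← Finset.sum_mul] at this
  linarith

theorem apply_u (hq : 4 ≤ Nat.card SS) {χ : IrrCharacter G} (hχ : χ ∈ pb' M G) :
    (χ : G → ℂ) u = (χ : G → ℂ) t := by
  have he := h.eq χ hχ
  rw [apply_one] at he
  rw [h.apply_t hq hχ, jv]
  push_cast
  linear_combination -he

end Setup

end CfsgLib.Block.ConstDiff
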